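import Groth.Prelude.Def_EtBase
import Groth.Prelude.Def_SGA4b
import Groth.Agent.SitePts.Reflect
/-!
Stalkwise criteria on the small étale site of a scheme.
-/

set_option autoImplicit false
set_option backward.isDefEq.respectTransparency false

universe u

open CategoryTheory CategoryTheory.Limits AlgebraicGeometry Opposite

namespace Groth.Agent.EtPtsLib

variable {X : Scheme.{u}}

/-- The geometric point of a point given by a separable closure of its residue field. -/
noncomputable def geomPt (x : X) :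
    Spec (CommRingCat.of (SeparableClosure (X.residueField x))) ⟶ X :=
  (Scheme.SpecToEquivOfField (SeparableClosure (X.residueField x)) X).2
    ⟨x, CommRingCat.ofHom (algebraMap (X.residueField x) (SeparableClosure (X.residueField x)))⟩

@[simp] theorem geomPt_default (x : X) : geomPt x default = x := by
  simp [geomPt, Scheme.SpecToEquivOfField]

set_option backward.isDefEq.respectTransparency false in
theorem detects (X : Scheme.{u}) :
    SitePts.Detects (fun x : X => Scheme.pointSmallEtale (geomPt x)) := fun U R hR => by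
  obtain ⟨α, T, f, rfl⟩ := R.exists_eq_ofArrows
  rw [Scheme.ofArrows_mem_smallEtaleTopology_iff]
  ext x
  simp only [Set.mem_iUnion, Set.mem_range, Set.mem_univ, iff_true]
  obtain ⟨x', hx'⟩ := Scheme.pointSmallEtaleFiberObjToPreimage_surjective (geomPt (U.hom x))
    (geomPt_default _) U ⟨x, by simp⟩
  rw [Subtype.ext_iff] at hx'
  simp only [Functor.id_obj, Scheme.pointSmallEtaleFiberObjToPreimage_coe, Scheme.Etale.forget_obj_left] at hx'
  obtain ⟨W, g, ⟨Z, p, _, ⟨a⟩, rfl⟩, y, hy⟩ := hR (U.hom x) x'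
  subst hy
  exact ⟨a, (Scheme.pointSmallEtaleFiberObjToPreimage (geomPt (U.hom x)) (geomPt_default _) (y ≫ p.hom)).1,
    hx'⟩

variable {Ω : Type u} [Field Ω] [IsSepClosed Ω] (ξ : Spec (CommRingCat.of Ω) ⟶ X)

/-- Monomorphisms of sheaves of sets are the stalkwise injective maps. -/
theorem mono_iff_sh {F G : EtDesc.Sh X} (v : F ⟶ G) :
    Mono v ↔ ∀ (Ω : Type u) [Field Ω] [IsSepClosed Ω] (ξ : Spec (CommRingCat.of Ω) ⟶ X),
      Function.Injective (((Scheme.pointSmallEtale ξ).sheafFiber (A := Type (u + 1))).map v) := by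
  refine ⟨fun hv Ω _ _ ξ => ?_, fun h => ?_⟩
  · haveI : Presheaf.IsLocallyInjective X.smallEtaleTopology v.hom :=
      haveI : Mono v.hom := (sheafToPresheaf _ _).map_mono v
      Presheaf.isLocallyInjective_of_injective _ _ fun U => (mono_iff_injective _).1 inferInstance
    exact (Scheme.pointSmallEtale ξ).toPresheafFiber_map_injective v.hom
  · haveI : Sheaf.IsLocallyInjective v := SitePts.isLocallyInjective (detects X) v.hom fun _ => h _ _
    exact Sheaf.mono_of_isLocallyInjective v

/-- Epimorphisms of sheaves of sets are the stalkwise surjective maps. -/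
theorem epi_iff_sh {F G : EtDesc.Sh X} (v : F ⟶ G) :
    Epi v ↔ ∀ (Ω : Type u) [Field Ω] [IsSepClosed Ω] (ξ : Spec (CommRingCat.of Ω) ⟶ X),
      Function.Surjective (((Scheme.pointSmallEtale ξ).sheafFiber (A := Type (u + 1))).map v) := by
  refine ⟨fun hv Ω _ _ ξ => ?_, fun h => ?_⟩
  · haveI := (Sheaf.isLocallySurjective_iff_epi v).2 hv
    exact (Scheme.pointSmallEtale ξ).toPresheafFiber_map_surjective v.hom
  · haveI : Sheaf.IsLocallySurjective v := SitePts.isLocallySurjective (detects X) v.hom fun _ => h _ _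
    infer_instance

instance forget_ab : PreservesFilteredColimitsOfSize.{u, u} (forget AddCommGrpCat.{u + 1}) :=
  preservesFilteredColimitsOfSize_shrink.{u, u + 1, u, u + 1} _

theorem mono_iff_ab {F G : EtCoh.Ab X} (a : F ⟶ G) :
    Mono a ↔ ∀ (Ω : Type u) [Field Ω] [IsSepClosed Ω] (ξ : Spec (CommRingCat.of Ω) ⟶ X),
      Function.Injective ((EtCoh.stalk ξ).map a) := by
  refine ⟨fun hv Ω _ _ ξ => ?_, fun h => ?_⟩
  · haveI : Presheaf.IsLocallyInjective X.smallEtaleTopology a.hom :=
      haveI : Mono a.hom := (sheafToPresheaf _ _).map_mono a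
      Presheaf.isLocallyInjective_of_injective _ _ fun U =>
        (AddCommGrpCat.mono_iff_injective _).1 inferInstance
    exact (Scheme.pointSmallEtale ξ).toPresheafFiber_map_injective a.hom
  · haveI : Sheaf.IsLocallyInjective a := SitePts.isLocallyInjective (detects X) a.hom fun _ => h _ _
    exact Sheaf.mono_of_isLocallyInjective a

theorem epi_iff_ab {F G : EtCoh.Ab X} (a : F ⟶ G) :
    Epi a ↔ ∀ (Ω : Type u) [Field Ω] [IsSepClosed Ω] (ξ : Spec (CommRingCat.of Ω) ⟶ X),
      Function.Surjective ((EtCoh.stalk ξ).map a) := by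
  refine ⟨fun hv Ω _ _ ξ => ?_, fun h => ?_⟩
  · haveI := (Sheaf.isLocallySurjective_iff_epi' (φ := a)).2 hv
    exact (Scheme.pointSmallEtale ξ).toPresheafFiber_map_surjective a.hom
  · haveI : Sheaf.IsLocallySurjective a := SitePts.isLocallySurjective (detects X) a.hom fun _ => h _ _
    infer_instance

theorem isZero_iff_ab (F : EtCoh.Ab X) :
    IsZero F ↔ ∀ (Ω : Type u) [Field Ω] [IsSepClosed Ω] (ξ : Spec (CommRingCat.of Ω) ⟶ X),
      IsZero ((EtCoh.stalk ξ).obj F) := by
  refine ⟨fun hF Ω _ _ ξ => Functor.map_isZero _ hF, fun h => ?_⟩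
  haveI : Mono (0 : F ⟶ F) := (mono_iff_ab _).2 fun Ω _ _ ξ => fun x y _ =>
    (AddCommGrpCat.subsingleton_of_isZero (h Ω ξ)).elim x y
  exact IsZero.of_mono_zero F F

instance ab5_ab : AB5OfSize.{u, u} AddCommGrpCat.{u + 1} :=
  AB5OfSize_of_univLE.{u, u, u + 1, u + 1} _

theorem exact_iff_ab (S : ShortComplex (EtCoh.Ab X)) :
    S.Exact ↔ ∀ (Ω : Type u) [Field Ω] [IsSepClosed Ω] (ξ : Spec (CommRingCat.of Ω) ⟶ X),
      (S.map (EtCoh.stalk ξ)).Exact := by
  refine ⟨fun hS Ω _ _ ξ => hS.map _, fun h => ?_⟩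
  rw [ShortComplex.exact_iff_isZero_homology, isZero_iff_ab]
  intro Ω _ _ ξ
  exact IsZero.of_iso ((ShortComplex.exact_iff_isZero_homology _).1 (h Ω ξ))
    (S.mapHomologyIso (EtCoh.stalk ξ)).symm

end Groth.Agent.EtPtsLib
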