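import Groth.Agent.EtPtsLib.IntegralStalk
import Groth.Agent.EtPtsLib.Criteria
/-!
Stalks of direct images along finite morphisms are products over the geometric fibre.
-/

set_option autoImplicit false
set_option backward.isDefEq.respectTransparency false
set_option backward.isDefEq.respectTransparency.types false

universe u

open CategoryTheory CategoryTheory.Limits AlgebraicGeometry Opposite GrothendieckTopology

namespace Groth.Agent.EtPtsLib

variable {X Y : Scheme.{u}} (f : X ⟶ Y) {Ω : Type u} [Field Ω] [IsAlgClosed Ω]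
  (ξ : Spec (CommRingCat.of Ω) ⟶ Y)

theorem gptPoint_injective [IsIntegralHom f] : Function.Injective (gptPoint f ξ) := fun ζ₀ ζ₁ e => by
  by_contra hne
  obtain ⟨T, gT, qT, hqT, W, -, -, h0, h1⟩ := exists_sep f ξ ζ₀ ζ₁ hne
  let m : pullback f ξ ⟶ pullback f gT :=
    pullback.lift (pullback.fst f ξ) (pullback.snd f ξ ≫ qT) (by rw [Category.assoc, hqT, pullback.condition])
  have hm : ∀ ζ : EtaleSplit.GPts f ξ,
      EtaleSplit.pt (pullback.lift ζ.1 qT (ζ.2.trans hqT.symm)) = m (gptPoint f ξ ζ) := fun ζ => by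
    rw [gptPoint, ← EtaleSplit.pt_comp]
    congr 1
    refine pullback.hom_ext ?_ ?_
    · simp [m]
    · simp [m]
      exact (Category.id_comp _).symm
  exact h1 (by rw [hm, ← e, ← hm]; exact h0)

variable [IsFinite f]

theorem finite_gpts : Finite (EtaleSplit.GPts f ξ) :=
  Set.finite_univ_iff.mp ((EtaleSplit.finite_gpts_over f ξ Set.univ
    ((f.finite_preimage_singleton _).subset fun x hx => hx.2)).subset fun p _ => trivial)

theorem discreteTopology_fibre : DiscreteTopology ↥(pullback f ξ) := by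
  have h := (pullback.snd f ξ).isDiscrete_preimage_singleton default
  rw [show (pullback.snd f ξ) ⁻¹' {default} = Set.univ from
    Set.eq_univ_of_forall fun x => Subsingleton.elim (α := ↥(Spec (CommRingCat.of Ω))) _ _] at h
  exact isDiscrete_univ_iff.1 h

variable {A : Type (u + 2)} [Category.{u + 1} A] [HasColimitsOfSize.{u, u} A] [HasProducts.{u} A]
  {FC : A → A → Type*} {CC : A → Type (u + 1)}
  [∀ (a b : A), FunLike (FC a b) (CC a) (CC b)] [ConcreteCategory.{u + 1} A FC]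
  [PreservesFilteredColimitsOfSize.{u, u} (forget A)]
  [PreservesLimitsOfShape (Discrete (EtaleSplit.GPts f ξ)) (forget A)]

omit [IsFinite f] in
/-- The map of the stalk of a direct image to the product over the geometric fibre. -/
noncomputable def fibreProd (P : X.Etaleᵒᵖ ⥤ A) :
    (Scheme.pointSmallEtale ξ).presheafFiber.obj ((EtCoh.bc f).op ⋙ P) ⟶
      ∏ᶜ fun ζ : EtaleSplit.GPts f ξ => (Scheme.pointSmallEtale ζ.1).presheafFiber.obj P :=
  Pi.lift fun ζ => pushStalkAt f ξ ζ P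

theorem bijective_fibreProd (P : X.Etaleᵒᵖ ⥤ A) (hP : Presieve.IsSheaf X.smallEtaleTopology (P ⋙ forget A)) :
    Function.Bijective (fibreProd f ξ P) := by
  haveI := discreteTopology_fibre f ξ
  have hπ : ∀ x ζ, Pi.π (fun ζ : EtaleSplit.GPts f ξ => (Scheme.pointSmallEtale ζ.1).presheafFiber.obj P) ζ
      (fibreProd f ξ P x) = pushStalkAt f ξ ζ P x := fun x ζ => by
    rw [← ConcreteCategory.comp_apply, fibreProd, Pi.lift_π]
  refine ⟨fun a b e => stalk_ext f ξ P hP fun ζ => by rw [← hπ, ← hπ, e], fun c => ?_⟩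
  let a := fun ζ => Pi.π (fun ζ : EtaleSplit.GPts f ξ => (Scheme.pointSmallEtale ζ.1).presheafFiber.obj P) ζ c
  obtain ⟨b, hb⟩ := stalk_exists f ξ P hP a fun p => by
    obtain ⟨ζ₀, rfl⟩ := exists_gpt_point f ξ p
    obtain ⟨U₀, x₀, t, ht⟩ := (Scheme.pointSmallEtale ζ₀.1).toPresheafFiber_jointly_surjective (a ζ₀)
    obtain ⟨V, W, hW, hh, z, hz⟩ := propA_apply f (propA_of_integral f) U₀ (liftHom ζ₀.1 x₀ default)
    obtain ⟨y₀, hy₀⟩ := exists_fiber_map_eq ζ₀.1 hh x₀ z hz
    have hyW : liftHom ζ₀.1 y₀ ≫ W.ι ≫ ((EtCoh.bc f).obj V).hom = ζ₀.1 := liftHom_comp ζ₀.1 y₀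
    let l : (Scheme.pointSmallEtale ξ).fiber.obj V := Over.homMk (liftHom ζ₀.1 y₀ ≫ W.ι ≫ bcFst f V) (by
      change (liftHom ζ₀.1 y₀ ≫ W.ι ≫ bcFst f V) ≫ V.hom = ξ
      simp only [Category.assoc, bcFst, pullback.condition]
      rw [← Category.assoc W.ι, ← Category.assoc]
      exact (congrArg (· ≫ f) hyW).trans ζ₀.2)
    have hy₀l : (Scheme.pointSmallEtale ζ₀.1).fiber.map (openIncl _ W) y₀ = liftBcAt f ξ ζ₀ V l := by
      refine fiber_bc_ext f ζ₀.1 ?_
      rw [liftHom_liftBcAt_fst, liftHom_map, Category.assoc]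
      rfl
    refine ⟨V, l, W, P.map hh.op t, {gptPoint f ξ ζ₀}, hW, isOpen_discrete _, rfl, ?_, fun ζ hζ y hy => ?_⟩
    · rw [fibreMap_gptPoint, ← hy₀l]
      change (liftHom ζ₀.1 y₀ ≫ W.ι) default ∈ W
      rw [Scheme.Hom.comp_apply]
      exact Subtype.coe_prop _
    obtain rfl := gptPoint_injective f ξ hζ
    obtain rfl : y = y₀ := Over.OverMorphism.ext ((cancel_mono W.ι).1
      ((liftHom_map _ (openIncl _ W) y).symm.trans ((congrArg (liftHom ζ.1) (hy.trans hy₀l.symm)).trans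
        (liftHom_map _ (openIncl _ W) y₀))))
    rw [(Scheme.pointSmallEtale ζ.1).toPresheafFiber_w_apply hh y P t, hy₀]
    exact ht
  exact ⟨b, Concrete.limit_ext _ _ _ fun ⟨ζ⟩ => (hπ b ζ).trans (hb ζ)⟩

end Groth.Agent.EtPtsLib
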