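import Groth.Prelude.Def_EtShriek2
import Groth.Prelude.Def_PBC
import Groth.Agent.EtPtsLib.Criteria
/-!
Germs and supports of sections on the small étale site of a scheme.
-/

set_option autoImplicit false
set_option backward.isDefEq.respectTransparency false

universe u

open CategoryTheory CategoryTheory.Limits AlgebraicGeometry Opposite

namespace Groth.Agent.EtPtsLib

variable {X : Scheme.{u}} {Ω : Type u} [Field Ω] [IsSepClosed Ω] (ξ : Spec (CommRingCat.of Ω) ⟶ X)

/-- The underlying morphism `Spec Ω ⟶ U` of an element of the fibre. -/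
noncomputable abbrev liftHom {U : X.Etale} (l : (Scheme.pointSmallEtale ξ).fiber.obj U) :
    Spec (CommRingCat.of Ω) ⟶ U.left :=
  l.left

theorem liftHom_comp {U : X.Etale} (l : (Scheme.pointSmallEtale ξ).fiber.obj U) :
    liftHom ξ l ≫ U.hom = ξ :=
  Over.w l

theorem etale_left {U V : X.Etale} (g : V ⟶ U) : AlgebraicGeometry.Etale g.left := by
  haveI : AlgebraicGeometry.Etale (g.left ≫ U.hom) := by rw [MorphismProperty.Over.w g]; exact V.prop
  haveI : AlgebraicGeometry.Etale U.hom := U.prop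
  exact AlgebraicGeometry.Etale.of_comp g.left U.hom

/-- A lift passes through any étale map whose image contains its point. -/
theorem exists_fiber_map_eq {U V : X.Etale} (g : V ⟶ U) (l : (Scheme.pointSmallEtale ξ).fiber.obj U)
    (v : V.left) (hv : g.left v = liftHom ξ l default) :
    ∃ y : (Scheme.pointSmallEtale ξ).fiber.obj V, (Scheme.pointSmallEtale ξ).fiber.map g y = l := by
  haveI := etale_left g
  haveI : AlgebraicGeometry.Etale (g.left.fiberToSpecResidueField (g.left v)) := inferInstance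
  obtain ⟨⟨t, a⟩, hta⟩ := (Scheme.SpecToEquivOfField Ω _).symm.surjective (liftHom ξ l)
  obtain rfl : t = g.left v := by rw [hv, ← hta]; simp [Scheme.SpecToEquivOfField]
  obtain ⟨v', hv'⟩ := (g.left.fiberHomeo (g.left v)).surjective ⟨v, rfl⟩
  obtain ⟨m, hm, -⟩ := Scheme.exists_fac_of_etale_of_isSepClosed
    (g.left.fiberToSpecResidueField (g.left v)) (Spec.map a) v' (Subsingleton.elim _ _)
  have e : (m ≫ g.left.fiberι (g.left v)) ≫ g.left = liftHom ξ l := by
    rw [Category.assoc, g.left.fiber_fac, reassoc_of% hm, ← hta]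
    rfl
  refine ⟨Over.homMk (m ≫ g.left.fiberι (g.left v)) ?_, Over.OverMorphism.ext e⟩
  change (m ≫ g.left.fiberι (g.left v)) ≫ V.hom = ξ
  rw [← MorphismProperty.Over.w g, ← Category.assoc]
  exact (congrArg (· ≫ U.hom) e).trans (liftHom_comp ξ l)

/-- Every point of an étale `X`-scheme is the point of a lift of some geometric point. -/
theorem exists_lift_geomPt {U : X.Etale} (x : U.left) :
    ∃ l : (Scheme.pointSmallEtale (geomPt (U.hom x))).fiber.obj U, liftHom _ l default = x := by
  obtain ⟨l, hl⟩ := Scheme.pointSmallEtaleFiberObjToPreimage_surjective (geomPt (U.hom x))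
    (geomPt_default _) U ⟨x, by simp⟩
  exact ⟨l, congrArg Subtype.val hl⟩

variable (F : EtCoh.Ab X)

/-- The germ of a section at a lift of a geometric point. -/
noncomputable abbrev germ {U : X.Etale} (l : (Scheme.pointSmallEtale ξ).fiber.obj U) (s : EtCoh.sect F U) :
    (EtCoh.stalk ξ).obj F :=
  (Scheme.pointSmallEtale ξ).toPresheafFiber U l F.obj s

/-- A germ vanishes exactly off the support of the section. -/
theorem germ_eq_zero_iff {U : X.Etale} (l : (Scheme.pointSmallEtale ξ).fiber.obj U) (s : EtCoh.sect F U) :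
    germ ξ F l s = 0 ↔ liftHom ξ l default ∉ EtShriek.sectSupp F U s := by
  simp only [EtShriek.sectSupp, Set.mem_ofPred_eq, not_forall, ne_eq, not_not]
  rw [← map_zero ((Scheme.pointSmallEtale ξ).toPresheafFiber U l F.obj).hom]
  refine ((Scheme.pointSmallEtale ξ).toPresheafFiber_eq_iff' U l s 0).trans ⟨?_, ?_⟩
  · rintro ⟨W, g, y, rfl, h⟩
    exact ⟨W, g, ⟨liftHom ξ y default, rfl⟩, h.trans (map_zero _)⟩
  · rintro ⟨W, g, ⟨w, hw⟩, h⟩
    obtain ⟨y, hy⟩ := exists_fiber_map_eq ξ g l w hw
    exact ⟨W, g, y, hy, h.trans (map_zero _).symm⟩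

theorem isClosed_sectSupp (U : X.Etale) (s : EtCoh.sect F U) : IsClosed (EtShriek.sectSupp F U s) := by
  have e : (EtShriek.sectSupp F U s)ᶜ =
      ⋃ (W : X.Etale) (g : W ⟶ U) (_ : F.obj.map g.op s = 0), Set.range g.left.base := by
    ext x; simp [EtShriek.sectSupp]; grind
  rw [← isOpen_compl_iff, e]
  exact isOpen_iUnion fun W => isOpen_iUnion fun g => isOpen_iUnion fun _ => by
    haveI := etale_left g
    exact g.left.isOpenMap.isOpen_range

theorem range_eq_singleton : Set.range ξ = {ξ default} :=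
  Set.range_unique

theorem mem_supp_of_ne_zero (t : (EtCoh.stalk ξ).obj F) (ht : t ≠ 0) : ξ default ∈ EtPBC.supp F :=
  ⟨Ω, inferInstance, inferInstance, ξ, range_eq_singleton ξ, fun h =>
    ht ((AddCommGrpCat.subsingleton_of_isZero h).elim _ _)⟩

theorem supp_eq_iUnion :
    EtPBC.supp F = ⋃ (U : X.Etale) (σ : EtCoh.sect F U), U.hom.base '' EtShriek.sectSupp F U σ := by
  ext x
  simp only [Set.mem_iUnion, Set.mem_image]
  constructor
  · rintro ⟨Ω, _, _, ξ, hξ, hz⟩
    by_contra hne
    refine hz (AddCommGrpCat.isZero_iff_subsingleton.2 ⟨fun a b => ?_⟩)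
    suffices h : ∀ a : (EtCoh.stalk ξ).obj F, a = 0 from (h a).trans (h b).symm
    intro a
    obtain ⟨U, l, s, rfl⟩ := (Scheme.pointSmallEtale ξ).toPresheafFiber_jointly_surjective a
    refine (germ_eq_zero_iff ξ F l s).2 fun hmem => hne ⟨U, s, _, hmem, ?_⟩
    refine ((Scheme.Hom.comp_apply _ _ _).symm.trans (congrArg (fun q => q default) (liftHom_comp ξ l))).trans ?_
    exact Set.mem_singleton_iff.1 (hξ ▸ Set.mem_range_self _)
  · rintro ⟨U, s, x', hx', rfl⟩
    obtain ⟨l, hl⟩ := exists_lift_geomPt x'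
    have := mem_supp_of_ne_zero _ F (germ _ F l s) fun h => (germ_eq_zero_iff _ F l s).1 h (hl.symm ▸ hx')
    exact Eq.subst (motive := (· ∈ EtPBC.supp F)) (geomPt_default _) this

/-- The points where some stalk of a sheaf of rings is nonzero form a closed set. -/
theorem isClosed_supp_rings (O : Sheaf X.smallEtaleTopology CommRingCat.{u}) :
    IsClosed {s : X | ∃ (Ω : Type u) (_ : Field Ω) (_ : IsSepClosed Ω) (ξ : Spec (CommRingCat.of Ω) ⟶ X),
      ξ.base default = s ∧ Nontrivial ↑((Scheme.pointSmallEtale ξ).presheafFiber.obj O.obj)} := by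
  have e : {s : X | ∃ (Ω : Type u) (_ : Field Ω) (_ : IsSepClosed Ω) (ξ : Spec (CommRingCat.of Ω) ⟶ X),
      ξ.base default = s ∧ Nontrivial ↑((Scheme.pointSmallEtale ξ).presheafFiber.obj O.obj)}ᶜ =
      ⋃ (U : X.Etale) (_ : (1 : O.obj.obj (op U)) = 0), Set.range U.hom.base := by
    ext s
    simp only [Set.mem_iUnion, Set.mem_compl_iff, Set.mem_ofPred_eq, Set.mem_range]
    constructor
    · intro hs
      have hsub : ¬ Nontrivial ↑((Scheme.pointSmallEtale (geomPt s)).presheafFiber.obj O.obj) := fun h =>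
        hs ⟨_, inferInstance, inferInstance, geomPt s, geomPt_default s, h⟩
      haveI := not_nontrivial_iff_subsingleton.1 hsub
      obtain ⟨⟨U, l⟩⟩ := IsCofiltered.nonempty (C := (Scheme.pointSmallEtale (geomPt s)).fiber.Elements)
      obtain ⟨W, g, y, -, h⟩ := ((Scheme.pointSmallEtale (geomPt s)).toPresheafFiber_eq_iff' U l
        (1 : O.obj.obj (op U)) 0).1 (Subsingleton.elim _ _)
      rw [map_one, map_zero] at h
      refine ⟨W, h, liftHom _ y default, ?_⟩
      exact ((Scheme.Hom.comp_apply _ _ _).symm.trans (congrArg (fun q => q default) (liftHom_comp _ y))).trans (geomPt_default s)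
    · rintro ⟨U, hU, x, rfl⟩ ⟨Ω, _, _, ξ, hξ, hnt⟩
      obtain ⟨l, -⟩ := Scheme.pointSmallEtaleFiberObjToPreimage_surjective ξ hξ U ⟨x, rfl⟩
      have := congrArg ((Scheme.pointSmallEtale ξ).toPresheafFiber U l O.obj).hom hU
      rw [map_one, map_zero] at this
      exact one_ne_zero this
  rw [← isOpen_compl_iff, e]
  exact isOpen_iUnion fun U => isOpen_iUnion fun _ => by
    haveI : AlgebraicGeometry.Etale U.hom := U.prop
    exact U.hom.isOpenMap.isOpen_range

end Groth.Agent.EtPtsLib
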