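import Groth.Prelude.Def_EtOpen
import Groth.Prelude.Def_EtBase
import Groth.Agent.EtPtsLib.Support
/-!
Subterminal sheaves of sets on the small étale site are opens.
-/

set_option autoImplicit false
set_option backward.isDefEq.respectTransparency false
set_option backward.isDefEq.respectTransparency.types false

universe u w

open CategoryTheory CategoryTheory.Limits AlgebraicGeometry Opposite

namespace Groth.Agent.EtPtsLib

variable {X : Scheme.{u}}

theorem exists_mem_of_covering {U : X.Etale} {R : Sieve U} (hR : R ∈ X.smallEtaleTopology U) (x : U.left) :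
    ∃ (V : X.Etale) (g : V ⟶ U) (v : V.left), R g ∧ g.left v = x := by
  obtain ⟨α, T, f, rfl⟩ := R.exists_eq_ofArrows
  have hx : x ∈ ⋃ i, Set.range (f i).left := by
    rw [(Scheme.ofArrows_mem_smallEtaleTopology_iff f).1 hR]; trivial
  obtain ⟨i, v, hv⟩ := Set.mem_iUnion.1 hx
  exact ⟨T i, f i, v, Sieve.ofArrows_mk _ _ i, hv⟩

/-- A sheaf whose sets of sections are subsingletons is given by an open. -/
theorem exists_open_iff (F : X.Etaleᵒᵖ ⥤ Type w) (hs : Presieve.IsSheaf X.smallEtaleTopology F)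
    (hF : ∀ U : X.Etale, Subsingleton (F.obj (op U))) :
    ∃ W : X.Opens, ∀ U : X.Etale, Nonempty (F.obj (op U)) ↔ Set.range U.hom ⊆ (W : Set X) := by
  refine ⟨⟨⋃ (U : X.Etale) (_ : Nonempty (F.obj (op U))), Set.range U.hom,
    isOpen_iUnion fun U => isOpen_iUnion fun _ => by
      haveI : AlgebraicGeometry.Etale U.hom := U.prop
      exact U.hom.isOpenMap.isOpen_range⟩, fun U => ⟨fun h x hx => Set.mem_iUnion₂.2 ⟨U, h, hx⟩, fun h => ?_⟩⟩
  let R : Sieve U :=
    { arrows := fun V g => Nonempty (F.obj (op V))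
      downward_closed := fun {V V' f} hf g => hf.map fun s => F.map g.op s }
  have hR : R ∈ X.smallEtaleTopology U := by
    let ι := {k : Σ V : X.Etale, (V ⟶ U) // R k.2}
    have hι : Sieve.ofArrows (fun k : ι => k.1.1) (fun k => k.1.2) ∈ X.smallEtaleTopology U := by
      rw [Scheme.ofArrows_mem_smallEtaleTopology_iff]
      ext x
      simp only [Set.mem_iUnion, Set.mem_range, Set.mem_univ, iff_true]
      obtain ⟨U', hU', x', hx'⟩ := Set.mem_iUnion₂.1 (h ⟨x, rfl⟩)
      obtain ⟨z, hz, -⟩ := Scheme.Pullback.exists_preimage_pullback (f := U.hom) (g := U'.hom) x x' hx'.symm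
      haveI : AlgebraicGeometry.Etale U.hom := U.prop
      haveI : AlgebraicGeometry.Etale U'.hom := U'.prop
      haveI : AlgebraicGeometry.Etale (pullback.fst U.hom U'.hom ≫ U.hom) := inferInstance
      let P : X.Etale := Scheme.Etale.mk (pullback.fst U.hom U'.hom ≫ U.hom)
      let p : P ⟶ U := MorphismProperty.Over.homMk (pullback.fst U.hom U'.hom) rfl
      let q : P ⟶ U' := MorphismProperty.Over.homMk (pullback.snd U.hom U'.hom) pullback.condition.symm
      exact ⟨⟨⟨P, p⟩, hU'.map fun s => F.map q.op s⟩, z, hz⟩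
    refine X.smallEtaleTopology.superset_covering ?_ hι
    rw [Sieve.ofArrows, Sieve.generate_le_iff]
    rintro _ _ ⟨k⟩
    exact k.2
  obtain ⟨s, -, -⟩ := hs R hR (fun V g hg => hg.some) (fun Y₁ Y₂ Z g₁ g₂ f₁ f₂ h₁ h₂ _ => (hF Z).elim _ _)
  exact ⟨s⟩

/-- Isomorphism of presheaves with subsingleton values and the same support. -/
noncomputable def isoOfSubsingleton {F G : X.Etaleᵒᵖ ⥤ Type w} (hF : ∀ U, Subsingleton (F.obj U))
    (hG : ∀ U, Subsingleton (G.obj U)) (h : ∀ U, Nonempty (F.obj U) ↔ Nonempty (G.obj U)) : F ≅ G :=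
  NatIso.ofComponents
    (fun U => Equiv.toIso
      { toFun := fun s => ((h U).1 ⟨s⟩).some
        invFun := fun t => ((h U).2 ⟨t⟩).some
        left_inv := fun _ => (hF U).elim _ _
        right_inv := fun _ => (hG U).elim _ _ })
    fun {U V} f => by ext s; exact (hG V).elim _ _

theorem subsingleton_hom_open (W : X.Opens) (U : X.Etale) : Subsingleton (U ⟶ EtDesc.ofOpen W) :=
  ⟨fun a b => MorphismProperty.Over.Hom.ext
    ((cancel_mono W.ι).1 ((MorphismProperty.Over.w a).trans (MorphismProperty.Over.w b).symm))⟩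

theorem nonempty_hom_open_iff (W : X.Opens) (U : X.Etale) :
    Nonempty (U ⟶ EtDesc.ofOpen W) ↔ Set.range U.hom ⊆ (W : Set X) := by
  constructor
  · rintro ⟨a⟩ _ ⟨x, rfl⟩
    rw [← MorphismProperty.Over.w a]
    exact ((a.left x : W.toScheme)).2
  · intro h
    exact ⟨MorphismProperty.Over.homMk (IsOpenImmersion.lift W.ι U.hom (h.trans (Scheme.Opens.range_ι W).symm.subset))
      (IsOpenImmersion.lift_fac _ _ _)⟩

theorem eq_of_hom_open_iff {W W' : X.Opens}
    (h : ∀ U : X.Etale, Set.range U.hom ⊆ (W : Set X) ↔ Set.range U.hom ⊆ (W' : Set X)) : W = W' := by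
  have h1 := h (EtDesc.ofOpen W)
  have h2 := h (EtDesc.ofOpen W')
  simp only [EtDesc.ofOpen] at h1 h2
  have e : ∀ V : X.Opens, Set.range (Scheme.Etale.mk V.ι).hom = (V : Set X) := fun V => V.range_ι
  rw [e] at h1 h2
  exact le_antisymm (h1.1 subset_rfl) (h2.2 subset_rfl)

/-- The presheaf of sets of an open is a sheaf. -/
theorem isSheaf_open (W : X.Opens) :
    Presheaf.IsSheaf X.smallEtaleTopology (yoneda.obj (EtDesc.ofOpen W) ⋙ uliftFunctor.{u + 1, u}) := by
  rw [isSheaf_iff_isSheaf_of_type]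
  intro U R hR x _
  haveI := fun V : X.Etale => subsingleton_hom_open W V
  have hne : Nonempty (U ⟶ EtDesc.ofOpen W) := (nonempty_hom_open_iff W U).2 <| by
    rintro _ ⟨p, rfl⟩
    obtain ⟨V, g, v, hg, rfl⟩ := exists_mem_of_covering hR p
    have := (nonempty_hom_open_iff W V).1 ⟨(x g hg).down⟩ ⟨v, rfl⟩
    rw [← MorphismProperty.Over.w g] at this
    exact this
  exact ⟨ULift.up hne.some, fun V g hg => ULift.ext _ _ (Subsingleton.elim _ _),
    fun t _ => ULift.ext _ _ (Subsingleton.elim _ _)⟩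

/-- The sheaf attached to an open is its presheaf of sets. -/
noncomputable def repShIso (W : X.Opens) :
    (EtDesc.repSh (EtDesc.ofOpen W)).obj ≅ yoneda.obj (EtDesc.ofOpen W) ⋙ uliftFunctor.{u + 1, u} :=
  (isoSheafify X.smallEtaleTopology (isSheaf_open W)).symm

theorem subsingleton_repSh (W : X.Opens) (U : X.Etaleᵒᵖ) : Subsingleton ((EtDesc.repSh (EtDesc.ofOpen W)).obj.obj U) := by
  haveI := subsingleton_hom_open W U.unop
  exact (((repShIso W).app U).toEquiv).subsingleton (β := ULift.{u + 1} (U.unop ⟶ EtDesc.ofOpen W))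

theorem nonempty_repSh_iff (W : X.Opens) (U : X.Etaleᵒᵖ) :
    Nonempty ((EtDesc.repSh (EtDesc.ofOpen W)).obj.obj U) ↔ Set.range U.unop.hom ⊆ (W : Set X) := by
  rw [← nonempty_hom_open_iff]
  exact ⟨fun ⟨s⟩ => ⟨(((repShIso W).app U).hom s).down⟩, fun ⟨a⟩ => ⟨((repShIso W).app U).inv ⟨a⟩⟩⟩

/-- Subobjects of the final sheaf are the sheaves with subsingleton values. -/
theorem mono_from_iff (F : EtDesc.Sh X) :
    Mono (terminal.from F) ↔ ∀ U, Subsingleton (F.obj.obj U) := by
  constructor
  · intro h U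
    haveI : Mono (terminal.from F).hom := (sheafToPresheaf _ _).map_mono _
    have hi : Function.Injective ((terminal.from F).hom.app U) := (mono_iff_injective _).1 inferInstance
    haveI : Subsingleton ((⊤_ EtDesc.Sh X).obj.obj U) :=
      let e := Types.isTerminalEquivUnique _
        (IsTerminal.isTerminalObj ((sheafToPresheaf X.smallEtaleTopology (Type (u + 1))) ⋙ (evaluation _ _).obj U) _
          terminalIsTerminal)
      @Unique.instSubsingleton _ e
    exact hi.subsingleton
  · intro h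
    exact ⟨fun a b _ => ObjectProperty.hom_ext _ (NatTrans.ext (funext fun U => by ext s; exact (h U).elim _ _))⟩

end Groth.Agent.EtPtsLib
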