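import Groth.Agent.EtPtsLib.ClosedLift
import Groth.Agent.EtPtsLib.Support
/-!
Stalks of direct images along morphisms whose étale neighbourhoods come from the target.
-/

set_option autoImplicit false
set_option backward.isDefEq.respectTransparency false
set_option backward.isDefEq.respectTransparency.types false

universe u w v₁ u₁

open CategoryTheory CategoryTheory.Limits AlgebraicGeometry Opposite

namespace Groth.Agent.EtPtsLib

variable {X Y : Scheme.{u}} (f : X ⟶ Y)

/-- The projection `X ×_Y V ⟶ V`. -/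
noncomputable abbrev bcFst (V : Y.Etale) : ((EtCoh.bc f).obj V).left ⟶ V.left :=
  (pullback.fst V.hom f : ((EtCoh.bc f).obj V).left ⟶ V.left)

theorem bcFst_map {V V' : Y.Etale} (g : V ⟶ V') :
    ((EtCoh.bc f).map g).left ≫ bcFst f V' = bcFst f V ≫ g.left := by
  simp [bcFst, EtCoh.bc]

theorem bc_hom_ext {V : Y.Etale} {U : X.Etale} {a b : U ⟶ (EtCoh.bc f).obj V}
    (h : a.left ≫ bcFst f V = b.left ≫ bcFst f V) : a = b := by
  refine MorphismProperty.Over.Hom.ext (pullback.hom_ext h ?_)
  exact (MorphismProperty.Over.w a).trans (MorphismProperty.Over.w b).symm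

/-- Every étale `X`-scheme is locally covered by base changes of étale `Y`-schemes. -/
def LiftsLocally : Prop :=
  ∀ (U : X.Etale) (x : U.left), ∃ (V : Y.Etale) (g : (EtCoh.bc f).obj V ⟶ U), x ∈ Set.range g.left

/-- Opens of the étale base changes of `f` come from the target. -/
def BcInducing : Prop :=
  ∀ V : Y.Etale, Topology.IsInducing (bcFst f V)

theorem liftsLocally_of_isClosedImmersion [IsClosedImmersion f] : LiftsLocally f := fun U x => by
  obtain ⟨V, W, k, q, _, hW, w, hw⟩ := exists_etale_isPullback f U x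
  refine ⟨V, MorphismProperty.Over.homMk (hW.isoPullback.inv ≫ k) ?_, hW.isoPullback.hom w, ?_⟩
  · change (hW.isoPullback.inv ≫ k) ≫ U.hom = pullback.snd V.hom f
    rw [Category.assoc, Iso.inv_comp_eq]
    exact hW.isoPullback_hom_snd.symm
  · change (hW.isoPullback.inv ≫ k) (hW.isoPullback.hom w) = x
    rw [← Scheme.Hom.comp_apply, Iso.hom_inv_id_assoc, hw]

theorem bcInducing_of_isClosedImmersion [IsClosedImmersion f] : BcInducing f := fun V =>
  (pullback.fst V.hom f).isClosedEmbedding.isInducing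

variable {Ω : Type u} [Field Ω] [IsSepClosed Ω] (ζ : Spec (CommRingCat.of Ω) ⟶ X)

/-- A lift of `ζ ≫ f` to `U` gives a lift of `ζ` to `X ×_Y U`. -/
noncomputable def liftBc (U : Y.Etale) (l : (Scheme.pointSmallEtale (ζ ≫ f)).fiber.obj U) :
    (Scheme.pointSmallEtale ζ).fiber.obj ((EtCoh.bc f).obj U) :=
  Over.homMk (pullback.lift (liftHom _ l) ζ (liftHom_comp _ l)) (pullback.lift_snd _ _ _)

theorem liftHom_liftBc_fst (U : Y.Etale) (l : (Scheme.pointSmallEtale (ζ ≫ f)).fiber.obj U) :
    liftHom ζ (liftBc f ζ U l) ≫ bcFst f U = liftHom (ζ ≫ f) l :=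
  pullback.lift_fst _ _ _

theorem fiber_bc_ext {U : Y.Etale} {a b : (Scheme.pointSmallEtale ζ).fiber.obj ((EtCoh.bc f).obj U)}
    (h : liftHom ζ a ≫ bcFst f U = liftHom ζ b ≫ bcFst f U) : a = b :=
  Over.OverMorphism.ext (pullback.hom_ext h ((liftHom_comp ζ a).trans (liftHom_comp ζ b).symm))

theorem liftHom_map {U U' : X.Etale} (g : U ⟶ U') (l : (Scheme.pointSmallEtale ζ).fiber.obj U) :
    liftHom ζ ((Scheme.pointSmallEtale ζ).fiber.map g l) = liftHom ζ l ≫ g.left :=
  rfl

theorem liftBc_map {U U' : Y.Etale} (g : U ⟶ U') (l : (Scheme.pointSmallEtale (ζ ≫ f)).fiber.obj U) :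
    (Scheme.pointSmallEtale ζ).fiber.map ((EtCoh.bc f).map g) (liftBc f ζ U l) =
      liftBc f ζ U' ((Scheme.pointSmallEtale (ζ ≫ f)).fiber.map g l) := by
  refine fiber_bc_ext f ζ ?_
  rw [liftHom_map, Category.assoc, bcFst_map, ← Category.assoc, liftHom_liftBc_fst, liftHom_liftBc_fst,
    liftHom_map]

variable {A : Type u₁} [Category.{v₁} A] [HasColimitsOfSize.{u, u} A]

/-- The canonical map from the stalk of the direct image to the stalk. -/
noncomputable def pushStalk (F : X.Etaleᵒᵖ ⥤ A) :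
    (Scheme.pointSmallEtale (ζ ≫ f)).presheafFiber.obj ((EtCoh.bc f).op ⋙ F) ⟶
      (Scheme.pointSmallEtale ζ).presheafFiber.obj F :=
  (Scheme.pointSmallEtale (ζ ≫ f)).presheafFiberDesc
    (fun U l => (Scheme.pointSmallEtale ζ).toPresheafFiber _ (liftBc f ζ U l) F) fun U U' g l => by
      simp only [Functor.comp_map, Functor.op_map, Quiver.Hom.unop_op]
      rw [(Scheme.pointSmallEtale ζ).toPresheafFiber_w, liftBc_map]

@[reassoc]
theorem toPresheafFiber_pushStalk (F : X.Etaleᵒᵖ ⥤ A) (U : Y.Etale)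
    (l : (Scheme.pointSmallEtale (ζ ≫ f)).fiber.obj U) :
    (Scheme.pointSmallEtale (ζ ≫ f)).toPresheafFiber U l ((EtCoh.bc f).op ⋙ F) ≫ pushStalk f ζ F =
      (Scheme.pointSmallEtale ζ).toPresheafFiber _ (liftBc f ζ U l) F :=
  (Scheme.pointSmallEtale (ζ ≫ f)).toPresheafFiber_presheafFiberDesc _ _ _ _

theorem pushStalk_naturality {F G : X.Etaleᵒᵖ ⥤ A} (a : F ⟶ G) :
    (Scheme.pointSmallEtale (ζ ≫ f)).presheafFiber.map (Functor.whiskerLeft (EtCoh.bc f).op a) ≫ pushStalk f ζ G =
      pushStalk f ζ F ≫ (Scheme.pointSmallEtale ζ).presheafFiber.map a := by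
  refine (Scheme.pointSmallEtale (ζ ≫ f)).presheafFiber_hom_ext fun U l => ?_
  rw [GrothendieckTopology.Point.toPresheafFiber_naturality_assoc, toPresheafFiber_pushStalk,
    toPresheafFiber_pushStalk_assoc, GrothendieckTopology.Point.toPresheafFiber_naturality]
  rfl

section Concrete

variable {FC : A → A → Type*} {CC : A → Type w}
  [∀ (a b : A), FunLike (FC a b) (CC a) (CC b)] [ConcreteCategory.{w} A FC]
  [PreservesFilteredColimitsOfSize.{u, u} (forget A)]

/-- The stalk of a direct image is the stalk, when neighbourhoods come from the target. -/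
theorem pushStalk_bijective (hL : LiftsLocally f) (hI : BcInducing f) (F : X.Etaleᵒᵖ ⥤ A) :
    Function.Bijective (pushStalk f ζ F) := by
  constructor
  · intro a b hab
    obtain ⟨U, l, s, t, rfl, rfl⟩ :=
      (Scheme.pointSmallEtale (ζ ≫ f)).toPresheafFiber_jointly_surjective₂ a b
    rw [← ConcreteCategory.comp_apply, ← ConcreteCategory.comp_apply, toPresheafFiber_pushStalk] at hab
    obtain ⟨W, g, y, hy, hst⟩ := ((Scheme.pointSmallEtale ζ).toPresheafFiber_eq_iff' _ _ s t).1 hab
    obtain ⟨V, h, v, hv⟩ := hL W (liftHom ζ y default)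
    obtain ⟨z, hz⟩ := exists_fiber_map_eq ζ h y v hv
    have hzW : liftHom ζ z ≫ h.left ≫ g.left = liftHom ζ (liftBc f ζ U l) := by
      rw [← hy, ← hz]; simp only [liftHom_map, Category.assoc]
    haveI : AlgebraicGeometry.Etale V.hom := V.prop
    haveI : AlgebraicGeometry.Etale U.hom := U.prop
    haveI : AlgebraicGeometry.Etale (pullback.fst V.hom U.hom ≫ V.hom) := inferInstance
    let P : Y.Etale := Scheme.Etale.mk (pullback.fst V.hom U.hom ≫ V.hom)
    let p₁ : P ⟶ V := MorphismProperty.Over.homMk (pullback.fst V.hom U.hom) rfl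
    let p₂ : P ⟶ U := MorphismProperty.Over.homMk (pullback.snd V.hom U.hom) pullback.condition.symm
    let B := (EtCoh.bc f).obj V
    let r : B.left ⟶ U.left := (h ≫ g).left ≫ bcFst f U
    have hr : r ≫ U.hom = bcFst f V ≫ V.hom := by
      simp only [r, bcFst, Category.assoc]
      rw [pullback.condition, pullback.condition, ← Category.assoc]
      exact congrArg (· ≫ f) (MorphismProperty.Over.w (h ≫ g))
    let γ : B ⟶ (EtCoh.bc f).obj P := MorphismProperty.Over.homMk
      (pullback.lift (pullback.lift (bcFst f V) r hr.symm) (pullback.snd V.hom f)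
        ((pullback.lift_fst_assoc _ _ _ _).trans pullback.condition)) (pullback.lift_snd _ _ _)
    have hγ₁ : γ ≫ (EtCoh.bc f).map p₁ = 𝟙 B := by
      refine bc_hom_ext f ?_
      rw [MorphismProperty.Comma.comp_left, Category.assoc, bcFst_map]
      simp [γ, p₁, bcFst, P, B]
      rfl
    have hγ₂ : γ ≫ (EtCoh.bc f).map p₂ = h ≫ g := by
      refine bc_hom_ext f ?_
      rw [MorphismProperty.Comma.comp_left, Category.assoc, bcFst_map]
      simp [γ, p₂, bcFst, P, r]
    haveI := etale_left γ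
    obtain ⟨O', hO', hpre⟩ := (hI P).isOpen_iff.1 (γ.left.isOpenMap.isOpen_range)
    let O : P.left.Opens := ⟨O', hO'⟩
    haveI : AlgebraicGeometry.Etale (O.ι ≫ P.hom) := by haveI : AlgebraicGeometry.Etale P.hom := P.prop; infer_instance
    let Q : Y.Etale := Scheme.Etale.mk (O.ι ≫ P.hom)
    let o : Q ⟶ P := MorphismProperty.Over.homMk O.ι rfl
    have hrange : Set.range ((EtCoh.bc f).map o).left ⊆ Set.range γ.left := by
      rintro _ ⟨q, rfl⟩
      rw [← hpre]
      have e := congrArg (fun m => m q) (bcFst_map f o)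
      simp only [Scheme.Hom.comp_apply] at e
      change bcFst f P _ ∈ O'
      rw [e]
      exact (bcFst f Q q).2
    haveI : IsOpenImmersion γ.left := by
      haveI : Mono γ.left := by
        have : γ.left ≫ ((EtCoh.bc f).map p₁).left = 𝟙 _ :=
          congrArg (fun m => m.left) hγ₁
        exact (IsSplitMono.mk' ⟨_, this⟩).mono
      exact IsOpenImmersion.of_flat_of_mono γ.left
    let c : (EtCoh.bc f).obj Q ⟶ B := MorphismProperty.Over.homMk
      (IsOpenImmersion.lift γ.left ((EtCoh.bc f).map o).left hrange) (by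
        rw [← MorphismProperty.Over.w γ, IsOpenImmersion.lift_fac_assoc]
        exact MorphismProperty.Over.w _)
    have hc : c ≫ γ = (EtCoh.bc f).map o := MorphismProperty.Over.Hom.ext (IsOpenImmersion.lift_fac _ _ _)
    have hg : (EtCoh.bc f).map (o ≫ p₂) = c ≫ h ≫ g := by
      rw [Functor.map_comp, ← hc, Category.assoc, hγ₂]
    have hl : liftHom (ζ ≫ f) l ≫ U.hom = ζ ≫ f := liftHom_comp _ l
    let lP : Spec (CommRingCat.of Ω) ⟶ P.left := pullback.lift (liftHom ζ z ≫ bcFst f V) (liftHom _ l) (by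
      rw [hl, Category.assoc, bcFst, pullback.condition, ← Category.assoc]
      exact congrArg (· ≫ f) (liftHom_comp ζ z))
    have hlP : lP = (liftHom ζ z ≫ γ.left) ≫ bcFst f P := by
      refine pullback.hom_ext ?_ ?_
      · simp [lP, γ, bcFst, P, B]
      · simp only [lP, pullback.lift_snd]
        rw [← liftHom_liftBc_fst f ζ U l, ← hzW]
        simp only [Category.assoc]
        simp [γ, bcFst, P, B, r, MorphismProperty.Comma.comp_left]; rfl
    have hmem : Set.range lP ⊆ Set.range O.ι := by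
      rintro _ ⟨q, rfl⟩
      rw [Scheme.Opens.range_ι, hlP, Scheme.Hom.comp_apply]
      change (liftHom ζ z ≫ γ.left) q ∈ bcFst f P ⁻¹' O'
      rw [hpre, Scheme.Hom.comp_apply]
      exact Set.mem_range_self _
    let lQ : (Scheme.pointSmallEtale (ζ ≫ f)).fiber.obj Q := Over.homMk (IsOpenImmersion.lift O.ι lP hmem) (by
      change _ ≫ O.ι ≫ pullback.fst V.hom U.hom ≫ V.hom = ζ ≫ f
      rw [IsOpenImmersion.lift_fac_assoc]
      simp only [lP, pullback.lift_fst_assoc, Category.assoc, bcFst]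
      rw [pullback.condition, ← Category.assoc]
      exact congrArg (· ≫ f) (liftHom_comp ζ z))
    refine ((Scheme.pointSmallEtale (ζ ≫ f)).toPresheafFiber_eq_iff' U l s t).2
      ⟨Q, o ≫ p₂, lQ, Over.OverMorphism.ext ?_, ?_⟩
    · change IsOpenImmersion.lift O.ι lP hmem ≫ O.ι ≫ pullback.snd V.hom U.hom = _
      rw [IsOpenImmersion.lift_fac_assoc, pullback.lift_snd]
    · change F.map ((EtCoh.bc f).map (o ≫ p₂)).op s = F.map ((EtCoh.bc f).map (o ≫ p₂)).op t
      simp only [hg, op_comp, Functor.map_comp, ConcreteCategory.comp_apply]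
      rw [hst]
  · intro a
    obtain ⟨U', m, t, rfl⟩ := (Scheme.pointSmallEtale ζ).toPresheafFiber_jointly_surjective a
    obtain ⟨V, g, v, hv⟩ := hL U' (liftHom ζ m default)
    obtain ⟨y, hy⟩ := exists_fiber_map_eq ζ g m v hv
    let l : (Scheme.pointSmallEtale (ζ ≫ f)).fiber.obj V := Over.homMk (liftHom ζ y ≫ bcFst f V) (by
      change (liftHom ζ y ≫ bcFst f V) ≫ V.hom = ζ ≫ f
      rw [Category.assoc, bcFst, pullback.condition, ← Category.assoc]
      exact congrArg (· ≫ f) (liftHom_comp ζ y))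
    refine ⟨(Scheme.pointSmallEtale (ζ ≫ f)).toPresheafFiber V l ((EtCoh.bc f).op ⋙ F) (F.map g.op t), ?_⟩
    rw [← ConcreteCategory.comp_apply, toPresheafFiber_pushStalk]
    have e : liftBc f ζ V l = y := fiber_bc_ext f ζ (liftHom_liftBc_fst f ζ V l)
    rw [e, ← hy, ← (Scheme.pointSmallEtale ζ).toPresheafFiber_w g, ConcreteCategory.comp_apply]

end Concrete

end Groth.Agent.EtPtsLib
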