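import Groth.Prelude.Def_BigSite
import Groth.Agent.EtPtsLib.PushStalk
import Groth.Agent.EtPtsLib.Opens
/-!
The conditions (A), (B), (C) on the small étale sites, and gluing over disjoint opens.
-/

set_option autoImplicit false
set_option backward.isDefEq.respectTransparency false
set_option backward.isDefEq.respectTransparency.types false

universe u w

open CategoryTheory CategoryTheory.Limits AlgebraicGeometry Opposite

namespace Groth.Agent.EtPtsLib

variable {X Y : Scheme.{u}}

/-- A sieve covers when it hits every point. -/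
theorem covering_of_points {U : X.Etale} (R : Sieve U)
    (h : ∀ x : U.left, ∃ (V : X.Etale) (g : V ⟶ U) (v : V.left), R g ∧ g.left v = x) :
    R ∈ X.smallEtaleTopology U := by
  let ι := {k : Σ V : X.Etale, (V ⟶ U) // R k.2}
  refine X.smallEtaleTopology.superset_covering ?_ ((Scheme.ofArrows_mem_smallEtaleTopology_iff
    (fun k : ι => k.1.2)).2 ?_)
  · rw [Sieve.ofArrows, Sieve.generate_le_iff]
    rintro _ _ ⟨k⟩
    exact k.2
  · ext x
    simp only [Set.mem_iUnion, Set.mem_range, Set.mem_univ, iff_true]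
    obtain ⟨V, g, v, hg, hv⟩ := h x
    exact ⟨⟨⟨V, g⟩, hg⟩, v, hv⟩

/-- An open of an étale `X`-scheme. -/
noncomputable abbrev openSub (U : X.Etale) (W : U.left.Opens) : X.Etale :=
  haveI : AlgebraicGeometry.Etale U.hom := U.prop
  haveI : AlgebraicGeometry.Etale (W.ι ≫ U.hom) := inferInstance
  Scheme.Etale.mk (W.ι ≫ U.hom)

/-- Its inclusion. -/
noncomputable abbrev openIncl (U : X.Etale) (W : U.left.Opens) : openSub U W ⟶ U :=
  MorphismProperty.Over.homMk W.ι rfl

theorem bot_mem_of_isEmpty {U : X.Etale} (h : IsEmpty U.left) :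
    (⊥ : Sieve U) ∈ X.smallEtaleTopology U :=
  covering_of_points _ fun x => h.elim x

/-- Sections over pairwise disjoint opens covering `U` glue. -/
theorem exists_glue (F : Sheaf X.smallEtaleTopology (Type w)) (U : X.Etale) {ι : Type*}
    (W : ι → U.left.Opens) (hd : ∀ a b, a ≠ b → Disjoint (W a) (W b)) (hcov : ∀ x, ∃ a, x ∈ W a)
    (s : ∀ a, F.obj.obj (op (openSub U (W a)))) :
    ∃ t : F.obj.obj (op U), ∀ a, F.obj.map (openIncl U (W a)).op t = s a := by
  have hR : Sieve.generate (Presieve.ofArrows (fun a => openSub U (W a)) fun a => openIncl U (W a)) ∈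
      X.smallEtaleTopology U := covering_of_points _ fun x => by
    obtain ⟨a, ha⟩ := hcov x
    exact ⟨_, openIncl U (W a), (⟨x, ha⟩ : (W a).toScheme), Sieve.le_generate _ _ _ (Presieve.ofArrows.mk a), rfl⟩
  have hs : Presieve.IsSheafFor F.obj (Presieve.ofArrows (fun a => openSub U (W a)) fun a => openIncl U (W a)) :=
    (Presieve.isSheafFor_iff_generate _).2 ((isSheaf_iff_isSheaf_of_type _ _).1 F.property _ hR)
  obtain ⟨t, ht, -⟩ := (Presieve.isSheafFor_arrows_iff _ _).1 hs s fun a b Z ga gb e => by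
    by_cases hab : a = b
    · subst hab
      have : ga = gb := MorphismProperty.Over.Hom.ext
        ((cancel_mono (W a).ι).1 (congrArg (fun m => m.left) e))
      rw [this]
    · haveI : IsEmpty Z.left := ⟨fun z => by
        have ha : (openIncl U (W a)).left (ga.left z) ∈ W a := ((ga.left z : (W a).toScheme)).2
        have hb : (openIncl U (W b)).left (gb.left z) ∈ W b := ((gb.left z : (W b).toScheme)).2
        have e' : (openIncl U (W a)).left (ga.left z) = (openIncl U (W b)).left (gb.left z) :=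
          congrArg (fun m => m.left z) e
        rw [e'] at ha
        exact Set.disjoint_left.1 (TopologicalSpace.Opens.coe_disjoint.2 (hd a b hab)) ha hb⟩
      haveI : Subsingleton (F.obj.obj (op Z)) :=
        haveI u := Types.isTerminalEquivUnique _ (Sheaf.isTerminalOfBotCover F _ (bot_mem_of_isEmpty ‹_›))
        @Unique.instSubsingleton _ u
      exact Subsingleton.elim _ _
  exact ⟨t, ht⟩

/-- Sections agreeing on a jointly surjective family of maps agree. -/
theorem sect_eq_of_cover (F : Sheaf X.smallEtaleTopology (Type w)) (U : X.Etale) (s t : F.obj.obj (op U))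
    (h : ∀ x : U.left, ∃ (V : X.Etale) (g : V ⟶ U) (v : V.left), g.left v = x ∧ F.obj.map g.op s = F.obj.map g.op t) :
    s = t := by
  let R : Sieve U :=
    { arrows := fun V g => F.obj.map g.op s = F.obj.map g.op t
      downward_closed := fun {V V' f} hf g => by
        rw [op_comp, Functor.map_comp_apply, Functor.map_comp_apply, hf] }
  exact ((((isSheaf_iff_isSheaf_of_type _ _).1 F.property).isSeparated) R (covering_of_points _ fun x => by
    obtain ⟨V, g, v, hv, hg⟩ := h x
    exact ⟨V, g, v, hg, hv⟩)).ext fun _ _ hf => hf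

variable (f : X ⟶ Y)

/-- The base change of an étale `Y`-scheme with the factors in the other order. -/
noncomputable def swapHom {V : Scheme.{u}} (v : V ⟶ Y) [AlgebraicGeometry.Etale v] :
    ((EtCoh.bc f).obj (Scheme.Etale.mk v)).left ≅ pullback f v :=
  pullbackSymmetry v f

theorem swapHom_fst {V : Scheme.{u}} (v : V ⟶ Y) [AlgebraicGeometry.Etale v] :
    (swapHom f v).hom ≫ pullback.fst f v = ((EtCoh.bc f).obj (Scheme.Etale.mk v)).hom :=
  pullbackSymmetry_hom_comp_fst v f

/-- Condition (C) in terms of the base change functor. -/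
theorem propC_apply (hC : BigSite.PropC f) (U : X.Etale) :
    ∃ (V : Y.Etale) (g : (EtCoh.bc f).obj V ⟶ U), Function.Surjective g.left := by
  haveI : AlgebraicGeometry.Etale U.hom := U.prop
  obtain ⟨V, v, _, h, hh, hs⟩ := hC U.left U.hom
  refine ⟨Scheme.Etale.mk v, MorphismProperty.Over.homMk ((swapHom f v).hom ≫ h) ?_, ?_⟩
  · refine (Category.assoc _ _ _).trans ((congrArg ((swapHom f v).hom ≫ ·) hh).trans ?_)
    exact swapHom_fst f v
  · intro x
    obtain ⟨z, hz⟩ := hs.surj x
    refine ⟨(swapHom f v).inv z, ?_⟩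
    change ((swapHom f v).hom ≫ h) ((swapHom f v).inv z) = x
    rw [← Scheme.Hom.comp_apply, Iso.inv_hom_id_assoc, hz]

/-- Condition (A) in terms of the base change functor. -/
theorem propA_apply (hA : BigSite.PropA f) (U : X.Etale) (x : U.left) :
    ∃ (V : Y.Etale) (W : ((EtCoh.bc f).obj V).left.Opens) (_ : IsClosed (W : Set ((EtCoh.bc f).obj V).left))
      (g : openSub ((EtCoh.bc f).obj V) W ⟶ U), x ∈ Set.range g.left := by
  haveI : AlgebraicGeometry.Etale U.hom := U.prop
  obtain ⟨V, v, _, W, hW, h, hh, z, hz⟩ := hA U.left U.hom x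
  let e := (swapHom f v).hom
  refine ⟨Scheme.Etale.mk v, e ⁻¹ᵁ W, hW.preimage e.continuous,
    MorphismProperty.Over.homMk ((e ∣_ W) ≫ h) ?_, ?_⟩
  · refine (Category.assoc _ _ _).trans ((congrArg ((e ∣_ W) ≫ ·) hh).trans ?_)
    rw [← Category.assoc, morphismRestrict_ι, Category.assoc]
    exact congrArg (_ ≫ ·) (swapHom_fst f v)
  · haveI : IsIso (e ∣_ W) := inferInstance
    refine ⟨inv (e ∣_ W) z, ?_⟩
    change ((e ∣_ W) ≫ h) (inv (e ∣_ W) z) = x
    rw [← Scheme.Hom.comp_apply, IsIso.inv_hom_id_assoc]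
    exact hz

/-- Condition (B) applied to a covering sieve of a base change. -/
theorem propB_apply (hB : BigSite.PropB f) (V : Y.Etale) (R : Sieve ((EtCoh.bc f).obj V))
    (hR : R ∈ X.smallEtaleTopology _) (y : V.left) :
    ∃ (V' : Y.Etale) (g : V' ⟶ V) (v : V'.left) (μ : Type u) (W : μ → ((EtCoh.bc f).obj V').left.Opens),
      g.left v = y ∧ (∀ a b, a ≠ b → Disjoint (W a) (W b)) ∧ (∀ x, ∃ a, x ∈ W a) ∧
        ∀ a, R (openIncl _ (W a) ≫ (EtCoh.bc f).map g) := by
  haveI : AlgebraicGeometry.Etale V.hom := V.prop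
  choose T k t hk ht using exists_mem_of_covering hR
  let σ := (swapHom f V.hom).hom
  obtain ⟨κ, V', v', hv', hy, hW⟩ := hB V.left V.hom ↥((EtCoh.bc f).obj V).left (fun i => (T i).left)
    (fun i => (k i).left ≫ σ)
    (fun i => by haveI := etale_left (k i); infer_instance)
    (fun x => ⟨(swapHom f V.hom).inv x, t _, by
      rw [Scheme.Hom.comp_apply]
      refine (congrArg σ (ht _)).trans ?_
      rw [← Scheme.Hom.comp_apply, Iso.inv_hom_id]
      rfl⟩)
  obtain ⟨j, w, hw⟩ := hy y
  obtain ⟨μ, W, hd, htop, hfac⟩ := hW j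
  haveI := hv' j
  haveI : AlgebraicGeometry.Etale (v' j ≫ V.hom) := inferInstance
  let e := (swapHom f (v' j ≫ V.hom)).hom
  let g : Scheme.Etale.mk (v' j ≫ V.hom) ⟶ V := MorphismProperty.Over.homMk (v' j) rfl
  refine ⟨_, g, w, μ, fun a => e ⁻¹ᵁ W a, hw, fun a b hab => ?_, fun x => ?_, fun a => ?_⟩
  · rw [← TopologicalSpace.Opens.coe_disjoint]
    exact (TopologicalSpace.Opens.coe_disjoint.2 (hd a b hab)).preimage _
  · have hx : e x ∈ (⨆ a, W a) := by rw [htop]; trivial
    obtain ⟨a, ha⟩ := TopologicalSpace.Opens.mem_iSup.1 hx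
    exact ⟨a, ha⟩
  · obtain ⟨i, h, hh⟩ := hfac a
    have hmap : e ≫ pullback.map f (v' j ≫ V.hom) f V.hom (𝟙 X) (v' j) (𝟙 Y) (by simp) (by simp) =
        ((EtCoh.bc f).map g).left ≫ σ := by
      refine pullback.hom_ext ?_ ?_
      · rw [Category.assoc, pullback.lift_fst, Category.comp_id, Category.assoc]
        refine (swapHom_fst f (v' j ≫ V.hom)).trans ?_
        exact ((congrArg (((EtCoh.bc f).map g).left ≫ ·) (swapHom_fst f V.hom)).trans
          (MorphismProperty.Over.w ((EtCoh.bc f).map g))).symm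
      · rw [Category.assoc, pullback.lift_snd, ← Category.assoc, Category.assoc _ σ]
        exact ((congrArg (((EtCoh.bc f).map g).left ≫ ·) (pullbackSymmetry_hom_comp_snd V.hom f)).trans
          (bcFst_map f g)).trans (congrArg (· ≫ v' j) (pullbackSymmetry_hom_comp_snd (v' j ≫ V.hom) f).symm) |>.symm
    have key : ((e ∣_ W a) ≫ h) ≫ (k i).left = (e ⁻¹ᵁ W a).ι ≫ ((EtCoh.bc f).map g).left := by
      rw [← cancel_mono σ, Category.assoc, Category.assoc, hh, ← Category.assoc, morphismRestrict_ι,
        Category.assoc, Category.assoc]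
      exact congrArg ((e ⁻¹ᵁ W a).ι ≫ ·) hmap
    let q : openSub _ (e ⁻¹ᵁ W a) ⟶ T i := MorphismProperty.Over.homMk ((e ∣_ W a) ≫ h) (by
      rw [← MorphismProperty.Over.w (k i), ← Category.assoc]
      refine (congrArg (· ≫ ((EtCoh.bc f).obj V).hom) key).trans ?_
      exact (Category.assoc _ _ _).trans (congrArg ((e ⁻¹ᵁ W a).ι ≫ ·) (MorphismProperty.Over.w ((EtCoh.bc f).map g))))
    have : q ≫ k i = openIncl _ (e ⁻¹ᵁ W a) ≫ (EtCoh.bc f).map g := MorphismProperty.Over.Hom.ext key
    rw [← this]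
    exact R.downward_closed (hk i) q

end Groth.Agent.EtPtsLib
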