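import Groth.Prelude.Def_BigSite
import Groth.Agent.EtaleSplit.Nbhd
import Groth.Agent.Unibranch.Open
/-!
Condition (A) for separated locally quasi-finite and for integral morphisms.
-/

set_option autoImplicit false
set_option backward.isDefEq.respectTransparency false
set_option backward.isDefEq.respectTransparency.types false

universe u

open CategoryTheory CategoryTheory.Limits AlgebraicGeometry TensorProduct

namespace Groth.Agent.EtPtsLib

/-- A finite étale morphism has a largest open and closed part where it is an isomorphism, containing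
every point whose fibre is a single geometric point. -/
theorem exists_clopen_isIso {V X : Scheme.{u}} (π : V ⟶ X) [AlgebraicGeometry.Etale π] [IsFinite π] (v : V)
    (h : ∀ z : ↥(pullback π π), (pullback.fst π π ≫ π) z = π v → z ∈ Set.range (pullback.diagonal π)) :
    ∃ W : X.Opens, IsClosed (W : Set X) ∧ π v ∈ W ∧ IsIso (π ∣_ W) := by
  let D := pullback.diagonal π
  haveI : IsClosedImmersion D := inferInstance
  haveI : IsOpenImmersion D := inferInstance
  let m := pullback.fst π π ≫ π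
  have hB : IsClopen (m '' (Set.range D)ᶜ) :=
    ⟨m.isClosedMap _ D.isOpenEmbedding.isOpen_range.isClosed_compl,
     m.isOpenMap _ D.isClosedEmbedding.isClosed_range.isOpen_compl⟩
  let W : X.Opens := ⟨Set.range π ∩ (m '' (Set.range D)ᶜ)ᶜ,
    π.isOpenMap.isOpen_range.inter hB.1.isOpen_compl⟩
  refine ⟨W, π.isClosedMap.isClosed_range.inter hB.2.isClosed_compl, ⟨⟨v, rfl⟩, ?_⟩, ?_⟩
  · rintro ⟨z, hz, hzv⟩
    exact hz (h z hzv)
  have hW : IsPullback (π ∣_ W) (π ⁻¹ᵁ W).ι W.ι π := isPullback_morphismRestrict π W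
  haveI : AlgebraicGeometry.Etale (π ∣_ W) := MorphismProperty.of_isPullback hW.flip inferInstance
  haveI : Surjective (π ∣_ W) := ⟨fun w => by
    obtain ⟨a, ha⟩ := w.2.1
    have haW : a ∈ π ⁻¹ᵁ W := by
      change π a ∈ W
      rw [ha]
      exact w.2
    refine ⟨⟨a, haW⟩, ?_⟩
    apply W.ι.isOpenEmbedding.injective
    refine (congrArg (fun q => q ⟨a, haW⟩) (morphismRestrict_ι π W)).trans ?_
    exact ha⟩
  let q := pullback.map (π ∣_ W) (π ∣_ W) π π (π ⁻¹ᵁ W).ι (π ⁻¹ᵁ W).ι W.ι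
    (morphismRestrict_ι π W) (morphismRestrict_ι π W)
  haveI : IsOpenImmersion q := inferInstance
  haveI : Surjective (pullback.diagonal (π ∣_ W)) := ⟨fun z => by
    have hmz : m (q z) ∈ W := by
      have e : q ≫ m = pullback.fst (π ∣_ W) (π ∣_ W) ≫ (π ∣_ W) ≫ W.ι := by
        simp only [q, m, pullback.lift_fst_assoc, Category.assoc, morphismRestrict_ι]
      rw [show m (q z) = (q ≫ m) z from (Scheme.Hom.comp_apply _ _ _).symm, e, ← Category.assoc,
        Scheme.Hom.comp_apply]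
      exact Subtype.coe_prop _
    obtain ⟨a, ha⟩ : q z ∈ Set.range D := not_not.1 fun hn => hmz.2 ⟨_, hn, rfl⟩
    have haW : a ∈ π ⁻¹ᵁ W := by
      change π a ∈ W
      have e2 : (D ≫ m) a = π a := congrArg (fun k => k a) (pullback.diagonal_fst_assoc π π)
      rw [← e2, Scheme.Hom.comp_apply, ha]
      exact hmz
    refine ⟨⟨a, haW⟩, q.isOpenEmbedding.injective ?_⟩
    have e3 : pullback.diagonal (π ∣_ W) ≫ q = (π ⁻¹ᵁ W).ι ≫ D := by
      apply pullback.hom_ext <;> simp [q, D]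
    refine (congrArg (fun k => k ⟨a, haW⟩) e3).trans ?_
    exact ha⟩
  haveI : IsIso (pullback.diagonal (π ∣_ W)) := by
    rw [isIso_iff_isOpenImmersion_and_surjective]
    exact ⟨inferInstance, inferInstance⟩
  haveI : Mono (π ∣_ W) := (pullback.isIso_diagonal_iff _).1 inferInstance
  haveI := IsOpenImmersion.of_flat_of_mono (π ∣_ W)
  rw [isIso_iff_isOpenImmersion_and_surjective]
  exact ⟨inferInstance, inferInstance⟩

variable {Ω : Type u} [Field Ω]

/-- Finitely many geometric points of an étale scheme over a separated quasi-finite one become sections over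
open and closed parts after an étale base change. -/
theorem exists_split_parts [IsAlgClosed Ω] {X Y U : Scheme.{u}} (f : X ⟶ Y) [IsSeparated f]
    [LocallyQuasiFinite f] [LocallyOfFiniteType f] (g : U ⟶ X) [AlgebraicGeometry.Etale g] [IsSeparated (g ≫ f)]
    (q : Spec (.of Ω) ⟶ Y) {ι : Type*} [Finite ι] (r : ι → EtaleSplit.GPts (g ≫ f) q)
    (hinj : Function.Injective r) :
    ∃ (T : Scheme.{u}) (gT : T ⟶ Y) (qT : Spec (.of Ω) ⟶ T) (hq : qT ≫ gT = q) (_ : AlgebraicGeometry.Etale gT)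
      (W : ι → (pullback f gT).Opens) (h : ∀ i, (W i).toScheme ⟶ U),
      (∀ i, IsClosed (W i : Set ↥(pullback f gT))) ∧ (∀ i, h i ≫ g = (W i).ι ≫ pullback.fst f gT) ∧
      ∀ i, ∃ hm : EtaleSplit.pt (pullback.lift ((r i).1 ≫ g) qT
          (by rw [Category.assoc]; exact (r i).2.trans hq.symm)) ∈ W i,
        h i ⟨_, hm⟩ = EtaleSplit.pt (r i).1 := by
  haveI : LocallyQuasiFinite g := Unibranch.locallyQuasiFinite_of_etale g
  let h := g ≫ f
  haveI : LocallyQuasiFinite h := inferInstance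
  haveI : LocallyOfFiniteType h := inferInstance
  obtain ⟨T, gT, qT, hq, V, hgT, hcl, -, hV⟩ := EtaleSplit.exists_split_separated h q r hinj
    fun _ => Scheme.Hom.quasiFiniteAt h _
  haveI := hgT
  let e := pullback.map h gT f gT g (𝟙 T) (𝟙 Y) (by simp [h]) (by simp)
  have he1 : e ≫ pullback.fst f gT = pullback.fst h gT ≫ g := by simp [e]
  have he2 : e ≫ pullback.snd f gT = pullback.snd h gT := by simp [e]
  haveI : AlgebraicGeometry.Etale e := by
    have sq : IsPullback e (pullback.fst h gT) (pullback.fst f gT) g := by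
      refine IsPullback.of_right (h₁₂ := pullback.snd f gT) (v₁₃ := gT) (h₂₂ := f) ?_ (by simp [e])
        (IsPullback.of_hasPullback f gT).flip
      rw [he2]
      exact (IsPullback.of_hasPullback h gT).flip
    exact MorphismProperty.of_isPullback sq.flip inferInstance
  haveI : ∀ i, IsFinite ((V i).ι ≫ pullback.snd h gT) := fun i => (hV i).1
  haveI : ∀ i, IsFinite ((V i).ι ≫ e) := fun i => by
    haveI : IsFinite (((V i).ι ≫ e) ≫ pullback.snd f gT) := by rw [Category.assoc, he2]; infer_instance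
    exact IsFinite.of_comp _ (pullback.snd f gT)
  have key : ∀ i, ∃ W : (pullback f gT).Opens, IsClosed (W : Set ↥(pullback f gT)) ∧
      ((V i).ι ≫ e) ⟨_, (hV i).2.1⟩ ∈ W ∧ IsIso (((V i).ι ≫ e) ∣_ W) := fun i => by
    refine exists_clopen_isIso ((V i).ι ≫ e) ⟨_, (hV i).2.1⟩ fun z hz => ?_
    let π := (V i).ι ≫ e
    let m := pullback.fst π π ≫ π
    haveI : LocallyQuasiFinite π := Unibranch.locallyQuasiFinite_of_etale π
    haveI : LocallyQuasiFinite m := inferInstance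
    haveI : LocallyQuasiFinite (pullback.snd f gT) := inferInstance
    haveI : LocallyOfFiniteType (m ≫ pullback.snd f gT) := inferInstance
    have hv₀T : pullback.snd h gT (EtaleSplit.pt (pullback.lift (r i).1 qT ((r i).2.trans hq.symm))) =
        EtaleSplit.pt qT := by
      rw [← EtaleSplit.pt_comp, pullback.lift_snd]
    obtain ⟨⟨w, hw'⟩, hw⟩ := EtaleSplit.exists_gpt (m ≫ pullback.snd f gT) qT z (by
      rw [Scheme.Hom.comp_apply, hz, ← hv₀T]
      exact congrArg (fun k : pullback h gT ⟶ T => k (EtaleSplit.pt (pullback.lift (r i).1 qT ((r i).2.trans hq.symm)))) he2)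
    have hkey : ∀ b : pullback π π ⟶ (V i).toScheme, b ≫ π = m → w ≫ b ≫ (V i).ι =
        pullback.lift (r i).1 qT ((r i).2.trans hq.symm) := fun b hb => by
      refine (hV i).2.2 ⟨w ≫ b ≫ (V i).ι, ?_⟩ ?_
      · rw [← he2]
        simp only [Category.assoc]
        have := hw'
        rw [← hb] at this
        simpa [π, Category.assoc] using this
      · change EtaleSplit.pt (w ≫ b ≫ (V i).ι) ∈ V i
        rw [← Category.assoc, EtaleSplit.pt_comp]
        exact Subtype.coe_prop _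
    have h3 : w ≫ pullback.fst π π = w ≫ pullback.snd π π := by
      rw [← cancel_mono (V i).ι, Category.assoc, Category.assoc, hkey _ rfl, hkey _ pullback.condition.symm]
    have h4 : (w ≫ pullback.fst π π) ≫ pullback.diagonal π = w := by
      apply pullback.hom_ext <;> simp [h3]
    rw [← hw]
    change EtaleSplit.pt w ∈ _
    rw [← h4, EtaleSplit.pt_comp]
    exact Set.mem_range_self _
  choose W hWcl hvW hiso using key
  let π := fun i => (V i).ι ≫ e
  haveI : ∀ i, IsIso (π i ∣_ W i) := hiso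
  refine ⟨T, gT, qT, hq, hgT, W,
    fun i => inv (π i ∣_ W i) ≫ (π i ⁻¹ᵁ W i).ι ≫ (V i).ι ≫ pullback.fst h gT, hWcl, fun i => ?_, fun i => ?_⟩
  · have e2 : (π i ∣_ W i) ≫ (W i).ι ≫ pullback.fst f gT =
        (π i ⁻¹ᵁ W i).ι ≫ (V i).ι ≫ pullback.fst h gT ≫ g := by
      rw [← Category.assoc, morphismRestrict_ι, Category.assoc, Category.assoc, he1]
    rw [← IsIso.inv_hom_id_assoc (π i ∣_ W i) ((W i).ι ≫ pullback.fst f gT), e2]
    simp
  · have hl : EtaleSplit.pt (pullback.lift ((r i).1 ≫ g) qT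
        (by rw [Category.assoc]; exact (r i).2.trans hq.symm) : _ ⟶ pullback f gT) =
        π i ⟨_, (hV i).2.1⟩ := by
      refine Eq.trans ?_ (Scheme.Hom.comp_apply _ _ _).symm
      change _ = e (EtaleSplit.pt _)
      rw [← EtaleSplit.pt_comp]
      congr 1
      apply pullback.hom_ext <;> simp [e, h]
    refine ⟨hl ▸ hvW i, ?_⟩
    have hpt : (π i ∣_ W i) ⟨⟨_, (hV i).2.1⟩, hvW i⟩ =
        (⟨_, hl ▸ hvW i⟩ : (W i).toScheme) := (W i).ι.isOpenEmbedding.injective (by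
      refine (congrArg (fun k => k ⟨⟨_, (hV i).2.1⟩, hvW i⟩) (morphismRestrict_ι (π i) (W i))).trans ?_
      exact hl.symm)
    rw [← hpt, ← Scheme.Hom.comp_apply, IsIso.hom_inv_id_assoc]
    change pullback.fst h gT (EtaleSplit.pt (pullback.lift (r i).1 qT _)) = _
    rw [← EtaleSplit.pt_comp, pullback.lift_fst]

/-- Condition (A) for separated locally quasi-finite morphisms. -/
theorem propA_of_lqf {X Y : Scheme.{u}} (f : X ⟶ Y) [IsSeparated f] [LocallyQuasiFinite f]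
    [LocallyOfFiniteType f] : BigSite.PropA f := by
  intro U g hg u
  obtain ⟨_, ⟨(Y₀ : Y.Opens), hY₀, rfl⟩, huY, -⟩ := Y.isBasis_affineOpens.exists_subset_of_mem_open
    (Set.mem_univ ((g ≫ f) u)) isOpen_univ
  obtain ⟨_, ⟨(U₀ : U.Opens), hU₀, rfl⟩, huU, hUY⟩ := U.isBasis_affineOpens.exists_subset_of_mem_open
    (a := u) huY ((g ≫ f) ⁻¹ᵁ Y₀).2
  let c := Scheme.Opens.ι U₀ ≫ g
  haveI : IsAffine Y₀ := hY₀
  haveI : IsAffine U₀ := hU₀
  haveI : IsSeparated (c ≫ f) := by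
    have hr : Set.range (c ≫ f) ⊆ Set.range (Scheme.Opens.ι Y₀) := by
      rw [Scheme.Opens.range_ι]
      rintro _ ⟨a, rfl⟩
      exact hUY a.2
    rw [← IsOpenImmersion.lift_fac (Scheme.Opens.ι Y₀) (c ≫ f) hr]
    infer_instance
  haveI : LocallyQuasiFinite c := Unibranch.locallyQuasiFinite_of_etale c
  let q := EtaleSplit.geomPt ((g ≫ f) u)
  obtain ⟨r, hr⟩ := EtaleSplit.exists_gpt (c ≫ f) q (⟨u, huU⟩ : U₀.toScheme) (EtaleSplit.pt_geomPt _).symm
  obtain ⟨T, gT, qT, hq, hgT, W, h, hWcl, hh, hpt⟩ := exists_split_parts f c q (fun _ : PUnit.{1} => r)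
    (fun a b _ => rfl)
  obtain ⟨hm, hmu⟩ := hpt PUnit.unit
  refine ⟨T, gT, hgT, W PUnit.unit, hWcl _, h _ ≫ U₀.ι, ?_, ⟨⟨_, hm⟩, ?_⟩⟩
  · rw [Category.assoc]
    exact hh _
  · rw [Scheme.Hom.comp_apply, hmu, hr]
    rfl

/-- The conclusion of condition (A) at one point. -/
def PropAAt {X Y U : Scheme.{u}} (f : X ⟶ Y) (g : U ⟶ X) (u : U) : Prop :=
  ∃ (V : Scheme.{u}) (v : V ⟶ Y) (_ : AlgebraicGeometry.Etale v) (W : (pullback f v).Opens)
    (_ : IsClosed (W : Set ↥(pullback f v))) (h : (W : Scheme.{u}) ⟶ U),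
    h ≫ g = W.ι ≫ pullback.fst f v ∧ u ∈ Set.range h.base

theorem PropAAt.of_isPullback {X X₁ Y U U₁ : Scheme.{u}} {f : X ⟶ Y} {ρ : X ⟶ X₁} {f₁ : X₁ ⟶ Y} (hf : ρ ≫ f₁ = f)
    {g : U ⟶ X} {σ : U ⟶ U₁} {g₁ : U₁ ⟶ X₁} (sq : IsPullback g σ ρ g₁) (u : U) (h : PropAAt f₁ g₁ (σ u)) :
    PropAAt f g u := by
  obtain ⟨V, v, hv, W₁, hW₁, h₁, hh, w₁, hw₁⟩ := h
  let m := pullback.map f v f₁ v ρ (𝟙 V) (𝟙 Y) (by simp [hf]) (by simp)
  have hm : IsPullback (pullback.fst f v) m ρ (pullback.fst f₁ v) := by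
    refine IsPullback.of_bot (v₂₁ := pullback.snd f₁ v) (v₂₂ := f₁) (h₃₁ := v) ?_ (by simp [m]) (IsPullback.of_hasPullback f₁ v)
    simp only [m, pullback.lift_snd, Category.comp_id, hf]
    exact IsPullback.of_hasPullback f v
  have hbig : IsPullback ((m ⁻¹ᵁ W₁).ι ≫ pullback.fst f v) (m ∣_ W₁) ρ (h₁ ≫ g₁) := by
    rw [hh]
    exact (isPullback_morphismRestrict m W₁).flip.paste_horiz hm
  refine ⟨V, v, hv, m ⁻¹ᵁ W₁, hW₁.preimage m.continuous,
    sq.lift ((m ⁻¹ᵁ W₁).ι ≫ pullback.fst f v) ((m ∣_ W₁) ≫ h₁) (by rw [Category.assoc _ h₁]; exact hbig.w),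
    sq.lift_fst _ _ _, ?_⟩
  have hsq : IsPullback (sq.lift ((m ⁻¹ᵁ W₁).ι ≫ pullback.fst f v) ((m ∣_ W₁) ≫ h₁)
      (by rw [Category.assoc _ h₁]; exact hbig.w)) (m ∣_ W₁) σ h₁ :=
    IsPullback.of_right (by rw [sq.lift_fst]; exact hbig) (sq.lift_snd _ _ _) sq
  obtain ⟨z, hz, -⟩ := Scheme.Pullback.exists_preimage_pullback (f := σ) (g := h₁) u w₁ hw₁.symm
  refine ⟨hsq.isoPullback.inv z, ?_⟩
  rw [← Scheme.Hom.comp_apply, hsq.isoPullback_inv_fst]
  exact hz

theorem PropAAt.of_openImmersion {X X₀ Y Y₀ U U₀ : Scheme.{u}} {f : X ⟶ Y} {f₀ : X₀ ⟶ Y₀} {i : X₀ ⟶ X} {j : Y₀ ⟶ Y}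
    [IsOpenImmersion j] (sq : IsPullback f₀ i j f) {g : U ⟶ X} {g₀ : U₀ ⟶ X₀} {k : U₀ ⟶ U}
    (hk : g₀ ≫ i = k ≫ g) (u : U₀) (h : PropAAt f₀ g₀ u) : PropAAt f g (k u) := by
  obtain ⟨V, v, hv, W₀, hW₀, h₀, hh, hu⟩ := h
  haveI := hv
  let e := pullback.map f₀ v f (v ≫ j) i (𝟙 V) j sq.w (by simp)
  have he : IsPullback (e ≫ pullback.fst f (v ≫ j)) (pullback.snd f₀ v) f (v ≫ j) := by
    have h' := (IsPullback.of_hasPullback f₀ v).paste_horiz (sq.flip)
    simpa [e] using h'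
  haveI : IsIso e := by
    have : e = he.isoPullback.hom := by
      apply pullback.hom_ext
      · rw [he.isoPullback_hom_fst]
      · rw [he.isoPullback_hom_snd]; simp [e]
    rw [this]; infer_instance
  obtain ⟨w, hw⟩ := hu
  refine ⟨V, v ≫ j, inferInstance, inv e ⁻¹ᵁ W₀, hW₀.preimage (inv e).continuous,
    ((inv e) ∣_ W₀) ≫ h₀ ≫ k, ?_, inv ((inv e) ∣_ W₀) w, ?_⟩
  · rw [Category.assoc, Category.assoc, ← hk, ← Category.assoc h₀, hh, Category.assoc, ← Category.assoc (_ ∣_ W₀),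
      morphismRestrict_ι, Category.assoc]
    congr 1
    rw [IsIso.inv_comp_eq]
    simp [e]
  · rw [← Scheme.Hom.comp_apply, IsIso.inv_hom_id_assoc, Scheme.Hom.comp_apply]
    exact congrArg k hw

theorem propA_ring {R A B : CommRingCat.{u}} (φ : R ⟶ A) (hφ : φ.hom.IsIntegral) (ψ : A ⟶ B) (hψ : ψ.hom.Etale)
    (b : Spec B) : PropAAt (Spec.map φ) (Spec.map ψ) b := by
  algebraize [φ.hom, ψ.hom]
  haveI : Algebra.Etale A B := hψ
  haveI : Algebra.IsIntegral R A := ⟨hφ⟩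
  obtain ⟨A₀, B₀, _, _, hfg, hA₀, ⟨e⟩⟩ := Algebra.Etale.exists_subalgebra_fg R A B
  haveI : Module.Finite R A₀ := by
    haveI : Algebra.FiniteType R A₀ := (Subalgebra.fg_iff_finiteType A₀).mp hfg
    haveI : Algebra.IsIntegral R A₀ := ⟨fun x =>
      (isIntegral_algHom_iff A₀.val Subtype.val_injective).1 (Algebra.IsIntegral.isIntegral (x : A))⟩
    exact Algebra.IsIntegral.finite
  let φ₁ : R ⟶ CommRingCat.of A₀ := CommRingCat.ofHom (algebraMap R A₀)
  let ρ : CommRingCat.of A₀ ⟶ A := CommRingCat.ofHom (algebraMap A₀ A)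
  let ψ₁ : CommRingCat.of A₀ ⟶ CommRingCat.of B₀ := CommRingCat.ofHom (algebraMap A₀ B₀)
  let σ : CommRingCat.of B₀ ⟶ B := CommRingCat.ofHom (e.symm.toRingEquiv.toRingHom.comp
    (Algebra.TensorProduct.includeRight : B₀ →ₐ[A₀] A ⊗[A₀] B₀).toRingHom)
  have hpo : IsPushout ρ ψ₁ ψ σ := by
    refine (CommRingCat.isPushout_tensorProduct A₀ A B₀).of_iso (Iso.refl _) (Iso.refl _) (Iso.refl _)
      e.symm.toRingEquiv.toCommRingCatIso (by simp [ρ]) (by simp [ψ₁]) ?_ (by ext; rfl)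
    ext x
    exact e.symm.commutes x
  haveI : IsFinite (Spec.map φ₁) := (IsFinite.SpecMap_iff φ₁).2 (RingHom.finite_algebraMap.2 ‹_›)
  haveI : AlgebraicGeometry.Etale (Spec.map ψ₁) :=
    (HasRingHomProperty.Spec_iff (P := @AlgebraicGeometry.Etale)).2 (RingHom.etale_algebraMap.2 hA₀)
  refine PropAAt.of_isPullback (ρ := Spec.map ρ) (f₁ := Spec.map φ₁) ?_
    (isPullback_SpecMap_of_isPushout ρ ψ₁ ψ σ hpo) b (propA_of_lqf (Spec.map φ₁) _ (Spec.map ψ₁) _)
  rw [← Spec.map_comp]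
  rfl

/-- Condition (A) for integral morphisms. -/
theorem propA_of_integral {X Y : Scheme.{u}} (f : X ⟶ Y) [IsIntegralHom f] : BigSite.PropA f := by
  intro U g hg u
  obtain ⟨_, ⟨(Y₀ : Y.Opens), hY₀, rfl⟩, huY, -⟩ := Y.isBasis_affineOpens.exists_subset_of_mem_open
    (Set.mem_univ (f (g u))) isOpen_univ
  have hX₀ : IsAffineOpen (f ⁻¹ᵁ Y₀) := hY₀.preimage f
  obtain ⟨_, ⟨(U₀ : U.Opens), hU₀, rfl⟩, huU, hUX⟩ := U.isBasis_affineOpens.exists_subset_of_mem_open
    (a := u) huY (g ⁻¹ᵁ (f ⁻¹ᵁ Y₀)).2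
  have hU : U₀ ≤ g ⁻¹ᵁ (f ⁻¹ᵁ Y₀) := hUX
  have h := PropAAt.of_openImmersion (f := f) (f₀ := Spec.map (f.appLE Y₀ (f ⁻¹ᵁ Y₀) le_rfl))
    (i := hX₀.fromSpec) (j := hY₀.fromSpec) (g := g) (g₀ := Spec.map (g.appLE (f ⁻¹ᵁ Y₀) U₀ hU))
    (k := hU₀.fromSpec) ?_ (hX₀.SpecMap_appLE_fromSpec g hU₀ hU) (hU₀.primeIdealOf ⟨u, huU⟩)
    (propA_ring _ ?_ _ ?_ _)
  · rwa [hU₀.fromSpec_primeIdealOf] at h
  · refine IsPullback.flip ?_
    have h1 : hX₀.isoSpec.inv ≫ (f ∣_ Y₀) = Spec.map (f.appLE Y₀ (f ⁻¹ᵁ Y₀) le_rfl) ≫ hY₀.isoSpec.inv := by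
      rw [← cancel_mono Y₀.ι, Category.assoc, morphismRestrict_ι, Category.assoc, hY₀.isoSpec_inv_ι,
        ← Category.assoc, hX₀.isoSpec_inv_ι, hY₀.SpecMap_appLE_fromSpec f hX₀ le_rfl]
    refine (isPullback_morphismRestrict f Y₀).flip.of_iso hX₀.isoSpec (Iso.refl _) hY₀.isoSpec (Iso.refl _)
      ?_ ?_ (by simp) ?_
    · rw [Iso.refl_hom, Category.comp_id, ← Iso.inv_comp_eq, hX₀.isoSpec_inv_ι]
    · rw [← Iso.inv_comp_eq, ← Category.assoc, h1, Category.assoc, Iso.inv_hom_id, Category.comp_id]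
    · rw [Iso.refl_hom, Category.comp_id, ← Iso.inv_comp_eq, hY₀.isoSpec_inv_ι]
  · exact IsIntegralHom.SpecMap_iff.1 (by
      have h1 : hX₀.isoSpec.inv ≫ (f ∣_ Y₀) = Spec.map (f.appLE Y₀ (f ⁻¹ᵁ Y₀) le_rfl) ≫ hY₀.isoSpec.inv := by
        rw [← cancel_mono Y₀.ι, Category.assoc, morphismRestrict_ι, Category.assoc, hY₀.isoSpec_inv_ι,
          ← Category.assoc, hX₀.isoSpec_inv_ι, hY₀.SpecMap_appLE_fromSpec f hX₀ le_rfl]
      rw [← MorphismProperty.cancel_right_of_respectsIso @IsIntegralHom _ hY₀.isoSpec.inv, ← h1]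
      infer_instance)
  · exact HasRingHomProperty.appLE (P := @AlgebraicGeometry.Etale) g inferInstance ⟨_, hX₀⟩ ⟨_, hU₀⟩ hU

end Groth.Agent.EtPtsLib

namespace Groth.Agent.EtPtsLib

/-- Opens of the base change along a closed embedding come from the target. -/
theorem isInducing_snd_of_closedEmbedding {X Y : Scheme.{u}} (f : X ⟶ Y) [UniversallyClosed f]
    [UniversallyInjective f] {V : Scheme.{u}} (v : V ⟶ Y) : Topology.IsInducing (pullback.snd f v).base := by
  haveI : UniversallyInjective (pullback.snd f v) :=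
    MorphismProperty.of_isPullback (IsPullback.of_hasPullback f v) ‹UniversallyInjective f›
  exact (Topology.IsClosedEmbedding.of_continuous_injective_isClosedMap (pullback.snd f v).continuous
    (pullback.snd f v).injective (pullback.snd f v).isClosedMap).isInducing

/-- Condition (C) from condition (A) when the opens of base changes come from the target. -/
theorem propC_of_propA {X Y : Scheme.{u}} (f : X ⟶ Y) (hA : BigSite.PropA f)
    (hI : ∀ {V : Scheme.{u}} (v : V ⟶ Y) [AlgebraicGeometry.Etale v], Topology.IsInducing (pullback.snd f v).base) :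
    BigSite.PropC f := by
  intro U g hg
  choose V v hv W hW h hh hu using fun u : U => hA U g u
  haveI := hv
  have hO : ∀ u, ∃ O : (V u).Opens, pullback.snd f (v u) ⁻¹ᵁ O = W u := fun u => by
    obtain ⟨O', hO', hpre⟩ := (hI (v u)).isOpen_iff.1 (W u).2
    exact ⟨⟨O', hO'⟩, TopologicalSpace.Opens.ext hpre⟩
  choose O hO using hO
  let vs : ∀ u, (O u).toScheme ⟶ Y := fun u => (O u).ι ≫ v u
  let d := Sigma.desc vs
  haveI : AlgebraicGeometry.Etale d := IsZariskiLocalAtSource.sigmaDesc fun u => inferInstanceAs (AlgebraicGeometry.Etale ((O u).ι ≫ v u))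
  let m : ∀ u, pullback f (vs u) ⟶ pullback f d := fun u =>
    pullback.map f (vs u) f d (𝟙 X) (Sigma.ι (fun u => (O u).toScheme) u) (𝟙 Y) (by simp) (by simp [d])
  have hm : ∀ u, IsPullback (pullback.snd f (vs u)) (m u) (Sigma.ι (fun u => (O u).toScheme) u) (pullback.snd f d) := by
    intro u
    refine IsPullback.of_bot (v₂₁ := pullback.fst f d) (v₂₂ := d) (h₃₁ := f) ?_ (by simp [m]) (IsPullback.of_hasPullback f d).flip
    simp only [m, pullback.lift_fst, Category.comp_id, d, Sigma.ι_desc]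
    exact (IsPullback.of_hasPullback f (vs u)).flip
  haveI : ∀ u, IsOpenImmersion (m u) := fun u => MorphismProperty.of_isPullback (hm u) inferInstance
  have hrange : ∀ u, Set.range (m u) = pullback.snd f d ⁻¹' Set.range (Sigma.ι (fun u => (O u).toScheme) u) := fun u => by
    ext z
    refine ⟨?_, fun ⟨o, ho⟩ => ?_⟩
    · rintro ⟨a, rfl⟩
      exact ⟨pullback.snd f (vs u) a, congrArg (fun q => q a) (hm u).w⟩
    · obtain ⟨p, -, hp⟩ := Scheme.Pullback.exists_preimage_pullback (f := Sigma.ι (fun u => (O u).toScheme) u)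
        (g := pullback.snd f d) o z ho
      refine ⟨(hm u).isoPullback.inv p, ?_⟩
      rw [← Scheme.Hom.comp_apply, (hm u).isoPullback_inv_snd]
      exact hp
  obtain ⟨hc⟩ := nonempty_isColimit_cofanMk_of m (by
    rw [eq_top_iff]
    intro z _
    obtain ⟨u, o, ho⟩ := (sigmaOpenCover fun u : U => (O u).toScheme).exists_eq (pullback.snd f d z)
    refine TopologicalSpace.Opens.mem_iSup.2 ⟨u, ?_⟩
    change z ∈ Set.range (m u)
    rw [hrange u]
    exact ⟨o, ho⟩) fun a b hab => by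
      have := TopologicalSpace.Opens.coe_disjoint.2 (disjoint_opensRange_sigmaι (fun u : U => (O u).toScheme) a b hab)
      change Disjoint (m a).opensRange (m b).opensRange
      rw [← TopologicalSpace.Opens.coe_disjoint]
      change Disjoint (Set.range (m a)) (Set.range (m b))
      rw [hrange a, hrange b]
      exact this.preimage _
  let c : ∀ u, pullback f (vs u) ⟶ W u := fun u =>
    IsOpenImmersion.lift (W u).ι (pullback.map f (vs u) f (v u) (𝟙 X) (O u).ι (𝟙 Y) (by simp) (by simp [vs])) (by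
      rintro _ ⟨a, rfl⟩
      rw [Scheme.Opens.range_ι]
      rw [← hO u]
      change pullback.snd f (v u) _ ∈ O u
      have e : pullback.map f (vs u) f (v u) (𝟙 X) (O u).ι (𝟙 Y) (by simp) (by simp [vs]) ≫ pullback.snd f (v u) =
          pullback.snd f (vs u) ≫ (O u).ι := by simp
      rw [← Scheme.Hom.comp_apply, e, Scheme.Hom.comp_apply]
      exact Subtype.coe_prop _)
  refine ⟨_, d, inferInstance, hc.desc (Cofan.mk U fun u => c u ≫ h u), ?_, ⟨fun u => ?_⟩⟩
  · refine hc.hom_ext fun ⟨u⟩ => ?_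
    rw [← Category.assoc, hc.fac]
    change (c u ≫ h u) ≫ g = m u ≫ pullback.fst f d
    rw [Category.assoc, hh u, IsOpenImmersion.lift_fac_assoc]
    simp [m]
  · obtain ⟨w, hw⟩ := hu u
    have hp : ∃ a, c u a = w := by
      have hw2 : pullback.snd f (v u) w.1 ∈ O u := by
        exact (SetLike.ext_iff.1 (hO u) w.1).2 w.2
      have sq : IsPullback (pullback.map f (vs u) f (v u) (𝟙 X) (O u).ι (𝟙 Y) (by simp) (by simp [vs]))
          (pullback.snd f (vs u)) (pullback.snd f (v u)) (O u).ι :=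
        EtaleSplit.isPullback_pullbackMap f (v u) (vs u) (O u).ι rfl
      obtain ⟨p, hp, -⟩ := Scheme.Pullback.exists_preimage_pullback (f := pullback.snd f (v u)) (g := (O u).ι)
        w.1 ⟨_, hw2⟩ rfl
      refine ⟨sq.isoPullback.inv p, (W u).ι.isOpenEmbedding.injective ?_⟩
      rw [← Scheme.Hom.comp_apply, IsOpenImmersion.lift_fac, ← Scheme.Hom.comp_apply, sq.isoPullback_inv_fst]
      exact hp
    obtain ⟨a, ha⟩ := hp
    refine ⟨m u a, ?_⟩
    rw [← Scheme.Hom.comp_apply]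
    refine (congrArg (fun q => q a) (hc.fac (Cofan.mk U fun u => c u ≫ h u) ⟨u⟩)).trans ?_
    change (c u ≫ h u) a = u
    rw [Scheme.Hom.comp_apply, ha, hw]

end Groth.Agent.EtPtsLib
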