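import Groth.Prelude.Def_BigSite
import Groth.Agent.EtPtsLib.PropA
/-!
Integral morphisms: étale coverings split into clopen parts étale locally on the target.
-/

set_option autoImplicit false
set_option backward.isDefEq.respectTransparency false
set_option backward.isDefEq.respectTransparency.types false

universe u

open CategoryTheory CategoryTheory.Limits AlgebraicGeometry

namespace Groth.Agent.EtPtsLib

variable {X Y : Scheme.{u}}

/-- Points of a scheme integral over an algebraically closed field are rational. -/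
theorem exists_section_at {Ω : Type u} [Field Ω] [IsAlgClosed Ω] {F : Scheme.{u}} (s : F ⟶ Spec (.of Ω))
    [IsIntegralHom s] (p : F) :
    ∃ σ : Spec (.of Ω) ⟶ F, σ ≫ s = 𝟙 _ ∧ EtaleSplit.pt σ = p := by
  haveI : IsAffine F := isAffine_of_isAffineHom s
  let e := F.isoSpec
  obtain ⟨φ, hφ⟩ : ∃ φ, Spec.map φ = e.inv ≫ s := ⟨_, Spec.map_preimage _⟩
  have hφi : φ.hom.IsIntegral := IsIntegralHom.SpecMap_iff.1 (by rw [hφ]; infer_instance)
  let P : PrimeSpectrum Γ(F, ⊤) := e.hom p
  algebraize [φ.hom]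
  haveI : Algebra.IsIntegral Ω Γ(F, ⊤) := ⟨hφi⟩
  let K := Γ(F, ⊤) ⧸ P.asIdeal
  haveI : Algebra.IsIntegral Ω K := inferInstance
  haveI : Algebra.IsAlgebraic Ω K := inferInstance
  let ψ : K →ₐ[Ω] Ω := IsAlgClosed.lift
  have hK : IsField K := isField_of_isIntegral_of_isField' (Field.toIsField Ω)
  let χ : Γ(F, ⊤) ⟶ .of Ω := CommRingCat.ofHom (ψ.toRingHom.comp (Ideal.Quotient.mk P.asIdeal))
  refine ⟨Spec.map χ ≫ e.inv, ?_, ?_⟩
  · rw [Category.assoc, ← hφ, ← Spec.map_comp, ← Spec.map_id]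
    congr 1
    ext r
    exact ψ.commutes r
  · rw [EtaleSplit.pt_comp]
    have : EtaleSplit.pt (Spec.map χ) = P := PrimeSpectrum.ext (by
      change Ideal.comap χ.hom (IsLocalRing.maximalIdeal Ω) = P.asIdeal
      rw [IsLocalRing.maximalIdeal_eq_bot]
      letI := hK.toField
      ext a
      simp only [Ideal.mem_comap, Ideal.mem_bot, χ, CommRingCat.hom_ofHom, RingHom.comp_apply]
      rw [map_eq_zero_iff _ (RingHom.injective ψ.toRingHom), Ideal.Quotient.eq_zero_iff_mem])
    rw [this]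
    exact (congrArg (fun k => k p) e.hom_inv_id)

/-- Finitely many clopens shrink to pairwise disjoint opens with the same union. -/
theorem exists_disjointify {Z : Type u} [TopologicalSpace Z] {n : ℕ} (A : ULift.{u} (Fin n) → TopologicalSpace.Opens Z)
    (hA : ∀ a, IsClosed (A a : Set Z)) :
    ∃ W : ULift.{u} (Fin n) → TopologicalSpace.Opens Z, (∀ a b, a ≠ b → Disjoint (W a) (W b)) ∧
      (∀ a, W a ≤ A a) ∧ ∀ z a, z ∈ A a → ∃ b, z ∈ W b := by
  classical
  refine ⟨fun a => ⟨(A a : Set Z) \ ⋃ c : {c : ULift.{u} (Fin n) // c.down < a.down}, (A c.1 : Set Z),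
    IsOpen.sdiff (A a).2 (isClosed_iUnion_of_finite fun c => hA c.1)⟩, fun a c hac => ?_, fun a z hz => hz.1,
    fun z a ha => ?_⟩
  · rw [← TopologicalSpace.Opens.coe_disjoint]
    rcases lt_trichotomy a.down c.down with hlt | heq | hlt
    · exact Set.disjoint_left.2 fun z hza hzc => hzc.2 (Set.mem_iUnion.2 ⟨⟨a, hlt⟩, hza.1⟩)
    · exact absurd (ULift.ext _ _ heq) hac
    · exact Set.disjoint_left.2 fun z hza hzc => hza.2 (Set.mem_iUnion.2 ⟨⟨c, hlt⟩, hzc.1⟩)
  · have hne : ∃ j, z ∈ A ⟨j⟩ := ⟨a.down, ha⟩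
    refine ⟨⟨Fin.find _ hne⟩, Fin.find_spec hne, fun hc => ?_⟩
    obtain ⟨⟨c, hc⟩, hzc⟩ := Set.mem_iUnion.1 hc
    exact Fin.find_min hne hc hzc

/-- Étale locally at a point of the target, the source of an integral morphism splits into parts each
mapping to a member of a family of étale schemes covering the fibre. -/
theorem exists_parts (f : X ⟶ Y) [IsIntegralHom f] {ι : Type u} (U : ι → Scheme.{u})
    (g : ∀ i, U i ⟶ X) (hg : ∀ i, AlgebraicGeometry.Etale (g i)) (y : Y)
    (hcov : ∀ x, f x = y → ∃ i, x ∈ Set.range (g i)) :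
    ∃ (T : Scheme.{u}) (gT : T ⟶ Y) (_ : AlgebraicGeometry.Etale gT) (_ : y ∈ Set.range gT) (μ : Type u)
      (W : μ → (pullback f gT).Opens),
      (∀ a b, a ≠ b → Disjoint (W a) (W b)) ∧ (⨆ a, W a) = ⊤ ∧
      ∀ a, ∃ (i : ι) (h : (W a).toScheme ⟶ U i), h ≫ g i = (W a).ι ≫ pullback.fst f gT := by
  let q := EtaleSplit.geomPt y
  haveI : CompactSpace ↥(pullback f q) := QuasiCompact.compactSpace_of_compactSpace (pullback.snd f q)
  have key : ∀ p : ↥(pullback f q), ∃ (i : ι) (V : Scheme.{u}) (v : V ⟶ Y) (_ : AlgebraicGeometry.Etale v)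
      (W : (pullback f v).Opens) (qV : Spec _ ⟶ V) (hqV : qV ≫ v = q) (h : W.toScheme ⟶ U i),
      IsClosed (W : Set ↥(pullback f v)) ∧ h ≫ g i = W.ι ≫ pullback.fst f v ∧
      pullback.lift (pullback.fst f q) (pullback.snd f q ≫ qV)
        (by rw [Category.assoc, hqV, pullback.condition]) p ∈ W := by
    intro p
    obtain ⟨σ, hσ, hσp⟩ := exists_section_at (pullback.snd f q) p
    have hfp : f (pullback.fst f q p) = y := by
      rw [← hσp, ← EtaleSplit.pt_comp, ← EtaleSplit.pt_comp, Category.assoc, pullback.condition,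
        ← Category.assoc, hσ, Category.id_comp]
      exact EtaleSplit.pt_geomPt y
    obtain ⟨i, u, hu⟩ := hcov _ hfp
    haveI := hg i
    obtain ⟨V, v, hv, W, hW, h, hh, w, hw⟩ := propA_of_integral f (U i) (g i) u
    haveI := hv
    haveI : LocallyQuasiFinite (W.ι ≫ pullback.fst f v) := Unibranch.locallyQuasiFinite_of_etale _
    obtain ⟨⟨w', hw'⟩, hw2⟩ := EtaleSplit.exists_gpt (W.ι ≫ pullback.fst f v) (σ ≫ pullback.fst f q) w (by
      rw [← hh, EtaleSplit.pt_comp, hσp, ← hu, Scheme.Hom.comp_apply]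
      exact congrArg (g i) hw)
    have hqV : (w' ≫ W.ι ≫ pullback.snd f v) ≫ v = q := by
      rw [Category.assoc, Category.assoc, ← pullback.condition, ← Category.assoc W.ι, ← Category.assoc,
        hw', Category.assoc, pullback.condition, ← Category.assoc, hσ, Category.id_comp]
    refine ⟨i, V, v, hv, W, w' ≫ W.ι ≫ pullback.snd f v, hqV, h, hW, hh, ?_⟩
    have e : σ ≫ pullback.lift (pullback.fst f q) (pullback.snd f q ≫ w' ≫ W.ι ≫ pullback.snd f v)
        (by rw [Category.assoc, hqV, pullback.condition]) = w' ≫ W.ι := by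
      apply pullback.hom_ext
      · rw [Category.assoc, pullback.lift_fst, Category.assoc]; exact hw'.symm
      · rw [Category.assoc, pullback.lift_snd, ← Category.assoc, hσ, Category.id_comp, Category.assoc]
    rw [← hσp, ← EtaleSplit.pt_comp, e, EtaleSplit.pt_comp]
    exact Subtype.coe_prop _
  choose i V v hv W qV hqV h hW hh hp using key
  obtain ⟨s, hs⟩ := isCompact_univ.elim_finite_subcover
    (fun p => ((pullback.lift (pullback.fst f q) (pullback.snd f q ≫ qV p)
        (by rw [Category.assoc, hqV, pullback.condition]) : pullback f q ⟶ pullback f (v p)) ⁻¹ᵁ W p :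
          Set ↥(pullback f q))) (fun p => TopologicalSpace.Opens.isOpen _) (fun p _ => Set.mem_iUnion.2 ⟨p, hp p⟩)
  obtain ⟨T, gT, q', hgT, hq', hk⟩ := EtaleSplit.exists_refine q s V v hv qV hqV
  choose k hk hk' using fun a : s => hk a a.2
  haveI := hgT
  let k₀ : ∀ a : s, pullback f gT ⟶ pullback f (v a) := fun a =>
    pullback.lift (pullback.fst f gT) (pullback.snd f gT ≫ k a) (by rw [Category.assoc, hk, pullback.condition])
  let Bad := pullback.snd f gT '' (⋃ a : s, (k₀ a ⁻¹ᵁ W a : Set ↥(pullback f gT)))ᶜ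
  have hBad : IsClosed Bad := (pullback.snd f gT).isClosedMap _
    (isOpen_iUnion fun a => (k₀ a ⁻¹ᵁ W a).2).isClosed_compl
  have ht : EtaleSplit.pt q' ∉ Bad := by
    rintro ⟨z, hz, hzt⟩
    apply hz
    let m : pullback f q ⟶ pullback f gT := pullback.lift (pullback.fst f q) (pullback.snd f q ≫ q')
      (by rw [Category.assoc, hq', pullback.condition])
    have sq : IsPullback m (pullback.snd f q) (pullback.snd f gT) q' :=
      IsPullback.of_right (h₁₂ := pullback.fst f gT) (v₁₃ := f) (h₂₂ := gT)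
        (by rw [pullback.lift_fst, hq']; exact IsPullback.of_hasPullback f q) (pullback.lift_snd _ _ _)
        (IsPullback.of_hasPullback f gT)
    obtain ⟨p', hp', -⟩ := Scheme.Pullback.exists_preimage_pullback (f := pullback.snd f gT) (g := q')
      z _ hzt
    have hmz : m (sq.isoPullback.inv p') = z := by
      rw [← Scheme.Hom.comp_apply, sq.isoPullback_inv_fst]; exact hp'
    obtain ⟨a, ha, hpa⟩ := Set.mem_iUnion₂.1 (hs (Set.mem_univ (sq.isoPullback.inv p')))
    refine Set.mem_iUnion.2 ⟨⟨a, ha⟩, ?_⟩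
    have e : m ≫ k₀ ⟨a, ha⟩ = pullback.lift (pullback.fst f q) (pullback.snd f q ≫ qV a)
        (by rw [Category.assoc, hqV, pullback.condition]) := by
      apply pullback.hom_ext
      · simp [m, k₀]
      · simp only [m, k₀, Category.assoc, pullback.lift_snd, pullback.lift_snd_assoc]
        rw [hk']
    change k₀ ⟨a, ha⟩ z ∈ W a
    rw [← hmz, ← Scheme.Hom.comp_apply, e]
    exact hpa
  let T' : T.Opens := ⟨Badᶜ, hBad.isOpen_compl⟩
  let b : pullback f (T'.ι ≫ gT) ⟶ pullback f gT :=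
    pullback.map f (T'.ι ≫ gT) f gT (𝟙 X) T'.ι (𝟙 Y) (by simp) (by simp)
  let n := Fintype.card s
  let en : Fin n ≃ s := (Fintype.equivFin s).symm
  let A : ULift.{u} (Fin n) → (pullback f (T'.ι ≫ gT)).Opens := fun a => b ⁻¹ᵁ (k₀ (en a.down) ⁻¹ᵁ W _)
  have hA : ∀ a, IsClosed (A a : Set ↥(pullback f (T'.ι ≫ gT))) := fun a =>
    ((hW _).preimage (k₀ (en a.down)).continuous).preimage b.continuous
  obtain ⟨W', hd, hle, hW'⟩ := exists_disjointify A hA
  refine ⟨(T' : Scheme.{u}), T'.ι ≫ gT, inferInstance, ⟨⟨_, ht⟩, ?_⟩, ULift.{u} (Fin n), W', hd, ?_, fun a => ?_⟩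
  · rw [Scheme.Hom.comp_apply]
    change gT (EtaleSplit.pt q') = y
    rw [← EtaleSplit.pt_comp, hq']
    exact EtaleSplit.pt_geomPt y
  · rw [eq_top_iff]
    intro z _
    have hz : b z ∈ ⋃ a : s, (k₀ a ⁻¹ᵁ W a : Set ↥(pullback f gT)) := by
      by_contra hn
      apply (pullback.snd f (T'.ι ≫ gT) z).2
      refine ⟨b z, hn, ?_⟩
      have e : b ≫ pullback.snd f gT = pullback.snd f (T'.ι ≫ gT) ≫ T'.ι := by simp [b]
      rw [← Scheme.Hom.comp_apply, e]
      rfl
    obtain ⟨a, ha⟩ := Set.mem_iUnion.1 hz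
    refine TopologicalSpace.Opens.mem_iSup.2 (hW' z ⟨en.symm a⟩ ?_)
    change b z ∈ k₀ (en (en.symm a)) ⁻¹ᵁ W _
    rw [en.apply_symm_apply]
    exact ha
  · refine ⟨_, IsOpenImmersion.lift (W _).ι (Scheme.Opens.ι (W' a) ≫ b ≫ k₀ (en a.down)) ?_ ≫ h _, ?_⟩
    · rintro _ ⟨z, rfl⟩
      rw [Scheme.Opens.range_ι]
      exact hle a z.2
    · rw [Category.assoc, hh, IsOpenImmersion.lift_fac_assoc]
      simp [b, k₀]

/-- Condition (B) for integral morphisms. -/
theorem propB_of_integral (f : X ⟶ Y) [IsIntegralHom f] : BigSite.PropB f := by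
  intro V v _ ι U g hg hcov
  choose T gT hT hy μ W hd htop hW using
    fun y : V => exists_parts (pullback.snd f v) U g hg y fun x _ => hcov x
  refine ⟨V, T, gT, hT, fun y => ⟨y, hy y⟩, fun j => ⟨μ j,
    fun a => (pullbackLeftPullbackSndIso f v (gT j)).inv ⁻¹ᵁ W j a, fun a b hab => ?_, ?_, fun a => ?_⟩⟩
  · rw [← TopologicalSpace.Opens.coe_disjoint]
    exact (TopologicalSpace.Opens.coe_disjoint.2 (hd j a b hab)).preimage _
  · rw [eq_top_iff]
    intro z _
    have hz : (pullbackLeftPullbackSndIso f v (gT j)).inv z ∈ ⨆ a, W j a := by rw [htop]; trivial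
    obtain ⟨a, ha⟩ := TopologicalSpace.Opens.mem_iSup.1 hz
    exact TopologicalSpace.Opens.mem_iSup.2 ⟨a, ha⟩
  · obtain ⟨i, h, hh⟩ := hW j a
    refine ⟨i, ((pullbackLeftPullbackSndIso f v (gT j)).inv ∣_ W j a) ≫ h, ?_⟩
    rw [Category.assoc, hh, ← Category.assoc, morphismRestrict_ι, Category.assoc]
    congr 1
    apply pullback.hom_ext
    · simp [pullbackLeftPullbackSndIso_inv_fst]
    · simp [pullback.condition]

/-- Condition (C) from its local form. -/
theorem propC_of_local (f : X ⟶ Y) (h : ∀ (U : Scheme.{u}) (g : U ⟶ X), AlgebraicGeometry.Etale g → ∀ u : U,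
    ∃ (V : Scheme.{u}) (v : V ⟶ Y) (_ : AlgebraicGeometry.Etale v) (h : pullback f v ⟶ U),
      h ≫ g = pullback.fst f v ∧ u ∈ Set.range h) : BigSite.PropC f := by
  intro U g hg
  choose V v hv k hk hu using h U g hg
  haveI := hv
  let d := Sigma.desc v
  haveI : AlgebraicGeometry.Etale d := IsZariskiLocalAtSource.sigmaDesc fun u => hv u
  let m : ∀ u, pullback f (v u) ⟶ pullback f d := fun u =>
    pullback.map f (v u) f d (𝟙 X) (Sigma.ι V u) (𝟙 Y) (by simp) (by simp [d])
  have hm : ∀ u, IsPullback (pullback.snd f (v u)) (m u) (Sigma.ι V u) (pullback.snd f d) := by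
    intro u
    refine IsPullback.of_bot (v₂₁ := pullback.fst f d) (v₂₂ := d) (h₃₁ := f) ?_ (by simp [m]) (IsPullback.of_hasPullback f d).flip
    simp only [m, pullback.lift_fst, Category.comp_id, d, Sigma.ι_desc]
    exact (IsPullback.of_hasPullback f (v u)).flip
  haveI : ∀ u, IsOpenImmersion (m u) := fun u => MorphismProperty.of_isPullback (hm u) inferInstance
  have hrange : ∀ u, Set.range (m u) = pullback.snd f d ⁻¹' Set.range (Sigma.ι V u) := fun u => by
    ext z
    refine ⟨?_, fun ⟨o, ho⟩ => ?_⟩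
    · rintro ⟨a, rfl⟩
      exact ⟨pullback.snd f (v u) a, congrArg (fun q => q a) (hm u).w⟩
    · obtain ⟨p, -, hp⟩ := Scheme.Pullback.exists_preimage_pullback (f := Sigma.ι V u)
        (g := pullback.snd f d) o z ho
      refine ⟨(hm u).isoPullback.inv p, ?_⟩
      rw [← Scheme.Hom.comp_apply, (hm u).isoPullback_inv_snd]
      exact hp
  obtain ⟨hc⟩ := nonempty_isColimit_cofanMk_of m (by
    rw [eq_top_iff]
    intro z _
    obtain ⟨u, o, ho⟩ := (sigmaOpenCover V).exists_eq (pullback.snd f d z)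
    refine TopologicalSpace.Opens.mem_iSup.2 ⟨u, ?_⟩
    change z ∈ Set.range (m u)
    rw [hrange u]
    exact ⟨o, ho⟩) fun a b hab => by
      have := TopologicalSpace.Opens.coe_disjoint.2 (disjoint_opensRange_sigmaι V a b hab)
      change Disjoint (m a).opensRange (m b).opensRange
      rw [← TopologicalSpace.Opens.coe_disjoint]
      change Disjoint (Set.range (m a)) (Set.range (m b))
      rw [hrange a, hrange b]
      exact this.preimage _
  refine ⟨_, d, inferInstance, hc.desc (Cofan.mk U k), ?_, ⟨fun u => ?_⟩⟩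
  · refine hc.hom_ext fun ⟨u⟩ => ?_
    rw [← Category.assoc, hc.fac]
    change k u ≫ g = m u ≫ pullback.fst f d
    rw [hk u]
    simp [m]
  · obtain ⟨w, hw⟩ := hu u
    refine ⟨m u w, ?_⟩
    rw [← Scheme.Hom.comp_apply]
    exact (congrArg (fun q => q w) (hc.fac (Cofan.mk U k) ⟨u⟩)).trans hw

/-- Condition (C) for an integral morphism with injective map of points. -/
theorem propC_of_integral (f : X ⟶ Y) [IsIntegralHom f] (hf : Function.Injective f) : BigSite.PropC f := by
  refine propC_of_local f fun U g hg u => ?_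
  obtain ⟨V, v, hv, W₀, hW₀, h₀, hh₀, w₀, hw₀⟩ := propA_of_integral f U g u
  haveI := hv
  haveI := hg
  let R : (pullback f v).Opens := ⟨(W₀ : Set ↥(pullback f v))ᶜ, hW₀.isOpen_compl⟩
  let F : ULift.{u} Bool → Scheme.{u} := fun b => if b.down then W₀.toScheme else pullback (R.ι ≫ pullback.fst f v) g
  let G : ∀ b, F b ⟶ pullback f v := fun b => match b with
    | ⟨true⟩ => W₀.ι
    | ⟨false⟩ => pullback.fst (R.ι ≫ pullback.fst f v) g ≫ R.ι
  have hG : ∀ b, AlgebraicGeometry.Etale (G b) := fun b => match b with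
    | ⟨true⟩ => (inferInstance : AlgebraicGeometry.Etale W₀.ι)
    | ⟨false⟩ => (inferInstance : AlgebraicGeometry.Etale (pullback.fst (R.ι ≫ pullback.fst f v) g ≫ R.ι))
  let H : ∀ b, F b ⟶ U := fun b => match b with
    | ⟨true⟩ => h₀
    | ⟨false⟩ => pullback.snd (R.ι ≫ pullback.fst f v) g
  have hH : ∀ b, H b ≫ g = G b ≫ pullback.fst f v := fun b => match b with
    | ⟨true⟩ => hh₀
    | ⟨false⟩ => pullback.condition.symm.trans (Category.assoc _ _ _).symm
  have hu : g u = pullback.fst f v w₀.1 := by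
    have e : (h₀ ≫ g) w₀ = (W₀.ι ≫ pullback.fst f v) w₀ := by rw [hh₀]
    rw [Scheme.Hom.comp_apply, hw₀, Scheme.Hom.comp_apply] at e
    exact e
  obtain ⟨T, gT, hT, ⟨t, ht⟩, μ, W, hd, htop, hW⟩ := exists_parts (pullback.snd f v) F G hG
    (pullback.snd f v w₀.1) (fun z hz => by
      by_cases hzW : z ∈ W₀
      · exact ⟨⟨true⟩, ⟨z, hzW⟩, rfl⟩
      · have e : pullback.fst f v z = g u := by
          rw [hu]
          apply hf
          rw [← Scheme.Hom.comp_apply, ← Scheme.Hom.comp_apply, pullback.condition, Scheme.Hom.comp_apply,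
            Scheme.Hom.comp_apply, hz]
        obtain ⟨p, hp, -⟩ := Scheme.Pullback.exists_preimage_pullback (f := R.ι ≫ pullback.fst f v) (g := g)
          (⟨z, hzW⟩ : R.toScheme) u e
        exact ⟨⟨false⟩, p, (congrArg R.ι hp).trans rfl⟩)
  haveI := hT
  choose b hb hbf using hW
  obtain ⟨hc⟩ := nonempty_isColimit_cofanMk_of (fun a => (W a).ι)
    (by simpa only [Scheme.Opens.opensRange_ι] using htop)
    (fun a c hac => by simpa only [Scheme.Opens.opensRange_ι] using hd a c hac)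
  let k := hc.desc (Cofan.mk U fun a => hb a ≫ H (b a))
  let e := pullbackLeftPullbackSndIso f v gT
  refine ⟨T, gT ≫ v, inferInstance, e.inv ≫ k, ?_, ?_⟩
  · have hk : k ≫ g = pullback.fst (pullback.snd f v) gT ≫ pullback.fst f v := hc.hom_ext fun ⟨a⟩ => by
      rw [← Category.assoc, hc.fac]
      change (hb a ≫ H (b a)) ≫ g = (W a).ι ≫ _
      rw [Category.assoc, hH, ← Category.assoc, hbf, Category.assoc]
    rw [Category.assoc, hk]
    simp [e]
  · obtain ⟨z, hz, -⟩ := Scheme.Pullback.exists_preimage_pullback (f := pullback.snd f v) (g := gT) w₀.1 t ht.symm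
    have hza : z ∈ ⨆ a, W a := by rw [htop]; trivial
    obtain ⟨a, ha⟩ := TopologicalSpace.Opens.mem_iSup.1 hza
    refine ⟨e.hom z, ?_⟩
    rw [← Scheme.Hom.comp_apply, Iso.hom_inv_id_assoc]
    have h1 : k z = H (b a) (hb a ⟨z, ha⟩) :=
      congrArg (fun q => q (⟨z, ha⟩ : (W a).toScheme)) (hc.fac (Cofan.mk U fun a => hb a ≫ H (b a)) ⟨a⟩)
    refine h1.trans ?_
    have h2 : G (b a) (hb a ⟨z, ha⟩) = w₀.1 := by
      have e2 : (hb a ≫ G (b a)) ⟨z, ha⟩ = ((W a).ι ≫ pullback.fst (pullback.snd f v) gT) ⟨z, ha⟩ := by rw [hbf]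
      rw [Scheme.Hom.comp_apply, Scheme.Hom.comp_apply] at e2
      exact e2.trans hz
    revert h2
    generalize hb a ⟨z, ha⟩ = p
    revert p
    generalize b a = i
    match i with
    | ⟨true⟩ => exact fun p h2 => (congrArg h₀ (W₀.ι.isOpenEmbedding.injective h2)).trans hw₀
    | ⟨false⟩ => exact fun p h2 => absurd w₀.2 (by
        rw [← h2]
        exact (pullback.fst (R.ι ≫ pullback.fst f v) g p : R.toScheme).2)

end Groth.Agent.EtPtsLib
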