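import Groth.Agent.EtPtsLib.OpenShriek
/-!
Stalks of units, and of extension by zero off an open subscheme.
-/

set_option autoImplicit false
set_option backward.isDefEq.respectTransparency false
set_option backward.isDefEq.respectTransparency.types false

universe u

open CategoryTheory CategoryTheory.Limits AlgebraicGeometry Opposite GrothendieckTopology

namespace Groth.Agent.EtPtsLib

section Unit

variable {X Y : Scheme.{u}} (f : X ⟶ Y) {Ω : Type u} [Field Ω] [IsSepClosed Ω]
  (ζ : Spec (CommRingCat.of Ω) ⟶ X)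

variable {A : Type (u + 2)} [Category.{u + 1} A] [HasColimitsOfSize.{u, u} A] {FC : A → A → Type*} {CC : A → Type (u + 1)}
  [∀ (a b : A), FunLike (FC a b) (CC a) (CC b)] [ConcreteCategory.{u + 1} A FC]
  [PreservesFilteredColimitsOfSize.{u, u} (forget A)] [(forget A).ReflectsIsomorphisms]
  [HasProducts.{u} A]
  [((EtCoh.bc f).sheafPushforwardContinuous A Y.smallEtaleTopology X.smallEtaleTopology).IsRightAdjoint]

include FC CC

/-- The unit is an isomorphism on stalks at points of the image. -/
theorem isIso_stalk_unit (hL : LiftsLocally f) (hI : BcInducing f) (G : Sheaf Y.smallEtaleTopology A) :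
    IsIso ((Scheme.pointSmallEtale (ζ ≫ f)).sheafFiber.map
      (((EtCoh.bc f).sheafAdjunctionContinuous A Y.smallEtaleTopology X.smallEtaleTopology).unit.app G)) := by
  let adj := (EtCoh.bc f).sheafAdjunctionContinuous A Y.smallEtaleTopology X.smallEtaleTopology
  haveI hη : IsIso ((comapPoint f ζ).sheafFiber.map (adj.unit.app G)) := by
    have hiso : IsIso (((Scheme.pointSmallEtale ζ).sheafFiberComapIso (EtCoh.bc f)
        (EtCoh.coverPreserving_bc f) A).hom.app G) := inferInstance
    rw [SitePts.comapIso_hom_app] at hiso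
    haveI := isIso_comapStalk (A := A) f ζ hL hI
      (((EtCoh.bc f).sheafPullback A Y.smallEtaleTopology X.smallEtaleTopology).obj G).obj
    exact IsIso.of_isIso_comp_right _ (SitePts.comapStalk (Scheme.pointSmallEtale ζ) (EtCoh.bc f)
      (EtCoh.coverPreserving_bc f) A (((EtCoh.bc f).sheafPullback A Y.smallEtaleTopology X.smallEtaleTopology).obj G).obj)
  let e : (comapPoint f ζ).sheafFiber (A := A) ≅ (Scheme.pointSmallEtale (ζ ≫ f)).sheafFiber :=
    { hom := Point.Hom.sheafFiber (pointIso f ζ).hom
      inv := Point.Hom.sheafFiber (pointIso f ζ).inv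
      hom_inv_id := by rw [← Point.Hom.sheafFiber_comp, Iso.inv_hom_id, Point.Hom.sheafFiber_id]
      inv_hom_id := by rw [← Point.Hom.sheafFiber_comp, Iso.hom_inv_id, Point.Hom.sheafFiber_id] }
  exact (NatIso.isIso_map_iff e _).1 hη

end Unit

variable {U X : Scheme.{u}} (j : U ⟶ X) {Ω : Type u} [Field Ω] [IsSepClosed Ω]
  (ξ : Spec (CommRingCat.of Ω) ⟶ X)

theorem exists_comp_eq [IsOpenImmersion j] (h : ξ default ∈ Set.range j) :
    ∃ ζ : Spec (CommRingCat.of Ω) ⟶ U, ζ ≫ j = ξ :=
  ⟨IsOpenImmersion.lift j ξ (by rw [range_eq_singleton, Set.singleton_subset_iff]; exact h),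
    IsOpenImmersion.lift_fac _ _ _⟩

/-- A geometric point over the range of a closed immersion factors through it. -/
theorem exists_comp_eq_closed [IsClosedImmersion j] (h : ξ default ∈ Set.range j) :
    ∃ ζ : Spec (CommRingCat.of Ω) ⟶ U, ζ ≫ j = ξ := by
  obtain ⟨x, hx⟩ := h
  obtain ⟨z, hz, -⟩ := Scheme.Pullback.exists_preimage_pullback (f := ξ) (g := j) default x hx.symm
  haveI : IsIso (pullback.fst ξ j) := by
    haveI : Surjective (pullback.fst ξ j) := ⟨fun y => ⟨z, Subsingleton.elim _ _⟩⟩
    exact isIso_of_isClosedImmersion_of_surjective _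
  exact ⟨inv (pullback.fst ξ j) ≫ pullback.snd ξ j, by simp [← pullback.condition]⟩

variable [AlgebraicGeometry.Etale j] [EtShriek.JCont j]

/-- Stalks of extension by zero vanish off the image. -/
theorem isZero_stalk_extZero (h : ξ default ∉ Set.range j) (F : EtCoh.Ab U) :
    IsZero ((EtCoh.stalk ξ).obj ((EtShriek.extZero j).obj F)) := by
  let adj := (EtShriek.extZeroAdj j).comp ((Scheme.pointSmallEtale ξ).skyscraperSheafAdjunction (A := AddCommGrpCat.{u + 1}))
  have hsky : ∀ M, IsZero (((Scheme.pointSmallEtale ξ).skyscraperSheafFunctor ⋙ EtShriek.restrAlong j).obj M) := fun M => by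
    refine IsZero.of_full_of_faithful_of_isZero (sheafToPresheaf _ _) _ ?_
    rw [Functor.isZero_iff]
    intro V
    haveI : IsEmpty ((Scheme.pointSmallEtale ξ).fiber.obj ((EtShriek.compEtale j).obj V.unop)) := ⟨fun l => by
      refine h ⟨V.unop.hom (liftHom ξ l default), ?_⟩
      exact ((Scheme.Hom.comp_apply _ _ _).symm.trans (Scheme.Hom.comp_apply _ _ _).symm).trans
        (congrArg (fun m => m default) ((Category.assoc _ _ _).trans (liftHom_comp ξ l)))⟩
    rw [IsZero.iff_id_eq_zero]
    exact Pi.hom_ext (f := fun _ : (Scheme.pointSmallEtale ξ).fiber.obj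
      ((EtShriek.compEtale j).obj V.unop) => M) _ _ isEmptyElim
  rw [IsZero.iff_id_eq_zero]
  exact (adj.homEquiv F _).injective ((hsky _).eq_of_tgt _ _)

end Groth.Agent.EtPtsLib
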