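import Groth.Agent.EtPtsLib.Immersion
import Groth.Agent.EtPtsLib.Recollement
import Groth.Agent.EtPtsLib.Conditions
import Groth.Agent.EtPtsLib.Parts
import Groth.Prelude.Def_PBC
/-!
Direct images along integral universally injective morphisms.
-/

set_option autoImplicit false
set_option backward.isDefEq.respectTransparency false
set_option backward.isDefEq.respectTransparency.types false

universe u

open CategoryTheory CategoryTheory.Limits AlgebraicGeometry Opposite GrothendieckTopology

namespace Groth.Agent.EtPtsLib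

variable {X Y : Scheme.{u}} (f : X ⟶ Y)

/-- The geometric point of a point given by an algebraic closure of its residue field. -/
noncomputable def geomPtAlg (x : X) :
    Spec (CommRingCat.of (AlgebraicClosure (X.residueField x))) ⟶ X :=
  (Scheme.SpecToEquivOfField (AlgebraicClosure (X.residueField x)) X).2
    ⟨x, CommRingCat.ofHom (algebraMap (X.residueField x) (AlgebraicClosure (X.residueField x)))⟩

@[simp] theorem geomPtAlg_default (x : X) : geomPtAlg x default = x := by
  simp [geomPtAlg, Scheme.SpecToEquivOfField]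

set_option backward.isDefEq.respectTransparency false in
theorem detectsAlg (X : Scheme.{u}) :
    SitePts.Detects (fun x : X => Scheme.pointSmallEtale (geomPtAlg x)) := fun U R hR => by
  obtain ⟨α, T, f, rfl⟩ := R.exists_eq_ofArrows
  rw [Scheme.ofArrows_mem_smallEtaleTopology_iff]
  ext x
  simp only [Set.mem_iUnion, Set.mem_range, Set.mem_univ, iff_true]
  obtain ⟨x', hx'⟩ := Scheme.pointSmallEtaleFiberObjToPreimage_surjective (geomPtAlg (U.hom x))
    (geomPtAlg_default _) U ⟨x, by simp⟩
  rw [Subtype.ext_iff] at hx'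
  simp only [Functor.id_obj, Scheme.pointSmallEtaleFiberObjToPreimage_coe, Scheme.Etale.forget_obj_left] at hx'
  obtain ⟨W, g, ⟨Z, p, _, ⟨a⟩, rfl⟩, y, hy⟩ := hR (U.hom x) x'
  subst hy
  exact ⟨a, (Scheme.pointSmallEtaleFiberObjToPreimage (geomPtAlg (U.hom x)) (geomPtAlg_default _) (y ≫ p.hom)).1,
    hx'⟩

/-- A map of abelian sheaves bijective on stalks at geometric points with algebraically closed fields is an
isomorphism. -/
theorem isIso_of_alg_ab {F G : EtCoh.Ab X} (a : F ⟶ G)
    (h : ∀ x : X, Function.Bijective ((EtCoh.stalk (geomPtAlg x)).map a)) : IsIso a := by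
  haveI : Sheaf.IsLocallyInjective a := SitePts.isLocallyInjective (detectsAlg X) a.hom fun x => (h x).1
  haveI : Sheaf.IsLocallySurjective a := SitePts.isLocallySurjective (detectsAlg X) a.hom fun x => (h x).2
  haveI : Mono a := Sheaf.mono_of_isLocallyInjective a
  exact isIso_of_mono_of_epi _

theorem bcInducing_of_universallyInjective [UniversallyClosed f] [UniversallyInjective f] : BcInducing f := fun V => by
  haveI : UniversallyInjective (pullback.fst V.hom f) :=
    MorphismProperty.of_isPullback (IsPullback.of_hasPullback V.hom f).flip ‹UniversallyInjective f›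
  exact (Topology.IsClosedEmbedding.of_continuous_injective_isClosedMap (pullback.fst V.hom f).continuous
    (pullback.fst V.hom f).injective (pullback.fst V.hom f).isClosedMap).isInducing

theorem liftsLocally_of_propC (hC : BigSite.PropC f) : LiftsLocally f := fun U x => by
  obtain ⟨V, g, hg⟩ := propC_apply f hC U
  obtain ⟨z, hz⟩ := hg x
  exact ⟨V, g, z, hz⟩

/-- A geometric point over the range of an integral morphism factors through it. -/
theorem exists_comp_eq_integral [IsIntegralHom f] {Ω : Type u} [Field Ω] [IsAlgClosed Ω]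
    (ξ : Spec (CommRingCat.of Ω) ⟶ Y) (h : ξ default ∈ Set.range f) :
    ∃ ζ : Spec (CommRingCat.of Ω) ⟶ X, ζ ≫ f = ξ := by
  obtain ⟨x, hx⟩ := h
  obtain ⟨p, -, -⟩ := Scheme.Pullback.exists_preimage_pullback (f := ξ) (g := f) default x hx.symm
  obtain ⟨σ, hσ, -⟩ := exists_section_at (pullback.fst ξ f) p
  exact ⟨σ ≫ pullback.snd ξ f, by rw [Category.assoc, ← pullback.condition, reassoc_of% hσ]⟩

variable [IsIntegralHom f] [UniversallyInjective f]

theorem isIso_counit_integral (F : EtCoh.Ab X) : IsIso ((EtCoh.pullPushAdj f).counit.app F) :=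
  isIso_counit_ab f (liftsLocally_of_propC f (propC_of_integral f f.injective))
    (bcInducing_of_universallyInjective f) F

theorem essImage_integral (G : EtCoh.Ab Y) :
    (EtCoh.push f).essImage G ↔ EtPBC.supp G ⊆ Set.range f.base := by
  have hL := liftsLocally_of_propC f (propC_of_integral f f.injective)
  have hI := bcInducing_of_universallyInjective f
  have hcl : IsClosed (Set.range f) := f.isClosedMap.isClosed_range
  constructor
  · rintro ⟨F, ⟨e⟩⟩ y ⟨Ω, _, _, ξ, hξ, hne⟩
    by_contra hy
    have hd : ξ default = y := by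
      have : ξ default ∈ Set.range ξ := ⟨_, rfl⟩
      rwa [hξ] at this
    exact hne ((isZero_stalk_push_ab f ξ hcl (hd ▸ hy) F).of_iso ((EtCoh.stalk ξ).mapIso e.symm))
  · intro hG
    haveI : IsIso ((EtCoh.pullPushAdj f).unit.app G) := by
      refine isIso_of_alg_ab _ fun y => ?_
      by_cases h : geomPtAlg y default ∈ Set.range f
      · obtain ⟨ζ, hζ⟩ := exists_comp_eq_integral f (geomPtAlg y) h
        rw [← hζ]
        haveI := isIso_stalk_unit (A := AddCommGrpCat.{u + 1}) f ζ hL hI G
        exact ConcreteCategory.bijective_of_isIso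
          ((Scheme.pointSmallEtale (ζ ≫ f)).sheafFiber.map ((EtCoh.pullPushAdj f).unit.app G))
      · have h₁ : IsZero ((EtCoh.stalk (geomPtAlg y)).obj G) := by
          by_contra hne
          refine h (hG ⟨_, _, inferInstance, geomPtAlg y, ?_, hne⟩)
          rw [range_eq_singleton]
        have h₂ := isZero_stalk_push_ab f (geomPtAlg y) hcl h ((EtCoh.pull f).obj G)
        haveI := AddCommGrpCat.subsingleton_of_isZero h₁
        haveI := AddCommGrpCat.subsingleton_of_isZero h₂
        exact ⟨fun a b _ => @Subsingleton.elim _ (AddCommGrpCat.subsingleton_of_isZero h₁) a b, fun b => ⟨0, Subsingleton.elim (α := ↑((EtCoh.stalk (geomPtAlg y)).obj ((EtCoh.push f).obj ((EtCoh.pull f).obj G)))) _ _⟩⟩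
    exact ⟨_, ⟨(asIso ((EtCoh.pullPushAdj f).unit.app G)).symm⟩⟩

theorem fullyFaithful_integral : (EtCoh.push f).Full ∧ (EtCoh.push f).Faithful := by
  haveI : ∀ F, IsIso ((EtCoh.pullPushAdj f).counit.app F) := fun F => isIso_counit_integral f F
  haveI : IsIso (EtCoh.pullPushAdj f).counit := NatIso.isIso_of_isIso_app _
  have ff := (EtCoh.pullPushAdj f).fullyFaithfulROfIsIsoCounit
  exact ⟨ff.full, ff.faithful⟩

end Groth.Agent.EtPtsLib
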