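import Groth.Prelude.Def_EtBase
import Groth.Agent.S9436
/-!
Étale schemes over a closed subscheme extend locally to the ambient scheme.
-/

set_option autoImplicit false
set_option backward.isDefEq.respectTransparency false

universe u

open CategoryTheory CategoryTheory.Limits AlgebraicGeometry Opposite TensorProduct

namespace Groth.Agent.EtPtsLib

/-- Étale maps of rings lift along surjections, as pushout squares. -/
theorem exists_isPushout_of_surjective {R A B : CommRingCat.{u}} (φ : R ⟶ A)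
    (hφ : Function.Surjective φ) (ψ : A ⟶ B) (hψ : ψ.hom.Etale) :
    ∃ (S : CommRingCat.{u}) (σ : R ⟶ S) (τ : S ⟶ B), σ.hom.Etale ∧ IsPushout φ σ ψ τ := by
  let e : (R ⧸ RingHom.ker φ.hom) ≃+* A := RingHom.quotientKerEquivOfSurjective hφ
  let ψ' : (R ⧸ RingHom.ker φ.hom) →+* B := ψ.hom.comp e.toRingHom
  have h' : ψ'.Etale := RingHom.Etale.stableUnderComposition e.toRingHom ψ.hom (RingHom.Etale.of_bijective e.bijective) hψ
  algebraize [ψ']
  haveI : Algebra.Etale (R ⧸ RingHom.ker φ.hom) B := h'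
  obtain ⟨S, _, _, hS, ⟨E⟩⟩ := Groth.Agent.S9436.result R (RingHom.ker φ.hom) B
  refine ⟨CommRingCat.of S, CommRingCat.ofHom (algebraMap R S),
    CommRingCat.ofHom (E.toRingEquiv.toRingHom.comp
      (Algebra.TensorProduct.includeRight : S →ₐ[R] _).toRingHom), ?_, ?_⟩
  · exact RingHom.etale_algebraMap.2 hS
  refine (CommRingCat.isPushout_tensorProduct R (R ⧸ RingHom.ker φ.hom) S).of_iso (Iso.refl _)
    e.toCommRingCatIso (Iso.refl _) E.toRingEquiv.toCommRingCatIso ?_ (by simp) ?_ ?_
  · ext x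
    exact RingHom.quotientKerEquivOfSurjective_apply_mk hφ x
  · ext x
    exact E.commutes x
  · ext x
    rfl

variable {X Y : Scheme.{u}} (f : X ⟶ Y) [IsClosedImmersion f]

/-- Locally on `U`, an étale `X`-scheme is the restriction of an étale `Y`-scheme. -/
theorem exists_etale_isPullback (U : X.Etale) (x : U.left) :
    ∃ (V : Y.Etale) (W : Scheme.{u}) (k : W ⟶ U.left) (q : W ⟶ V.left),
      IsOpenImmersion k ∧ IsPullback q (k ≫ U.hom) V.hom f ∧ x ∈ Set.range k := by
  obtain ⟨i, y, hy⟩ := Y.affineCover.exists_eq (f (U.hom x))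
  let j : Y.affineCover.X i ⟶ Y := Y.affineCover.f i
  haveI : IsAffine (pullback j f) := isAffine_of_isAffineHom (pullback.fst j f)
  obtain ⟨z, hz1, hz2⟩ := Scheme.Pullback.exists_preimage_pullback (f := j) (g := f) y (U.hom x) hy
  let W₀ : U.left.Opens := ⟨U.hom ⁻¹' Set.range (pullback.snd j f),
    (pullback.snd j f).isOpenEmbedding.isOpen_range.preimage U.hom.continuous⟩
  obtain ⟨W, hW, hxW, hWW⟩ := exists_isAffineOpen_mem_and_subset (X := U.left) (U := W₀) (x := x) ⟨z, hz2⟩
  haveI : IsAffine W := hW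
  let k : Spec Γ(W, ⊤) ⟶ U.left := W.toScheme.isoSpec.inv ≫ W.ι
  have hk : Set.range (k ≫ U.hom) ⊆ Set.range (pullback.snd j f) := by
    rintro _ ⟨a, rfl⟩
    have hmem : k a ∈ W := by
      rw [Scheme.Hom.comp_apply]
      exact ((W.toScheme.isoSpec.inv) a).2
    obtain ⟨w, hw⟩ := hWW hmem
    exact ⟨w, hw.trans (Scheme.Hom.comp_apply _ _ _).symm⟩
  let g := IsOpenImmersion.lift (pullback.snd j f) (k ≫ U.hom) hk
  have hg : g ≫ pullback.snd j f = k ≫ U.hom := IsOpenImmersion.lift_fac _ _ _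
  let P := pullback j f
  let ψ : Γ(P, ⊤) ⟶ Γ(W, ⊤) := Spec.preimage (g ≫ P.isoSpec.hom)
  obtain ⟨φ, hφm⟩ := Spec.map_surjective (P.isoSpec.inv ≫ pullback.fst j f)
  have hφ : Function.Surjective φ := by
    haveI : IsClosedImmersion (Spec.map φ) := by rw [hφm]; infer_instance
    have := (IsClosedImmersion.isAffine_surjective_of_isAffine (Spec.map φ)).2
    have hn := Scheme.ΓSpecIso_naturality φ
    have : Function.Surjective ((Scheme.ΓSpecIso _).inv ≫ (Spec.map φ).appTop ≫ (Scheme.ΓSpecIso _).hom) := by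
      simp only [CommRingCat.hom_comp, RingHom.coe_comp]
      exact ((ConcreteCategory.bijective_of_isIso (Scheme.ΓSpecIso _).hom).2.comp
        (this.comp (ConcreteCategory.bijective_of_isIso (Scheme.ΓSpecIso _).inv).2))
    rwa [hn, Iso.inv_hom_id_assoc] at this
  have hψ : ψ.hom.Etale := by
    haveI : AlgebraicGeometry.Etale (g ≫ pullback.snd j f) := by
      rw [hg]; haveI : AlgebraicGeometry.Etale U.hom := U.prop; infer_instance
    haveI : AlgebraicGeometry.Etale g := AlgebraicGeometry.Etale.of_comp g (pullback.snd j f)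
    haveI : AlgebraicGeometry.Etale (Spec.map ψ) := by rw [Spec.map_preimage]; infer_instance
    exact (HasRingHomProperty.Spec_iff (P := @AlgebraicGeometry.Etale)).1 inferInstance
  obtain ⟨S, σ, τ, hσ, hpo⟩ := exists_isPushout_of_surjective φ hφ ψ hψ
  haveI : AlgebraicGeometry.Etale (Spec.map σ) := (HasRingHomProperty.Spec_iff (P := @AlgebraicGeometry.Etale)).2 hσ
  refine ⟨Scheme.Etale.mk (Spec.map σ ≫ j), Spec Γ(W, ⊤), k, Spec.map τ, inferInstance, ?_,
    W.toScheme.isoSpec.hom ⟨x, hxW⟩, ?_⟩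
  · have h1 : IsPullback (Spec.map τ) g (Spec.map σ) (pullback.fst j f) := by
      refine ((isPullback_SpecMap_of_isPushout φ σ ψ τ hpo).flip).of_iso (Iso.refl _) (Iso.refl _)
        P.isoSpec.symm (Iso.refl _) (by simp) ?_ (by simp) ?_
      · simp [ψ, P]
      · simp [hφm, P]
    simpa [hg] using h1.paste_vert (IsPullback.of_hasPullback j f)
  · simp [k]

end Groth.Agent.EtPtsLib
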