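import Groth.Agent.EtPtsLib.Counit
/-!
Direct images along immersions: stalks, counit and full faithfulness.
-/

set_option autoImplicit false
set_option backward.isDefEq.respectTransparency false
set_option backward.isDefEq.respectTransparency.types false

universe u

open CategoryTheory CategoryTheory.Limits AlgebraicGeometry Opposite GrothendieckTopology

namespace Groth.Agent.EtPtsLib

variable {X Y : Scheme.{u}} (f : X ⟶ Y)

theorem liftsLocally_of_isOpenImmersion [IsOpenImmersion f] : LiftsLocally f := fun U x => by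
  haveI : AlgebraicGeometry.Etale U.hom := U.prop
  let V : Y.Etale := Scheme.Etale.mk (U.hom ≫ f)
  refine ⟨V, MorphismProperty.Over.homMk (pullback.fst (U.hom ≫ f) f) ?_, ?_⟩
  · change pullback.fst (U.hom ≫ f) f ≫ U.hom = pullback.snd (U.hom ≫ f) f
    rw [← cancel_mono f, Category.assoc]
    exact pullback.condition
  · refine ⟨pullback.lift (f := U.hom ≫ f) (g := f) (𝟙 _) U.hom (by simp) x, ?_⟩
    change (pullback.fst (U.hom ≫ f) f) _ = x
    rw [← Scheme.Hom.comp_apply, pullback.lift_fst]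
    rfl

theorem LiftsLocally.comp {Z : Scheme.{u}} {j : X ⟶ Z} {i : Z ⟶ Y} (hj : LiftsLocally j) (hi : LiftsLocally i)
    (hb : BcInducing i) : LiftsLocally (j ≫ i) := fun U x => by
  obtain ⟨V₁, g₁, y₁, hy₁⟩ := hj U x
  obtain ⟨V, g, v, hv⟩ := hi V₁ (bcFst j V₁ y₁)
  let c : ((EtCoh.bc (j ≫ i)).obj V).left ⟶ ((EtCoh.bc i).obj V).left :=
    pullback.lift (pullback.fst V.hom (j ≫ i)) (pullback.snd V.hom (j ≫ i) ≫ j)
      (by rw [Category.assoc, pullback.condition])
  have hw : (c ≫ g.left) ≫ V₁.hom = pullback.snd V.hom (j ≫ i) ≫ j := by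
    rw [Category.assoc]
    exact (congrArg (c ≫ ·) (MorphismProperty.Over.w g)).trans (pullback.lift_snd _ _ _)
  let d : ((EtCoh.bc (j ≫ i)).obj V).left ⟶ ((EtCoh.bc j).obj V₁).left :=
    pullback.lift (c ≫ g.left) (pullback.snd V.hom (j ≫ i)) hw
  have hd : d ≫ g₁.left ≫ U.hom = pullback.snd V.hom (j ≫ i) :=
    (congrArg (d ≫ ·) (MorphismProperty.Over.w g₁)).trans (pullback.lift_snd _ _ _)
  refine ⟨V, MorphismProperty.Over.homMk (d ≫ g₁.left) ((Category.assoc _ _ _).trans hd), ?_⟩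
  -- the point over `y₁` and `v`
  have hsq : IsPullback c (pullback.snd V.hom (j ≫ i)) (pullback.snd V.hom i) j := by
    refine IsPullback.of_right (h₁₂ := pullback.fst V.hom i) (v₁₃ := V.hom) (h₂₂ := i) ?_ ?_
      (IsPullback.of_hasPullback V.hom i)
    · simp only [c, pullback.lift_fst]
      exact IsPullback.of_hasPullback V.hom (j ≫ i)
    · simp [c]
  have hsq' : IsPullback d c (bcFst j V₁) g.left := by
    refine IsPullback.of_right (h₁₂ := pullback.snd V₁.hom j) (v₁₃ := j) (h₂₂ := V₁.hom) ?_ ?_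
      (IsPullback.of_hasPullback V₁.hom j).flip
    · simp only [d, pullback.lift_snd]
      have : g.left ≫ V₁.hom = pullback.snd V.hom i := MorphismProperty.Over.w g
      rw [this]
      exact hsq.flip
    · simp [d, bcFst]
  obtain ⟨z, hz, -⟩ := Scheme.Pullback.exists_preimage_pullback (f := bcFst j V₁) (g := g.left) y₁ v hv.symm
  refine ⟨hsq'.isoPullback.inv z, ?_⟩
  change (d ≫ g₁.left) _ = x
  rw [Scheme.Hom.comp_apply, ← hy₁, ← hz]
  exact congrArg g₁.left ((Scheme.Hom.comp_apply _ _ _).symm.trans (congrArg (fun m => m z) hsq'.isoPullback_inv_fst))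

theorem bcInducing_of_isImmersion [IsImmersion f] : BcInducing f := fun V =>
  (pullback.fst V.hom f).isEmbedding.isInducing

theorem liftsLocally_of_isImmersion [IsImmersion f] : LiftsLocally f := by
  rw [← f.liftCoborder_ι]
  exact (liftsLocally_of_isClosedImmersion _).comp (liftsLocally_of_isOpenImmersion _) (bcInducing_of_isImmersion _)

/-- An étale `Y`-scheme missing the image of `f` pulls back to the empty scheme, covered by the empty sieve. -/
theorem bot_mem_of_disjoint {V : Y.Etale} (h : Disjoint (Set.range V.hom) (Set.range f)) :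
    (⊥ : Sieve ((EtCoh.bc f).obj V)) ∈ X.smallEtaleTopology ((EtCoh.bc f).obj V) := by
  haveI : IsEmpty ↥((EtCoh.bc f).obj V).left := ⟨fun (z : ↥(pullback V.hom f)) =>
    Set.disjoint_left.1 h ⟨pullback.fst V.hom f z, rfl⟩ ⟨pullback.snd V.hom f z, by
      exact (congrArg (fun m : pullback V.hom f ⟶ Y => m z) pullback.condition).symm⟩⟩
  have : Sieve.ofArrows (fun e : PEmpty.{1} => (e.elim : X.Etale)) (fun e => e.elim) ∈
      X.smallEtaleTopology ((EtCoh.bc f).obj V) := by
    rw [Scheme.ofArrows_mem_smallEtaleTopology_iff]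
    ext x
    exact (IsEmpty.false (α := ↥((EtCoh.bc f).obj V).left) x).elim
  refine X.smallEtaleTopology.superset_covering ?_ this
  rw [Sieve.ofArrows, Sieve.generate_le_iff]
  rintro _ _ ⟨e⟩
  exact e.elim

variable {Ω : Type u} [Field Ω] [IsSepClosed Ω] (ξ : Spec (CommRingCat.of Ω) ⟶ Y)

/-- Off the closure of the image every element of a stalk lives over an object missing the image. -/
theorem exists_disjoint_refine (hf : IsClosed (Set.range f)) (hξ : ξ default ∉ Set.range f) (U : Y.Etale)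
    (l : (Scheme.pointSmallEtale ξ).fiber.obj U) :
    ∃ (V : Y.Etale) (g : V ⟶ U) (y : (Scheme.pointSmallEtale ξ).fiber.obj V),
      (Scheme.pointSmallEtale ξ).fiber.map g y = l ∧ Disjoint (Set.range V.hom) (Set.range f) := by
  let O : U.left.Opens := ⟨U.hom ⁻¹' (Set.range f)ᶜ, hf.isOpen_compl.preimage U.hom.continuous⟩
  haveI : AlgebraicGeometry.Etale U.hom := U.prop
  let V : Y.Etale := Scheme.Etale.mk (O.ι ≫ U.hom)
  have hO : liftHom ξ l default ∈ O := by
    change U.hom (liftHom ξ l default) ∈ (Set.range f)ᶜ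
    exact ((Scheme.Hom.comp_apply _ _ _).symm.trans (congrArg (fun m => m default) (liftHom_comp ξ l))).symm ▸ hξ
  let g : V ⟶ U := MorphismProperty.Over.homMk O.ι rfl
  obtain ⟨y, hy⟩ := exists_fiber_map_eq ξ g l (⟨_, hO⟩ : O.toScheme) rfl
  refine ⟨V, g, y, hy, Set.disjoint_left.2 ?_⟩
  rintro _ ⟨(z : O.toScheme), rfl⟩ hz
  exact z.2 hz

theorem isZero_stalk_push_ab (hf : IsClosed (Set.range f)) (hξ : ξ default ∉ Set.range f) (G : EtCoh.Ab X) :
    IsZero ((EtCoh.stalk ξ).obj ((EtCoh.push f).obj G)) := by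
  refine AddCommGrpCat.isZero_iff_subsingleton.2 ⟨fun a b => ?_⟩
  obtain ⟨U, l, s, t, rfl, rfl⟩ :=
    (Scheme.pointSmallEtale ξ).toPresheafFiber_jointly_surjective₂ (P := ((EtCoh.push f).obj G).obj) a b
  obtain ⟨V, g, y, rfl, hV⟩ := exists_disjoint_refine f ξ hf hξ U l
  haveI := AddCommGrpCat.subsingleton_of_isZero
    (IsZero.of_iso (isZero_zero _) ((Sheaf.isTerminalOfBotCover G _ (bot_mem_of_disjoint f hV)).uniqueUpToIso HasZeroObject.zeroIsTerminal))
  refine ((Scheme.pointSmallEtale ξ).toPresheafFiber_eq_iff' U _ s t).2 ⟨V, g, y, rfl, ?_⟩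
  exact Subsingleton.elim (α := ↑(G.obj.obj (op ((EtCoh.bc f).obj V)))) _ _

theorem unique_stalk_pushSh (hf : IsClosed (Set.range f)) (hξ : ξ default ∉ Set.range f) (G : EtDesc.Sh X) :
    Nonempty (Unique ((Scheme.pointSmallEtale ξ).sheafFiber.obj ((EtDesc.pushSh f).obj G))) := by
  have hu : ∀ V : Y.Etale, Disjoint (Set.range V.hom) (Set.range f) →
      Nonempty (Unique (G.obj.obj (op ((EtCoh.bc f).obj V)))) := fun V hV =>
    ⟨Types.isTerminalEquivUnique _ (Sheaf.isTerminalOfBotCover G _ (bot_mem_of_disjoint f hV))⟩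
  obtain ⟨⟨U, l⟩⟩ := IsCofiltered.nonempty (C := (Scheme.pointSmallEtale ξ).fiber.Elements)
  obtain ⟨V, g, y, -, hV⟩ := exists_disjoint_refine f ξ hf hξ U l
  obtain ⟨u⟩ := hu V hV
  refine ⟨⟨⟨(Scheme.pointSmallEtale ξ).toPresheafFiber V y ((EtDesc.pushSh f).obj G).obj u.default⟩, fun a => ?_⟩⟩
  obtain ⟨U', l', s, t, rfl, ht⟩ :=
    (Scheme.pointSmallEtale ξ).toPresheafFiber_jointly_surjective₂ (P := ((EtDesc.pushSh f).obj G).obj) a
      ((Scheme.pointSmallEtale ξ).toPresheafFiber V y ((EtDesc.pushSh f).obj G).obj u.default)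
  obtain ⟨V', g', y', rfl, hV'⟩ := exists_disjoint_refine f ξ hf hξ U' l'
  obtain ⟨u'⟩ := hu V' hV'
  refine Eq.trans ?_ ht
  refine ((Scheme.pointSmallEtale ξ).toPresheafFiber_eq_iff' U' _ s t).2 ⟨V', g', y', rfl, ?_⟩
  exact (u'.uniq _).trans (u'.uniq _).symm

theorem isIso_counit_ab (hL : LiftsLocally f) (hI : BcInducing f) (G : EtCoh.Ab X) :
    IsIso ((EtCoh.pullPushAdj f).counit.app G) := by
  haveI : Mono ((EtCoh.pullPushAdj f).counit.app G) := (mono_iff_ab _).2 fun Ω _ _ ζ =>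
    haveI := isIso_stalk_counit (A := AddCommGrpCat.{u + 1}) f ζ hL hI G
    (ConcreteCategory.bijective_of_isIso ((Scheme.pointSmallEtale ζ).sheafFiber.map ((EtCoh.pullPushAdj f).counit.app G))).1
  haveI : Epi ((EtCoh.pullPushAdj f).counit.app G) := (epi_iff_ab _).2 fun Ω _ _ ζ =>
    haveI := isIso_stalk_counit (A := AddCommGrpCat.{u + 1}) f ζ hL hI G
    (ConcreteCategory.bijective_of_isIso ((Scheme.pointSmallEtale ζ).sheafFiber.map ((EtCoh.pullPushAdj f).counit.app G))).2
  exact isIso_of_mono_of_epi _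

theorem isIso_counit_sh (hL : LiftsLocally f) (hI : BcInducing f) (G : EtDesc.Sh X) :
    IsIso ((EtDesc.adjSh f).counit.app G) := by
  haveI : Mono ((EtDesc.adjSh f).counit.app G) := (mono_iff_sh _).2 fun Ω _ _ ζ =>
    haveI := isIso_stalk_counit (A := Type (u + 1)) f ζ hL hI G
    (ConcreteCategory.bijective_of_isIso ((Scheme.pointSmallEtale ζ).sheafFiber.map ((EtDesc.adjSh f).counit.app G))).1
  haveI : Epi ((EtDesc.adjSh f).counit.app G) := (epi_iff_sh _).2 fun Ω _ _ ζ =>
    haveI := isIso_stalk_counit (A := Type (u + 1)) f ζ hL hI G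
    (ConcreteCategory.bijective_of_isIso ((Scheme.pointSmallEtale ζ).sheafFiber.map ((EtDesc.adjSh f).counit.app G))).2
  exact isIso_of_mono_of_epi _

end Groth.Agent.EtPtsLib
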