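import Groth.Agent.EtPtsLib.OpenShriek
/-!
Extension by zero commutes with inverse image.
-/

set_option autoImplicit false
set_option backward.isDefEq.respectTransparency false
set_option backward.isDefEq.respectTransparency.types false

universe u

open CategoryTheory CategoryTheory.Limits AlgebraicGeometry Opposite

namespace Groth.Agent.EtPtsLib

variable {V' V Y X : Scheme.{u}} (j : V ⟶ X) [AlgebraicGeometry.Etale j]
  (f : Y ⟶ X) (j' : V' ⟶ Y) [AlgebraicGeometry.Etale j'] (f' : V' ⟶ V) (h : IsPullback j' f' f j)

include h in
/-- Composition and base change commute. -/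
noncomputable def compBcApp (T : V.Etale) :
    (EtCoh.bc f).obj ((EtShriek.compEtale j).obj T) ≅ (EtShriek.compEtale j').obj ((EtCoh.bc f').obj T) :=
    { hom := MorphismProperty.Over.homMk
        (pullback.lift (bcFst f _) (h.lift (pullback.snd _ f) (bcFst f ((EtShriek.compEtale j).obj T) ≫ T.hom)
          (by
            refine Eq.trans ?_ (Category.assoc _ _ _).symm
            exact (pullback.condition (f := T.hom ≫ j) (g := f)).symm))
          (h.lift_snd _ _ _).symm) (by
          change pullback.lift _ _ _ ≫ pullback.snd T.hom f' ≫ j' = _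
          rw [pullback.lift_snd_assoc, h.lift_fst]
          rfl)
      inv := MorphismProperty.Over.homMk
        (pullback.lift (bcFst f' T) (pullback.snd T.hom f' ≫ j') (by
          change bcFst f' T ≫ T.hom ≫ j = _
          rw [Category.assoc, h.w, ← Category.assoc, ← Category.assoc]
          exact congrArg (· ≫ j) pullback.condition))
        (pullback.lift_snd _ _ _)
      hom_inv_id := bc_hom_ext f ((Category.assoc _ _ _).trans
        ((congrArg (_ ≫ ·) (pullback.lift_fst _ _ _)).trans ((pullback.lift_fst _ _ _).trans (Category.id_comp _).symm)))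
      inv_hom_id := by
        refine MorphismProperty.Over.Hom.ext (pullback.hom_ext ?_ ?_)
        · refine (Category.assoc _ _ _).trans ((congrArg (_ ≫ ·) (pullback.lift_fst _ _ _)).trans ?_)
          exact (pullback.lift_fst _ _ _).trans (Category.id_comp _).symm
        · refine (Category.assoc _ _ _).trans ((congrArg (_ ≫ ·) (pullback.lift_snd _ _ _)).trans ?_)
          refine (h.hom_ext ?_ ?_).trans (Category.id_comp _).symm
          · refine (Category.assoc _ _ _).trans ((congrArg (_ ≫ ·) (h.lift_fst _ _ _)).trans ?_)
            exact pullback.lift_snd _ _ _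
          · refine (Category.assoc _ _ _).trans ((congrArg (_ ≫ ·) (h.lift_snd _ _ _)).trans ?_)
            refine (Category.assoc _ _ _).symm.trans ((congrArg (· ≫ T.hom) (pullback.lift_fst _ _ _)).trans ?_)
            exact pullback.condition }

include h in
/-- Composition and base change commute. -/
noncomputable def compBcIso : EtShriek.compEtale j ⋙ EtCoh.bc f ≅ EtCoh.bc f' ⋙ EtShriek.compEtale j' :=
  NatIso.ofComponents (compBcApp j f j' f' h)
    fun {T T'} a => by
      symm
      refine (Iso.comp_inv_eq (compBcApp j f j' f' h T')).1 ?_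
      refine bc_hom_ext f ?_
      change ((compBcApp j f j' f' h T).hom.left ≫ ((EtCoh.bc f').map a).left ≫ (compBcApp j f j' f' h T').inv.left) ≫
          bcFst f _ = ((EtCoh.bc f).map ((EtShriek.compEtale j).map a)).left ≫ bcFst f _
      rw [bcFst_map, Category.assoc, Category.assoc]
      erw [pullback.lift_fst, bcFst_map, pullback.lift_fst_assoc]
      rfl

variable [EtShriek.JCont j] [EtShriek.JCont j']

include h in
/-- Extension by zero commutes with inverse image. -/
theorem extZero_baseChange : Nonempty (EtCoh.pull f' ⋙ EtShriek.extZero j' ≅ EtShriek.extZero j ⋙ EtCoh.pull f) := by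
  haveI := Functor.isContinuous_comp (EtShriek.compEtale j) (EtCoh.bc f) V.smallEtaleTopology X.smallEtaleTopology
    Y.smallEtaleTopology
  haveI : (EtShriek.compEtale j ⋙ EtCoh.bc f).IsContinuous V.smallEtaleTopology Y.smallEtaleTopology := this
  let α : EtShriek.restrAlong j' ⋙ EtCoh.push f' ≅ EtCoh.push f ⋙ EtShriek.restrAlong j :=
    Functor.sheafPushforwardContinuousComp' (F := EtCoh.bc f') (G := EtShriek.compEtale j')
      (FG := EtShriek.compEtale j ⋙ EtCoh.bc f) (compBcIso j f j' f' h).symm AddCommGrpCat.{u + 1}
      V.smallEtaleTopology V'.smallEtaleTopology Y.smallEtaleTopology ≪≫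
    (Functor.sheafPushforwardContinuousComp' (F := EtShriek.compEtale j) (G := EtCoh.bc f)
      (FG := EtShriek.compEtale j ⋙ EtCoh.bc f) (Iso.refl _) AddCommGrpCat.{u + 1}
      V.smallEtaleTopology X.smallEtaleTopology Y.smallEtaleTopology).symm
  exact ⟨Adjunction.leftAdjointUniq
    (((EtCoh.pullPushAdj f').comp (EtShriek.extZeroAdj j')).ofNatIsoRight α)
    ((EtShriek.extZeroAdj j).comp (EtCoh.pullPushAdj f))⟩

end Groth.Agent.EtPtsLib
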