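import Groth.Agent.EtPtsLib.Recollement
/-!
Stalks of extension by zero along an étale morphism.
-/

set_option autoImplicit false
set_option backward.isDefEq.respectTransparency false
set_option backward.isDefEq.respectTransparency.types false

universe u

open CategoryTheory CategoryTheory.Limits AlgebraicGeometry Opposite GrothendieckTopology

namespace Groth.Agent.EtPtsLib

variable {U X : Scheme.{u}} (j : U ⟶ X) [AlgebraicGeometry.Etale j] [EtShriek.JCont j]
  {Ω : Type u} [Field Ω] [IsSepClosed Ω] (ξ : Spec (CommRingCat.of Ω) ⟶ X)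

/-- Geometric points of `U` over `ξ`. -/
abbrev PtsOver : Type u := {u : Spec (CommRingCat.of Ω) ⟶ U // u ≫ j = ξ}

variable {j ξ}

/-- A lift through a point over `ξ` is a lift of `ξ`. -/
noncomputable def joinLift (u : PtsOver j ξ) {V : U.Etale} (l : (Scheme.pointSmallEtale u.1).fiber.obj V) :
    (Scheme.pointSmallEtale ξ).fiber.obj ((EtShriek.compEtale j).obj V) :=
  Over.homMk (liftHom u.1 l) ((Category.assoc _ _ _).symm.trans
    ((congrArg (· ≫ j) (liftHom_comp u.1 l)).trans u.2))

/-- The point of `U` under a lift of `ξ`. -/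
noncomputable def splitPt {V : U.Etale} (l : (Scheme.pointSmallEtale ξ).fiber.obj ((EtShriek.compEtale j).obj V)) :
    PtsOver j ξ :=
  ⟨liftHom ξ l ≫ V.hom, (Category.assoc _ _ _).trans (liftHom_comp ξ l)⟩

/-- A lift of `ξ` as a lift of its point of `U`. -/
noncomputable def splitLift {V : U.Etale} (l : (Scheme.pointSmallEtale ξ).fiber.obj ((EtShriek.compEtale j).obj V)) :
    (Scheme.pointSmallEtale (splitPt l).1).fiber.obj V :=
  Over.homMk (liftHom ξ l) rfl

variable (F : EtCoh.Ab U)

/-- The stalk at a point over `ξ` maps to the stalk of the extension by zero. -/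
noncomputable def ιStalk (u : PtsOver j ξ) :
    (EtCoh.stalk u.1).obj F ⟶ (EtCoh.stalk ξ).obj ((EtShriek.extZero j).obj F) :=
  (Scheme.pointSmallEtale u.1).presheafFiberDesc
    (fun V l => ((EtShriek.extZeroAdj j).unit.app F).hom.app (op V) ≫
      (Scheme.pointSmallEtale ξ).toPresheafFiber _ (joinLift u l) ((EtShriek.extZero j).obj F).obj)
    fun V W a l => by
      rw [← Category.assoc]
      refine (congrArg (fun q => q ≫ (Scheme.pointSmallEtale ξ).toPresheafFiber _ (joinLift u l)
        ((EtShriek.extZero j).obj F).obj) (((EtShriek.extZeroAdj j).unit.app F).hom.naturality a.op)).trans ?_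
      refine (Category.assoc _ _ _).trans ?_
      refine congrArg (fun q => ((EtShriek.extZeroAdj j).unit.app F).hom.app (op W) ≫ q) ?_
      exact (Scheme.pointSmallEtale ξ).toPresheafFiber_w ((EtShriek.compEtale j).map a) (joinLift u l) _

theorem toPresheafFiber_ιStalk (u : PtsOver j ξ) (V : U.Etale) (l : (Scheme.pointSmallEtale u.1).fiber.obj V) :
    (Scheme.pointSmallEtale u.1).toPresheafFiber V l F.obj ≫ ιStalk F u =
      ((EtShriek.extZeroAdj j).unit.app F).hom.app (op V) ≫
        (Scheme.pointSmallEtale ξ).toPresheafFiber _ (joinLift u l) ((EtShriek.extZero j).obj F).obj :=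
  (Scheme.pointSmallEtale u.1).toPresheafFiber_presheafFiberDesc _ _ _ _

theorem congr_pt {M : AddCommGrpCat.{u + 1}} (g : ∀ u : PtsOver j ξ, (EtCoh.stalk u.1).obj F ⟶ M) {V : U.Etale}
    {u u' : PtsOver j ξ} (h : u = u') (l : (Scheme.pointSmallEtale u.1).fiber.obj V)
    (l' : (Scheme.pointSmallEtale u'.1).fiber.obj V) (hl : liftHom u.1 l = liftHom u'.1 l') :
    (Scheme.pointSmallEtale u.1).toPresheafFiber V l F.obj ≫ g u =
      (Scheme.pointSmallEtale u'.1).toPresheafFiber V l' F.obj ≫ g u' := by
  subst h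
  obtain rfl : l = l' := Over.OverMorphism.ext hl
  rfl

/-- A family of maps on stalks as a map to the restricted skyscraper. -/
noncomputable def toSky {M : AddCommGrpCat.{u + 1}} (g : ∀ u : PtsOver j ξ, (EtCoh.stalk u.1).obj F ⟶ M) :
    F ⟶ (EtShriek.restrAlong j).obj ((Scheme.pointSmallEtale ξ).skyscraperSheafFunctor.obj M) :=
  ⟨{ app := fun V => Pi.lift fun l =>
        (Scheme.pointSmallEtale (splitPt (V := V.unop) l).1).toPresheafFiber V.unop (splitLift l) F.obj ≫ g (splitPt l)
     naturality := fun V W a => by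
        refine Pi.hom_ext _ _ fun l => ?_
        have hp : ((EtShriek.restrAlong j).obj ((Scheme.pointSmallEtale ξ).skyscraperSheafFunctor.obj M)).obj.map a ≫
            Pi.π (fun _ : (Scheme.pointSmallEtale ξ).fiber.obj ((EtShriek.compEtale j).obj W.unop) => M) l =
            Pi.π (fun _ : (Scheme.pointSmallEtale ξ).fiber.obj ((EtShriek.compEtale j).obj V.unop) => M)
              ((Scheme.pointSmallEtale ξ).fiber.map ((EtShriek.compEtale j).map a.unop) l) := by
          refine Eq.trans ?_ (Category.comp_id _)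
          exact Pi.map'_comp_π _ _ _
        rw [Category.assoc]
        erw [Category.assoc, hp]
        rw [Pi.lift_π]
        erw [Pi.lift_π]
        rw [← Category.assoc]
        refine (congrArg (fun q => q ≫ g (splitPt l))
          ((Scheme.pointSmallEtale _).toPresheafFiber_w a.unop (splitLift l) F.obj)).trans ?_
        refine congr_pt F g (Subtype.ext ?_) _ _ rfl
        change liftHom ξ l ≫ W.unop.hom = (liftHom ξ l ≫ a.unop.left) ≫ V.unop.hom
        rw [Category.assoc, MorphismProperty.Over.w] }⟩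

/-- The map out of the stalk of the extension by zero attached to a family of maps on stalks. -/
noncomputable def descStalk {M : AddCommGrpCat.{u + 1}} (g : ∀ u : PtsOver j ξ, (EtCoh.stalk u.1).obj F ⟶ M) :
    (EtCoh.stalk ξ).obj ((EtShriek.extZero j).obj F) ⟶ M :=
  ((Scheme.pointSmallEtale ξ).skyscraperSheafAdjunction.homEquiv _ _).symm
    (((EtShriek.extZeroAdj j).homEquiv _ _).symm (toSky F g))

theorem unit_skyHom {M : AddCommGrpCat.{u + 1}}
    (m : (EtCoh.stalk ξ).obj ((EtShriek.extZero j).obj F) ⟶ M) (V : U.Etale)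
    (l : (Scheme.pointSmallEtale ξ).fiber.obj ((EtShriek.compEtale j).obj V)) :
    ((EtShriek.extZeroAdj j).unit.app F).hom.app (op V) ≫
        ((Scheme.pointSmallEtale ξ).skyscraperSheafAdjunction.homEquiv _ _ m).hom.app
          (op ((EtShriek.compEtale j).obj V)) ≫
          Pi.π (fun _ : (Scheme.pointSmallEtale ξ).fiber.obj ((EtShriek.compEtale j).obj V) => M) l =
      ((EtShriek.extZeroAdj j).unit.app F).hom.app (op V) ≫
        (Scheme.pointSmallEtale ξ).toPresheafFiber _ l ((EtShriek.extZero j).obj F).obj ≫ m := by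
  refine congrArg (((EtShriek.extZeroAdj j).unit.app F).hom.app (op V) ≫ ·) ?_
  refine (congrArg (fun q : ((EtShriek.extZero j).obj F).obj ⟶ (Scheme.pointSmallEtale ξ).skyscraperPresheaf M =>
    q.app (op ((EtShriek.compEtale j).obj V)) ≫
      Pi.π (fun _ : (Scheme.pointSmallEtale ξ).fiber.obj ((EtShriek.compEtale j).obj V) => M) l)
    (Point.skyscraperSheafAdjunction_homEquiv_apply_hom _ m)).trans ?_
  exact Point.skyscraperPresheafHomEquiv_app_π _ _ _ _

theorem ιStalk_descStalk {M : AddCommGrpCat.{u + 1}} (g : ∀ u : PtsOver j ξ, (EtCoh.stalk u.1).obj F ⟶ M)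
    (u : PtsOver j ξ) : ιStalk F u ≫ descStalk F g = g u := by
  refine (Scheme.pointSmallEtale u.1).presheafFiber_hom_ext fun V l => ?_
  rw [← Category.assoc]; erw [toPresheafFiber_ιStalk]; rw [Category.assoc]
  refine (unit_skyHom F (descStalk F g) V (joinLift u l)).symm.trans ?_
  rw [descStalk, Equiv.apply_symm_apply]
  have h1 : (EtShriek.extZeroAdj j).unit.app F ≫
      (EtShriek.restrAlong j).map (((EtShriek.extZeroAdj j).homEquiv _ _).symm (toSky (ξ := ξ) F g)) =
      toSky F g := by
    exact ((EtShriek.extZeroAdj j).homEquiv_unit _ _ _).symm.trans (Equiv.apply_symm_apply _ _)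
  rw [← Category.assoc]
  refine (congrArg (fun q => q.hom.app (op V) ≫ Pi.π
    (fun _ : (Scheme.pointSmallEtale ξ).fiber.obj ((EtShriek.compEtale j).obj V) => M) (joinLift u l)) h1).trans ?_
  refine (Pi.lift_π _ _).trans ?_
  refine congr_pt F g (Subtype.ext ?_) _ _ rfl
  exact liftHom_comp u.1 l

theorem descStalk_uniq {M : AddCommGrpCat.{u + 1}} (g : ∀ u : PtsOver j ξ, (EtCoh.stalk u.1).obj F ⟶ M)
    (m : (EtCoh.stalk ξ).obj ((EtShriek.extZero j).obj F) ⟶ M) (hm : ∀ u, ιStalk F u ≫ m = g u) :
    m = descStalk F g := by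
  apply ((Scheme.pointSmallEtale ξ).skyscraperSheafAdjunction.homEquiv _ _).injective
  apply ((EtShriek.extZeroAdj j).homEquiv _ _).injective
  rw [descStalk, Equiv.apply_symm_apply, Equiv.apply_symm_apply, Adjunction.homEquiv_unit]
  refine ObjectProperty.hom_ext _ (NatTrans.ext (funext fun V => Pi.hom_ext _ _ fun l => ?_))
  refine Eq.trans ?_ (Pi.lift_π (fun l => (Scheme.pointSmallEtale (splitPt (V := V.unop) l).1).toPresheafFiber
    V.unop (splitLift l) F.obj ≫ g (splitPt l)) l).symm
  rw [← hm, ← Category.assoc, toPresheafFiber_ιStalk, Category.assoc]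
  refine (Category.assoc _ _ _).trans ?_
  refine (unit_skyHom F m V.unop l).trans ?_
  rw [show joinLift (splitPt l) (splitLift l) = l from Over.OverMorphism.ext rfl]

/-- The stalks over `ξ` form a coproduct decomposition of the stalk of the extension by zero. -/
noncomputable def isColimitExtZeroStalk :
    IsColimit (Cofan.mk ((EtCoh.stalk ξ).obj ((EtShriek.extZero j).obj F)) (ιStalk (ξ := ξ) F)) :=
  mkCofanColimit _ (fun s => descStalk F fun u => s.inj u)
    (fun s u => ιStalk_descStalk F (fun u => s.inj u) u)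
    (fun s m hm => descStalk_uniq F (fun u => s.inj u) m hm)

theorem nonempty_stalk_extZero_iso :
    Nonempty ((EtCoh.stalk ξ).obj ((EtShriek.extZero j).obj F) ≅
      ∐ fun u : PtsOver j ξ => (EtCoh.stalk u.1).obj F) :=
  ⟨(isColimitExtZeroStalk F).coconePointUniqueUpToIso (coproductIsCoproduct _)⟩

theorem ιStalk_naturality {F G : EtCoh.Ab U} (a : F ⟶ G) (u : PtsOver j ξ) :
    ιStalk F u ≫ (EtCoh.stalk ξ).map ((EtShriek.extZero j).map a) = (EtCoh.stalk u.1).map a ≫ ιStalk G u := by
  refine (Scheme.pointSmallEtale u.1).presheafFiber_hom_ext fun V l => ?_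
  rw [← Category.assoc, ← Category.assoc]
  erw [toPresheafFiber_ιStalk, (Scheme.pointSmallEtale u.1).toPresheafFiber_naturality]
  rw [Category.assoc, Category.assoc]
  erw [(Scheme.pointSmallEtale ξ).toPresheafFiber_naturality, toPresheafFiber_ιStalk]
  rw [← Category.assoc, ← Category.assoc]
  exact congrArg (fun q => q ≫ (Scheme.pointSmallEtale ξ).toPresheafFiber _ (joinLift u l) ((EtShriek.extZero j).obj G).obj)
    (congrArg (fun m => m.hom.app (op V)) ((EtShriek.extZeroAdj j).unit.naturality a)).symm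

/-- Extension by zero along an étale morphism preserves monomorphisms. -/
theorem preservesMono_extZero {F G : EtCoh.Ab U} (a : F ⟶ G) [Mono a] : Mono ((EtShriek.extZero j).map a) := by
  refine (mono_iff_ab _).2 fun Ω _ _ ξ => ?_
  haveI : AB5OfSize.{u, u} AddCommGrpCat.{u + 1} := ab5_ab
  haveI : AB4OfSize.{u} AddCommGrpCat.{u + 1} := AB4.of_AB5 _
  let α : Discrete.functor (fun u : PtsOver j ξ => (EtCoh.stalk u.1).obj F) ⟶
      Discrete.functor (fun u : PtsOver j ξ => (EtCoh.stalk u.1).obj G) :=
    Discrete.natTrans fun u => (EtCoh.stalk u.as.1).map a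
  haveI : ∀ u, Mono (α.app u) := fun u => inferInstanceAs (Mono ((EtCoh.stalk u.as.1).map a))
  haveI : Mono α := NatTrans.mono_of_mono_app α
  haveI : Mono (colim.map α) := inferInstance
  let eF := (isColimitExtZeroStalk (j := j) (ξ := ξ) F).coconePointUniqueUpToIso (coproductIsCoproduct _)
  let eG := (isColimitExtZeroStalk (j := j) (ξ := ξ) G).coconePointUniqueUpToIso (coproductIsCoproduct _)
  have e : (EtCoh.stalk ξ).map ((EtShriek.extZero j).map a) = eF.hom ≫ colim.map α ≫ eG.inv := by
    refine (isColimitExtZeroStalk (j := j) (ξ := ξ) F).hom_ext fun ⟨u⟩ => ?_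
    simp only [eF, eG, IsColimit.comp_coconePointUniqueUpToIso_hom_assoc, Cofan.mk_pt, cofan_mk_inj]
    erw [colimit.ι_map_assoc, IsColimit.comp_coconePointUniqueUpToIso_inv]
    exact ιStalk_naturality a u
  have hm : Mono ((EtCoh.stalk ξ).map ((EtShriek.extZero j).map a)) := by rw [e]; infer_instance
  exact (AddCommGrpCat.mono_iff_injective _).1 hm

end Groth.Agent.EtPtsLib
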