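import Groth.Agent.EtPtsLib.Immersion
/-!
Restriction along an étale morphism is the inverse image; extension by zero along open immersions.
-/

set_option autoImplicit false
set_option backward.isDefEq.respectTransparency false
set_option backward.isDefEq.respectTransparency.types false

universe u

open CategoryTheory CategoryTheory.Limits AlgebraicGeometry Opposite

namespace Groth.Agent.EtPtsLib

variable {U X : Scheme.{u}} (j : U ⟶ X) [AlgebraicGeometry.Etale j]

/-- Composition with `j` is left adjoint to base change along `j`. -/
noncomputable def compBcAdj : EtShriek.compEtale j ⊣ EtCoh.bc j :=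
  Adjunction.mkOfHomEquiv
    { homEquiv := fun V W =>
        { toFun := fun g => MorphismProperty.Over.homMk
            (pullback.lift g.left V.hom (MorphismProperty.Over.w g)) (pullback.lift_snd _ _ _)
          invFun := fun h => MorphismProperty.Over.homMk (h.left ≫ bcFst j W) (by
            change (h.left ≫ bcFst j W) ≫ W.hom = V.hom ≫ j
            rw [Category.assoc, bcFst, pullback.condition, ← Category.assoc]
            exact congrArg (· ≫ j) (MorphismProperty.Over.w h))
          left_inv := fun g => MorphismProperty.Over.Hom.ext (pullback.lift_fst _ _ _)
          right_inv := fun h => bc_hom_ext j (pullback.lift_fst _ _ _) }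
      homEquiv_naturality_left_symm := fun a h => MorphismProperty.Over.Hom.ext (Category.assoc _ _ _)
      homEquiv_naturality_right := fun g b => bc_hom_ext j (by
        refine (pullback.lift_fst _ _ _).trans ?_
        rw [MorphismProperty.Comma.comp_left, MorphismProperty.Comma.comp_left, Category.assoc, bcFst_map,
          ← Category.assoc]
        exact congrArg (· ≫ b.left) (pullback.lift_fst _ _ _).symm) }

variable [EtShriek.JCont j]

/-- Restriction is left adjoint to direct image. -/
noncomputable def restrPushAdj : EtShriek.restrAlong j ⊣ EtCoh.push j :=
  (compBcAdj j).sheafPushforwardContinuous U.smallEtaleTopology X.smallEtaleTopology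

/-- Restriction along an étale morphism is the inverse image. -/
noncomputable def pullIsoRestr : EtCoh.pull j ≅ EtShriek.restrAlong j :=
  Adjunction.leftAdjointUniq (EtCoh.pullPushAdj j) (restrPushAdj j)

theorem isIso_unit_extZero [IsOpenImmersion j] : IsIso (EtShriek.extZeroAdj j).unit := by
  haveI : ∀ G, IsIso ((EtCoh.pullPushAdj j).counit.app G) := fun G =>
    isIso_counit_ab j (liftsLocally_of_isImmersion j) (bcInducing_of_isImmersion j) G
  haveI : IsIso (EtCoh.pullPushAdj j).counit := NatIso.isIso_of_isIso_app _
  haveI := (EtCoh.pullPushAdj j).fullyFaithfulROfIsIsoCounit.full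
  haveI := (EtCoh.pullPushAdj j).fullyFaithfulROfIsIsoCounit.faithful
  let t : Adjunction.Triple (EtShriek.extZero j) (EtShriek.restrAlong j) (EtCoh.push j) :=
    ⟨EtShriek.extZeroAdj j, restrPushAdj j⟩
  exact t.isIso_unit_iff_isIso_counit.2 inferInstance

end Groth.Agent.EtPtsLib
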