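import Groth.Agent.EtPtsLib.Counit
/-!
Where two sections agree, and the map of stalks given by the unit of inverse and direct image.
-/

set_option autoImplicit false
set_option backward.isDefEq.respectTransparency false
set_option backward.isDefEq.respectTransparency.types false

universe u w v₁ u₁

open CategoryTheory CategoryTheory.Limits AlgebraicGeometry Opposite GrothendieckTopology

namespace Groth.Agent.EtPtsLib

section Agree

variable {X : Scheme.{u}} {A : Type u₁} [Category.{v₁} A] [HasColimitsOfSize.{u, u} A]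
  {FC : A → A → Type*} {CC : A → Type w}
  [∀ (a b : A), FunLike (FC a b) (CC a) (CC b)] [ConcreteCategory.{w} A FC]

/-- The points of `U` near which two sections over `U` agree. -/
def agree (P : X.Etaleᵒᵖ ⥤ A) {U : X.Etale} (s t : ToType (P.obj (op U))) : Set U.left :=
  ⋃ (W : X.Etale) (g : W ⟶ U) (_ : P.map g.op s = P.map g.op t), Set.range g.left

omit [HasColimitsOfSize.{u, u} A] in
theorem isOpen_agree (P : X.Etaleᵒᵖ ⥤ A) {U : X.Etale} (s t : ToType (P.obj (op U))) : IsOpen (agree P s t) :=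
  isOpen_iUnion fun _ => isOpen_iUnion fun g => isOpen_iUnion fun _ => by
    haveI := etale_left g
    exact g.left.isOpenMap.isOpen_range

variable [PreservesFilteredColimitsOfSize.{u, u} (forget A)] {Ω : Type u} [Field Ω] [IsSepClosed Ω]
  (ζ : Spec (CommRingCat.of Ω) ⟶ X)

theorem germ_eq_iff_mem_agree (P : X.Etaleᵒᵖ ⥤ A) {U : X.Etale} (y : (Scheme.pointSmallEtale ζ).fiber.obj U)
    (s t : ToType (P.obj (op U))) :
    (Scheme.pointSmallEtale ζ).toPresheafFiber U y P s = (Scheme.pointSmallEtale ζ).toPresheafFiber U y P t ↔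
      liftHom ζ y default ∈ agree P s t := by
  constructor
  · intro e
    obtain ⟨W, g, z, hz, hst⟩ := ((Scheme.pointSmallEtale ζ).toPresheafFiber_eq_iff' U y s t).1 e
    refine Set.mem_iUnion.2 ⟨W, Set.mem_iUnion.2 ⟨g, Set.mem_iUnion.2 ⟨hst, liftHom ζ z default, ?_⟩⟩⟩
    rw [← hz]
    exact (Scheme.Hom.comp_apply _ _ _).symm
  · intro e
    obtain ⟨W, hW⟩ := Set.mem_iUnion.1 e
    obtain ⟨g, hg⟩ := Set.mem_iUnion.1 hW
    obtain ⟨hst, v, hv⟩ := Set.mem_iUnion.1 hg
    obtain ⟨z, hz⟩ := exists_fiber_map_eq ζ g y v hv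
    exact ((Scheme.pointSmallEtale ζ).toPresheafFiber_eq_iff' U y s t).2 ⟨W, g, z, hz, hst⟩

end Agree

section UnitStalk

variable {X Y : Scheme.{u}} (f : X ⟶ Y) {Ω : Type u} [Field Ω] [IsSepClosed Ω]
  (ζ : Spec (CommRingCat.of Ω) ⟶ X)

variable {A : Type (u + 2)} [Category.{u + 1} A] [HasColimitsOfSize.{u, u} A] [HasProducts.{u} A]
  [((EtCoh.bc f).sheafPushforwardContinuous A Y.smallEtaleTopology X.smallEtaleTopology).IsRightAdjoint]

/-- The stalk at the image point maps to the stalk of the inverse image. -/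
noncomputable def unitStalk (G : Sheaf Y.smallEtaleTopology A) :
    (Scheme.pointSmallEtale (ζ ≫ f)).presheafFiber.obj G.obj ⟶ (Scheme.pointSmallEtale ζ).presheafFiber.obj
      (((EtCoh.bc f).sheafPullback A Y.smallEtaleTopology X.smallEtaleTopology).obj G).obj :=
  (Scheme.pointSmallEtale (ζ ≫ f)).presheafFiber.map
      (((EtCoh.bc f).sheafAdjunctionContinuous A Y.smallEtaleTopology X.smallEtaleTopology).unit.app G).hom ≫
    pushStalk f ζ _

theorem toPresheafFiber_unitStalk (G : Sheaf Y.smallEtaleTopology A) (U : Y.Etale)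
    (l : (Scheme.pointSmallEtale (ζ ≫ f)).fiber.obj U) :
    (Scheme.pointSmallEtale (ζ ≫ f)).toPresheafFiber U l G.obj ≫ unitStalk f ζ G =
      (((EtCoh.bc f).sheafAdjunctionContinuous A Y.smallEtaleTopology X.smallEtaleTopology).unit.app G).hom.app (op U) ≫
        (Scheme.pointSmallEtale ζ).toPresheafFiber _ (liftBc f ζ U l) _ := by
  rw [unitStalk, Point.toPresheafFiber_naturality_assoc]
  exact congrArg (_ ≫ ·) (toPresheafFiber_pushStalk f ζ _ U l)

variable {FC : A → A → Type*} {CC : A → Type (u + 1)}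
  [∀ (a b : A), FunLike (FC a b) (CC a) (CC b)] [ConcreteCategory.{u + 1} A FC]

theorem unitStalk_eq (G : Sheaf Y.smallEtaleTopology A) : unitStalk f ζ G = (pullStalkIso f ζ A).inv.app G := by
  refine (Scheme.pointSmallEtale (ζ ≫ f)).presheafFiber_hom_ext fun U l => ?_
  rw [toPresheafFiber_unitStalk, pullStalkIso]
  simp only [NatTrans.comp_app, SitePts.comapIso_hom_app]
  dsimp
  simp only [Point.Hom.presheafFiber_app, Point.toPresheafFiber_presheafFiberDesc_assoc]
  refine ((Point.toPresheafFiber_naturality_assoc (comapPoint f ζ)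
    (((EtCoh.bc f).sheafAdjunctionContinuous A Y.smallEtaleTopology X.smallEtaleTopology).unit.app G).hom U _ _).trans
    (congrArg (_ ≫ ·) (SitePts.toPresheafFiber_comapStalk _ _ _ A _ U _))).symm

theorem bijective_unitStalk (G : Sheaf Y.smallEtaleTopology A) : Function.Bijective (unitStalk f ζ G) := by
  rw [unitStalk_eq]
  haveI : IsIso ((pullStalkIso f ζ A).inv.app G) :=
    ⟨⟨(pullStalkIso f ζ A).hom.app G, (pullStalkIso f ζ A).inv_hom_id_app G, (pullStalkIso f ζ A).hom_inv_id_app G⟩⟩
  exact ConcreteCategory.bijective_of_isIso _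

end UnitStalk

end Groth.Agent.EtPtsLib
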