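import Groth.Agent.EtPtsLib.Counit
import Groth.Agent.EtPtsLib.Support
/-!
Equality of sections via germs, germs of units, stalks of constant sheaves.
-/

set_option autoImplicit false
set_option backward.isDefEq.respectTransparency false
set_option backward.isDefEq.respectTransparency.types false

universe u

open CategoryTheory CategoryTheory.Limits AlgebraicGeometry Opposite GrothendieckTopology

namespace Groth.Agent.EtPtsLib

variable {X : Scheme.{u}}

/-- Sections of an abelian sheaf with the same germs are equal. -/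
theorem sect_ext (F : EtCoh.Ab X) (U : X.Etale) (s t : EtCoh.sect F U)
    (h : ∀ (Ω : Type u) [Field Ω] [IsSepClosed Ω] (ξ : Spec (CommRingCat.of Ω) ⟶ X)
      (l : (Scheme.pointSmallEtale ξ).fiber.obj U), germ ξ F l s = germ ξ F l t) : s = t := by
  have hR : Presheaf.equalizerSieve (F := F.obj) (X := op U) s t ∈ X.smallEtaleTopology U :=
    detects X _ fun x l => by
      obtain ⟨V, g, y, hy, hg⟩ := ((Scheme.pointSmallEtale _).toPresheafFiber_eq_iff' U l s t).1 (h _ (geomPt x) l)
      exact ⟨V, g, hg, y, hy⟩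
  have hsep := ((isSheaf_iff_isSheaf_of_type _ _).1
    ((sheafCompose X.smallEtaleTopology (forget AddCommGrpCat.{u + 1})).obj F).property).isSeparated
  exact (hsep _ hR).ext fun Y f hf => hf

/-- The top object has exactly one lift of each geometric point. -/
noncomputable def topLift {Ω : Type u} [Field Ω] [IsSepClosed Ω] (ξ : Spec (CommRingCat.of Ω) ⟶ X) :
    (Scheme.pointSmallEtale ξ).fiber.obj (EtCoh.top X) :=
  Over.homMk ξ (Category.comp_id ξ)

theorem germ_map {Ω : Type u} [Field Ω] [IsSepClosed Ω] (ξ : Spec (CommRingCat.of Ω) ⟶ X) (F : EtCoh.Ab X)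
    {U V : X.Etale} (g : V ⟶ U) (y : (Scheme.pointSmallEtale ξ).fiber.obj V) (s : EtCoh.sect F U) :
    germ ξ F y (F.obj.map g.op s) = germ ξ F ((Scheme.pointSmallEtale ξ).fiber.map g y) s :=
  (Scheme.pointSmallEtale ξ).toPresheafFiber_w_apply g y F.obj s

/-- Germs of units. -/
theorem germ_unit_eq_iff {T : Scheme.{u}} (f : T ⟶ X) {Ω : Type u} [Field Ω] [IsSepClosed Ω]
    (ζ : Spec (CommRingCat.of Ω) ⟶ T) (F : EtCoh.Ab X) {U : X.Etale}
    (l : (Scheme.pointSmallEtale ζ).fiber.obj ((EtCoh.bc f).obj U))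
    (l' : (Scheme.pointSmallEtale (ζ ≫ f)).fiber.obj U) (hl : liftBc f ζ U l' = l)
    (s t : EtCoh.sect F U) :
    germ ζ ((EtCoh.pull f).obj F) l (((EtCoh.pullPushAdj f).unit.app F).hom.app (op U) s) =
      germ ζ ((EtCoh.pull f).obj F) l (((EtCoh.pullPushAdj f).unit.app F).hom.app (op U) t) ↔
    germ (ζ ≫ f) F l' s = germ (ζ ≫ f) F l' t := by
  let Φ := Scheme.pointSmallEtale ζ
  let θ := (Φ.sheafFiberComapIso (EtCoh.bc f) (EtCoh.coverPreserving_bc f) AddCommGrpCat.{u + 1}).app F
  let e := (Point.Hom.presheafFiber (A := AddCommGrpCat.{u + 1}) (pointIso f ζ).inv).app F.obj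
  have key : (Scheme.pointSmallEtale (ζ ≫ f)).toPresheafFiber U l' F.obj ≫ e ≫ θ.hom =
      ((EtCoh.pullPushAdj f).unit.app F).hom.app (op U) ≫ Φ.toPresheafFiber _ l ((EtCoh.pull f).obj F).obj := by
    rw [← Category.assoc]
    have he : (Scheme.pointSmallEtale (ζ ≫ f)).toPresheafFiber U l' F.obj ≫ e =
        (comapPoint f ζ).toPresheafFiber U l F.obj := by
      subst hl
      simp [e, Point.Hom.presheafFiber_app]
      rfl
    rw [he]
    have hθ : θ.hom = (comapPoint f ζ).sheafFiber.map ((EtCoh.pullPushAdj f).unit.app F) ≫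
        SitePts.comapStalk Φ (EtCoh.bc f) (EtCoh.coverPreserving_bc f) AddCommGrpCat.{u + 1}
          ((EtCoh.pull f).obj F).obj :=
      SitePts.comapIso_hom_app Φ (EtCoh.bc f) (EtCoh.coverPreserving_bc f) AddCommGrpCat.{u + 1} F
    rw [hθ, ← Category.assoc]
    erw [(comapPoint f ζ).toPresheafFiber_naturality]
    rw [Category.assoc]
    exact congrArg _ (SitePts.toPresheafFiber_comapStalk _ _ _ _ _ _ _)
  haveI : IsIso e := ⟨⟨(Point.Hom.presheafFiber (A := AddCommGrpCat.{u + 1}) (pointIso f ζ).hom).app _, by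
      rw [← NatTrans.comp_app, ← Point.Hom.presheafFiber_comp, Iso.hom_inv_id, Point.Hom.presheafFiber_id]; rfl, by
      rw [← NatTrans.comp_app, ← Point.Hom.presheafFiber_comp, Iso.inv_hom_id, Point.Hom.presheafFiber_id]; rfl⟩⟩
  have hinj : Function.Injective (e ≫ θ.hom) := (ConcreteCategory.bijective_of_isIso (e ≫ θ.hom)).1
  have ks := fun s => ConcreteCategory.congr_hom key s
  simp only [ConcreteCategory.comp_apply] at ks hinj
  refine Iff.trans ?_ hinj.eq_iff
  exact Iff.of_eq (congrArg₂ (· = ·) (ks s).symm (ks t).symm)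

/-- The constants in the sections of a constant sheaf. -/
noncomputable def cst (M : AddCommGrpCat.{u + 1}) (U : X.Etale) :
    M ⟶ ((constantSheaf X.smallEtaleTopology AddCommGrpCat.{u + 1}).obj M).obj.obj (op U) :=
  (CategoryTheory.toSheafify X.smallEtaleTopology ((Functor.const _).obj M)).app (op U)

theorem cst_map (M : AddCommGrpCat.{u + 1}) {U V : X.Etale} (g : V ⟶ U) :
    cst M U ≫ ((constantSheaf X.smallEtaleTopology AddCommGrpCat.{u + 1}).obj M).obj.map g.op = cst M V := by
  refine ((CategoryTheory.toSheafify X.smallEtaleTopology ((Functor.const _).obj M)).naturality g.op).symm.trans ?_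
  exact Category.id_comp _

theorem cst_naturality {M N : AddCommGrpCat.{u + 1}} (a : M ⟶ N) (U : X.Etale) :
    cst M U ≫ ((constantSheaf X.smallEtaleTopology AddCommGrpCat.{u + 1}).map a).hom.app (op U) = a ≫ cst N U :=
  (congrArg (fun q => q.app (op U))
    (CategoryTheory.toSheafify_naturality X.smallEtaleTopology ((Functor.const X.Etaleᵒᵖ).map a))).symm

variable {Ω : Type u} [Field Ω] [IsSepClosed Ω] (ξ : Spec (CommRingCat.of Ω) ⟶ X) (M : AddCommGrpCat.{u + 1})

/-- Every stalk element of a constant sheaf is a constant, in exactly one way. -/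
theorem germ_cst_bijective {U : X.Etale} (l : (Scheme.pointSmallEtale ξ).fiber.obj U) :
    Function.Bijective fun c : M => germ ξ ((constantSheaf X.smallEtaleTopology AddCommGrpCat.{u + 1}).obj M) l (cst M U c) := by
  let P : X.Etaleᵒᵖ ⥤ AddCommGrpCat.{u + 1} := (Functor.const _).obj M
  let Φ := Scheme.pointSmallEtale ξ
  have hb : Function.Bijective (Φ.presheafFiber.map (CategoryTheory.toSheafify X.smallEtaleTopology P)) :=
    Φ.toPresheafFiber_map_bijective _
  have hfac : ∀ c : M, germ ξ ((constantSheaf X.smallEtaleTopology AddCommGrpCat.{u + 1}).obj M) l (cst M U c) =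
      Φ.presheafFiber.map (CategoryTheory.toSheafify X.smallEtaleTopology P) (Φ.toPresheafFiber U l P c) := fun c =>
    (Φ.toPresheafFiber_naturality_apply (CategoryTheory.toSheafify X.smallEtaleTopology P) U l c).symm
  rw [show (fun c : M => germ ξ ((constantSheaf X.smallEtaleTopology AddCommGrpCat.{u + 1}).obj M) l (cst M U c)) =
    _ ∘ fun c : M => Φ.toPresheafFiber U l P c from funext hfac]
  refine hb.comp ⟨fun a b hab => ?_, fun z => ?_⟩
  · obtain ⟨V, g, y, -, h⟩ := (Φ.toPresheafFiber_eq_iff' (P := P) U l a b).1 hab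
    exact h
  · obtain ⟨V, y, c, rfl⟩ := Φ.toPresheafFiber_jointly_surjective z
    obtain ⟨W, g₁, g₂, -⟩ := IsCofilteredOrEmpty.cone_objs (C := Φ.fiber.Elements) ⟨V, y⟩ ⟨U, l⟩
    refine ⟨c, ?_⟩
    have e₁ := Φ.toPresheafFiber_w_apply g₁.1 W.2 P c
    have e₂ := Φ.toPresheafFiber_w_apply g₂.1 W.2 P c
    rw [g₁.2] at e₁
    rw [g₂.2] at e₂
    exact e₂.symm.trans e₁

end Groth.Agent.EtPtsLib
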