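import Groth.Agent.EtPtsLib.Support
import Groth.Agent.Hensel.Sections
/-!
Stalks when the trivial neighbourhood is initial: strictly henselian local rings.
-/

set_option autoImplicit false
set_option backward.isDefEq.respectTransparency false
set_option backward.isDefEq.respectTransparency.types false

universe u w v₁ u₁

open CategoryTheory CategoryTheory.Limits AlgebraicGeometry Opposite IsLocalRing

namespace Groth.Agent.EtPtsLib

theorem subsingleton_fiber_top {X : Scheme.{u}} {Ω : Type u} [Field Ω] [IsSepClosed Ω]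
    (ξ : Spec (CommRingCat.of Ω) ⟶ X) : Subsingleton ((Scheme.pointSmallEtale ξ).fiber.obj (EtCoh.top X)) :=
  ⟨fun a b => Over.OverMorphism.ext
    (((Category.comp_id _).symm.trans (liftHom_comp ξ a)).trans ((liftHom_comp ξ b).symm.trans (Category.comp_id _)))⟩

variable {A : Type u₁} [Category.{v₁} A] [HasColimitsOfSize.{u, u} A]
  {FC : A → A → Type*} {CC : A → Type w}
  [∀ (a b : A), FunLike (FC a b) (CC a) (CC b)] [ConcreteCategory.{w} A FC]
  [PreservesFilteredColimitsOfSize.{u, u} (forget A)]

/-- If every neighbourhood receives the trivial one then the stalk is the global sections. -/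
theorem germ_top_bijective {X : Scheme.{u}} {Ω : Type u} [Field Ω] [IsSepClosed Ω]
    (ξ : Spec (CommRingCat.of Ω) ⟶ X) (t : (Scheme.pointSmallEtale ξ).fiber.obj (EtCoh.top X))
    (h : ∀ (U : X.Etale) (l : (Scheme.pointSmallEtale ξ).fiber.obj U),
      ∃ (g : EtCoh.top X ⟶ U), g.left (liftHom ξ t default) = liftHom ξ l default)
    (P : X.Etaleᵒᵖ ⥤ A) :
    Function.Bijective ((Scheme.pointSmallEtale ξ).toPresheafFiber (EtCoh.top X) t P) := by
  haveI := subsingleton_fiber_top ξ
  have h' : ∀ (U : X.Etale) (l : (Scheme.pointSmallEtale ξ).fiber.obj U),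
      ∃ (g : EtCoh.top X ⟶ U), (Scheme.pointSmallEtale ξ).fiber.map g t = l := fun U l => by
    obtain ⟨g, hg⟩ := h U l
    obtain ⟨y, hy⟩ := exists_fiber_map_eq ξ g l _ hg
    exact ⟨g, by rwa [Subsingleton.elim t y]⟩
  refine ⟨fun a b e => ?_, fun z => ?_⟩
  · obtain ⟨W, g, y, hy, he⟩ := ((Scheme.pointSmallEtale ξ).toPresheafFiber_eq_iff' _ t a b).1 e
    obtain ⟨k, hk⟩ := h' W y
    have hkg : k ≫ g = 𝟙 _ := MorphismProperty.Over.Hom.ext
      ((Category.comp_id _).symm.trans (MorphismProperty.Over.w (k ≫ g)))
    have := congrArg (fun x => P.map k.op x) he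
    simp only [← ConcreteCategory.comp_apply, ← Functor.map_comp, ← op_comp, hkg] at this
    simpa using this
  · obtain ⟨U, l, s, rfl⟩ := (Scheme.pointSmallEtale ξ).toPresheafFiber_jointly_surjective z
    obtain ⟨g, hg⟩ := h' U l
    exact ⟨P.map g.op s, by rw [(Scheme.pointSmallEtale ξ).toPresheafFiber_w_apply g t P s, hg]⟩

/-- The closed geometric point of a strictly henselian local ring. -/
theorem exists_top_hom (R : Type u) [CommRing R] [HenselianLocalRing R] [IsSepClosed (ResidueField R)]
    (t : (Scheme.pointSmallEtale (Spec.map (CommRingCat.ofHom (residue R)))).fiber.obj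
      (EtCoh.top (Spec (CommRingCat.of R))))
    (U : (Spec (CommRingCat.of R)).Etale)
    (l : (Scheme.pointSmallEtale (Spec.map (CommRingCat.ofHom (residue R)))).fiber.obj U) :
    ∃ g : EtCoh.top (Spec (CommRingCat.of R)) ⟶ U,
      g.left (liftHom _ t default) = liftHom _ l default := by
  haveI : AlgebraicGeometry.Etale U.hom := U.prop
  have hc : ∀ p, Spec.map (CommRingCat.ofHom (residue R)) p = closedPoint R := fun p => by
    rw [Subsingleton.elim p (closedPoint (ResidueField R))]
    exact comap_closedPoint (residue R)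
  have ht : liftHom _ t default = closedPoint R := by
    refine (congrArg (fun m => m default) ((Category.comp_id _).symm.trans (liftHom_comp _ t))).trans (hc _)
  obtain ⟨u, hu, hux⟩ := Groth.Agent.Hensel.exists_section_of_etale U.hom (liftHom _ l default) (by
    exact ((Scheme.Hom.comp_apply _ _ _).symm.trans (congrArg (fun m => m default) (liftHom_comp _ l))).trans (hc _))
  refine ⟨MorphismProperty.Over.homMk u hu, ?_⟩
  change u (liftHom _ t default) = _
  rw [ht]
  exact hux

end Groth.Agent.EtPtsLib
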