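import Groth.Agent.EtPtsLib.IntegralBC
import Groth.Agent.EtPtsLib.IntegralUI
import Groth.Prelude.Def_EtBCD
/-!
Base change maps for direct images along integral morphisms are isomorphisms.
-/

set_option autoImplicit false
set_option backward.isDefEq.respectTransparency false
set_option backward.isDefEq.respectTransparency.types false

universe u

open CategoryTheory CategoryTheory.Limits AlgebraicGeometry Opposite GrothendieckTopology

namespace Groth.Agent.EtPtsLib

variable {X Y X' Y' : Scheme.{u}} (f : X ⟶ Y) (g : Y' ⟶ Y) (f' : X' ⟶ Y') (g' : X' ⟶ X)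
  (h : IsPullback g' f' f g)

theorem pullbackComp_eq_kappa (V : Y.Etale) :
    ((MorphismProperty.Over.pullbackComp (P := EtCoh.etaleMP) (Q := ⊤) f' g).inv.app V ≫
      (MorphismProperty.Over.pullbackCongr (P := EtCoh.etaleMP) (Q := ⊤) h.w).inv.app V) ≫
      (MorphismProperty.Over.pullbackComp (P := EtCoh.etaleMP) (Q := ⊤) g' f).hom.app V = kappa f g f' g' h V := by
  refine bc_bc_hom_ext f g' (Eq.trans ?_ (kappa_fst f g f' g' h V).symm)
  simp [bcFst, EtCoh.bc, MorphismProperty.Over.pullbackCongr]
  erw [pullbackLeftPullbackSndIso_inv_fst, pullback.lift_fst, Category.comp_id, pullbackLeftPullbackSndIso_hom_fst]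
  rfl

theorem isBC_ab (F : EtCoh.Ab X) : IsBC f g f' g' h F (EtCoh.baseChange0 f g f' g' h.w F) := fun V => by
  rw [EtCoh.baseChange0, Equiv.apply_symm_apply]
  simp only [ObjectProperty.FullSubcategory.comp_hom, NatTrans.comp_app, EtCoh.pushComp, EtCoh.pushCongr]
  refine congrArg₂ (· ≫ ·) rfl ?_
  simp [Functor.sheafPushforwardContinuousComp', Functor.sheafPushforwardContinuousIso]
  erw [Category.id_comp, Category.comp_id, ← Functor.map_comp, ← op_comp, ← Functor.map_comp, ← op_comp]
  exact congrArg _ (congrArg Quiver.Hom.op (pullbackComp_eq_kappa f g f' g' h V))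

theorem isBC_sh (F : EtDesc.Sh X) : IsBC f g f' g' h F (EtBC.baseChange0Sh f g f' g' h.w F) := fun V => by
  rw [EtBC.baseChange0Sh, Equiv.apply_symm_apply]
  simp only [ObjectProperty.FullSubcategory.comp_hom, NatTrans.comp_app, EtDesc.pushCompSh, EtBC.pushCongrSh]
  refine congrArg₂ (· ≫ ·) rfl ?_
  simp [Functor.sheafPushforwardContinuousComp', Functor.sheafPushforwardContinuousIso]
  erw [Category.id_comp, Category.comp_id, ← Functor.map_comp, ← op_comp, ← Functor.map_comp, ← op_comp]
  exact congrArg _ (congrArg Quiver.Hom.op (pullbackComp_eq_kappa f g f' g' h V))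

theorem isIso_baseChange0 [IsIntegralHom f] (F : EtCoh.Ab X) : IsIso (EtCoh.baseChange0 f g f' g' h.w F) :=
  isIso_of_alg_ab _ fun y => stalk_bc_bijective f g f' g' h (geomPtAlg y) F _ (isBC_ab f g f' g' h F)

theorem isIso_of_alg_sh {F G : EtDesc.Sh X} (a : F ⟶ G)
    (h : ∀ x : X, Function.Bijective (((Scheme.pointSmallEtale (geomPtAlg x)).sheafFiber (A := Type (u + 1))).map a)) :
    IsIso a := by
  haveI : Sheaf.IsLocallyInjective a := SitePts.isLocallyInjective (detectsAlg X) a.hom fun x => (h x).1
  haveI : Sheaf.IsLocallySurjective a := SitePts.isLocallySurjective (detectsAlg X) a.hom fun x => (h x).2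
  haveI : Mono a := Sheaf.mono_of_isLocallyInjective a
  exact isIso_of_mono_of_epi _

theorem isIso_baseChange0Sh [IsIntegralHom f] (F : EtDesc.Sh X) : IsIso (EtBC.baseChange0Sh f g f' g' h.w F) :=
  isIso_of_alg_sh _ fun y => stalk_bc_bijective f g f' g' h (geomPtAlg y) F _ (isBC_sh f g f' g' h F)

end Groth.Agent.EtPtsLib
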