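import Groth.Agent.EtPtsLib.Recollement
import Groth.Agent.EtPtsLib.Immersion
/-!
Units of inverse and direct image are injective at points of the image.
-/

set_option autoImplicit false
set_option backward.isDefEq.respectTransparency false
set_option backward.isDefEq.respectTransparency.types false

universe u

open CategoryTheory CategoryTheory.Limits AlgebraicGeometry Opposite GrothendieckTopology

namespace Groth.Agent.EtPtsLib

variable {X Y : Scheme.{u}}

set_option backward.isDefEq.respectTransparency false in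
/-- Any choice of a geometric point at each point of the scheme is conservative. -/
theorem detects_of_points (K : X → Type u) [∀ x, Field (K x)] [∀ x, IsSepClosed (K x)]
    (P : ∀ x : X, Spec (CommRingCat.of (K x)) ⟶ X) (hP : ∀ x, P x default = x) :
    SitePts.Detects (fun x : X => Scheme.pointSmallEtale (P x)) := fun U R hR => by
  obtain ⟨α, T, f, rfl⟩ := R.exists_eq_ofArrows
  rw [Scheme.ofArrows_mem_smallEtaleTopology_iff]
  ext x
  simp only [Set.mem_iUnion, Set.mem_range, Set.mem_univ, iff_true]
  obtain ⟨x', hx'⟩ := Scheme.pointSmallEtaleFiberObjToPreimage_surjective (P (U.hom x))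
    (hP _) U ⟨x, by simp⟩
  rw [Subtype.ext_iff] at hx'
  simp only [Functor.id_obj, Scheme.pointSmallEtaleFiberObjToPreimage_coe, Scheme.Etale.forget_obj_left] at hx'
  obtain ⟨W, g, ⟨Z, p, _, ⟨a⟩, rfl⟩, y, hy⟩ := hR (U.hom x) x'
  subst hy
  exact ⟨a, (Scheme.pointSmallEtaleFiberObjToPreimage (P (U.hom x)) (hP _) (y ≫ p.hom)).1,
    hx'⟩

/-- The unit is injective on stalks at geometric points coming from the source. -/
theorem stalk_unit_injective (f : X ⟶ Y) {Ω : Type u} [Field Ω] [IsSepClosed Ω]
    (ζ : Spec (CommRingCat.of Ω) ⟶ X) (F : EtCoh.Ab Y) :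
    Function.Injective ((EtCoh.stalk (ζ ≫ f)).map ((EtCoh.pullPushAdj f).unit.app F)) := by
  haveI : Mono ((comapPoint f ζ).sheafFiber.map ((EtCoh.pullPushAdj f).unit.app F)) := by
    have hiso : IsIso (((Scheme.pointSmallEtale ζ).sheafFiberComapIso (EtCoh.bc f)
        (EtCoh.coverPreserving_bc f) AddCommGrpCat.{u + 1}).hom.app F) := inferInstance
    rw [SitePts.comapIso_hom_app] at hiso
    exact mono_of_mono ((comapPoint f ζ).sheafFiber.map ((EtCoh.pullPushAdj f).unit.app F))
      (SitePts.comapStalk (Scheme.pointSmallEtale ζ) (EtCoh.bc f) (EtCoh.coverPreserving_bc f)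
        AddCommGrpCat.{u + 1} ((EtCoh.pull f).obj F).obj)
  let e : (comapPoint f ζ).sheafFiber (A := AddCommGrpCat.{u + 1}) ≅ (Scheme.pointSmallEtale (ζ ≫ f)).sheafFiber :=
    { hom := Point.Hom.sheafFiber (pointIso f ζ).hom
      inv := Point.Hom.sheafFiber (pointIso f ζ).inv
      hom_inv_id := by rw [← Point.Hom.sheafFiber_comp, Iso.inv_hom_id, Point.Hom.sheafFiber_id]
      inv_hom_id := by rw [← Point.Hom.sheafFiber_comp, Iso.hom_inv_id, Point.Hom.sheafFiber_id] }
  haveI : Mono ((Scheme.pointSmallEtale (ζ ≫ f)).sheafFiber.map ((EtCoh.pullPushAdj f).unit.app F)) := by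
    have h := e.inv.naturality ((EtCoh.pullPushAdj f).unit.app F)
    haveI : Mono ((Scheme.pointSmallEtale (ζ ≫ f)).sheafFiber.map ((EtCoh.pullPushAdj f).unit.app F) ≫ e.inv.app _) := by
      rw [h]; haveI : IsIso (e.inv.app ((𝟭 (EtCoh.Ab Y)).obj F)) :=
        ⟨⟨e.hom.app _, e.inv_hom_id_app _, e.hom_inv_id_app _⟩⟩
      exact mono_comp _ _
    exact mono_of_mono _ (e.inv.app _)
  exact (AddCommGrpCat.mono_iff_injective _).1
    (inferInstanceAs (Mono ((Scheme.pointSmallEtale (ζ ≫ f)).sheafFiber.map ((EtCoh.pullPushAdj f).unit.app F))))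

/-- The unit is a monomorphism for a surjective morphism. -/
theorem mono_unit_of_surjective (f : X ⟶ Y) [Surjective f] (F : EtCoh.Ab Y) :
    Mono ((EtCoh.pullPushAdj f).unit.app F) := by
  choose x hx using f.surjective
  let K := fun y : Y => SeparableClosure (X.residueField (x y))
  haveI : Sheaf.IsLocallyInjective ((EtCoh.pullPushAdj f).unit.app F) :=
    SitePts.isLocallyInjective (detects_of_points K (fun y => geomPt (x y) ≫ f) fun y => by
      rw [Scheme.Hom.comp_apply, geomPt_default, hx]) ((EtCoh.pullPushAdj f).unit.app F).hom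
      fun y => stalk_unit_injective f (geomPt (x y)) F
  exact Sheaf.mono_of_isLocallyInjective _

end Groth.Agent.EtPtsLib
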