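import Groth.Agent.EtPtsLib.InitialNbhd
import Groth.Agent.EtPtsLib.UnitMono
/-!
Sheaves of sets on the small étale site of a separably closed field.
-/

set_option autoImplicit false
set_option backward.isDefEq.respectTransparency false
set_option backward.isDefEq.respectTransparency.types false

universe u

open CategoryTheory CategoryTheory.Limits AlgebraicGeometry Opposite IsLocalRing GrothendieckTopology

namespace Groth.Agent.EtPtsLib

variable (k : Type u) [Field k] [IsSepClosed k] {Ω : Type u} [Field Ω] [IsSepClosed Ω]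
  (ξ : Spec (CommRingCat.of Ω) ⟶ Spec (CommRingCat.of k))

/-- The trivial neighbourhood. -/
noncomputable def topPt : (Scheme.pointSmallEtale ξ).fiber.obj (EtCoh.top (Spec (CommRingCat.of k))) :=
  Over.homMk ξ (Category.comp_id _)

theorem exists_top_hom_field (U : (Spec (CommRingCat.of k)).Etale) (l : (Scheme.pointSmallEtale ξ).fiber.obj U) :
    ∃ g : EtCoh.top (Spec (CommRingCat.of k)) ⟶ U, g.left (liftHom ξ (topPt k ξ) default) = liftHom ξ l default := by
  haveI : AlgebraicGeometry.Etale U.hom := U.prop
  let e : k ≃+* ResidueField k := RingEquiv.ofBijective (residue k) ⟨(residue k).injective, residue_surjective⟩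
  haveI : IsSepClosed (ResidueField k) := IsSepClosed.of_exists_root _ fun p hp hi hs => by
    obtain ⟨x, hx⟩ := IsSepClosed.exists_root (p.map e.symm.toRingHom)
      (by rw [Polynomial.degree_map]; exact (Polynomial.degree_pos_of_irreducible hi).ne') (hs.map)
    refine ⟨e x, ?_⟩
    have h := congrArg e.toRingHom hx
    rw [Polynomial.eval_map, Polynomial.hom_eval₂, map_zero] at h
    have he : e.toRingHom.comp e.symm.toRingHom = RingHom.id _ := RingHom.ext fun y => e.apply_symm_apply y
    rw [he] at h
    exact h
  obtain ⟨u, hu, hux⟩ := Groth.Agent.Hensel.exists_section_of_etale U.hom (liftHom ξ l default)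
    (Subsingleton.elim (α := ↥(Spec (CommRingCat.of k))) _ _)
  refine ⟨MorphismProperty.Over.homMk u hu, ?_⟩
  change u (liftHom ξ (topPt k ξ) default) = _
  rw [Subsingleton.elim (α := ↥(Spec (CommRingCat.of k))) (liftHom ξ (topPt k ξ) default) (closedPoint k)]
  exact hux

/-- Global sections are the stalk. -/
noncomputable def sectionsFiberIso :
    (sheafSections (Spec (CommRingCat.of k)).smallEtaleTopology (Type (u + 1))).obj
        (op (EtCoh.top (Spec (CommRingCat.of k)))) ≅ (Scheme.pointSmallEtale ξ).sheafFiber (A := Type (u + 1)) :=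
  haveI : ∀ F : EtDesc.Sh (Spec (CommRingCat.of k)),
      IsIso ((Scheme.pointSmallEtale ξ).toPresheafFiber (EtCoh.top _) (topPt k ξ) F.obj) := fun F =>
    ConcreteCategory.isIso_iff_bijective _ |>.2
      (germ_top_bijective ξ (topPt k ξ) (exists_top_hom_field k ξ) F.obj)
  NatIso.ofComponents (fun F => asIso ((Scheme.pointSmallEtale ξ).toPresheafFiber (EtCoh.top _) (topPt k ξ) F.obj))
    fun {F G} a => ((Scheme.pointSmallEtale ξ).toPresheafFiber_naturality a.hom _ _).symm

theorem isEquivalence_fiber :
    ((Scheme.pointSmallEtale (𝟙 (Spec (CommRingCat.of k)))).sheafFiber (A := Type (u + 1))).IsEquivalence := by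
  let Φ := Scheme.pointSmallEtale (𝟙 (Spec (CommRingCat.of k)))
  let adj := Φ.skyscraperSheafAdjunction (A := Type (u + 1))
  let t := topPt k (𝟙 (Spec (CommRingCat.of k)))
  haveI hc : ∀ M, IsIso (adj.counit.app M) := fun M => by
    have hb : IsIso (Φ.toPresheafFiber (EtCoh.top _) t (Φ.skyscraperSheafFunctor.obj M).obj) :=
      ConcreteCategory.isIso_iff_bijective _ |>.2
        (germ_top_bijective _ t (exists_top_hom_field k _) _)
    have e : Φ.toPresheafFiber (EtCoh.top _) t (Φ.skyscraperSheafFunctor.obj M).obj ≫ adj.counit.app M =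
        Pi.π (fun _ : Φ.fiber.obj (EtCoh.top (Spec (CommRingCat.of k))) => M) t := by
      have h1 : adj.counit.app M = Φ.skyscraperPresheafHomEquiv.symm (𝟙 _) :=
        (adj.homEquiv_symm_id M).symm.trans (Point.skyscraperSheafAdjunction_homEquiv_symm_apply _ _)
      rw [h1]
      erw [Point.toPresheafFiber_skyscraperPresheafHomEquiv_symm]
      exact Category.id_comp _
    haveI : Unique (Φ.fiber.obj (EtCoh.top (Spec (CommRingCat.of k)))) :=
      haveI := subsingleton_fiber_top (𝟙 (Spec (CommRingCat.of k)))
      uniqueOfSubsingleton t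
    haveI : IsIso (Pi.π (fun _ : Φ.fiber.obj (EtCoh.top (Spec (CommRingCat.of k))) => M) t) := by
      rw [Subsingleton.elim t default]
      exact (productUniqueIso (fun _ : Φ.fiber.obj (EtCoh.top (Spec (CommRingCat.of k))) => M)).isIso_hom
    exact IsIso.of_isIso_fac_left e
  haveI hu : ∀ F, IsIso (adj.unit.app F) := fun F => by
    haveI : IsIso (Φ.sheafFiber.map (adj.unit.app F)) :=
      IsIso.of_isIso_fac_right (h := 𝟙 _) (adj.left_triangle_components F)
    have hb := ConcreteCategory.bijective_of_isIso (Φ.sheafFiber.map (adj.unit.app F))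
    haveI : Sheaf.IsLocallyInjective (adj.unit.app F) :=
      SitePts.isLocallyInjective (detects_of_points (fun _ : Spec (CommRingCat.of k) => k) (fun _ => 𝟙 _)
        fun x => Subsingleton.elim _ _) (adj.unit.app F).hom fun _ => hb.1
    haveI : Sheaf.IsLocallySurjective (adj.unit.app F) :=
      SitePts.isLocallySurjective (detects_of_points (fun _ : Spec (CommRingCat.of k) => k) (fun _ => 𝟙 _)
        fun x => Subsingleton.elim _ _) (adj.unit.app F).hom fun _ => hb.2
    haveI : Mono (adj.unit.app F) := Sheaf.mono_of_isLocallyInjective _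
    exact isIso_of_mono_of_epi _
  haveI : IsIso adj.unit := NatIso.isIso_of_isIso_app _
  haveI : IsIso adj.counit := NatIso.isIso_of_isIso_app _
  exact adj.toEquivalence.isEquivalence_functor

theorem isEquivalence_sections :
    ((sheafSections (Spec (CommRingCat.of k)).smallEtaleTopology (Type (u + 1))).obj
      (op (EtCoh.top (Spec (CommRingCat.of k))))).IsEquivalence := by
  haveI := isEquivalence_fiber k
  exact Functor.isEquivalence_of_iso (sectionsFiberIso k (𝟙 _)).symm

theorem isEquivalence_pullSh {k' : Type u} [Field k'] [IsSepClosed k'] [Algebra k k'] :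
    (EtDesc.pullSh (Spec.map (CommRingCat.ofHom (algebraMap k k')))).IsEquivalence := by
  let v := Spec.map (CommRingCat.ofHom (algebraMap k k'))
  let Γ' := (sheafSections (Spec (CommRingCat.of k')).smallEtaleTopology (Type (u + 1))).obj
    (op (EtCoh.top (Spec (CommRingCat.of k'))))
  haveI : Γ'.IsEquivalence := isEquivalence_sections k'
  have i : EtDesc.pullSh v ⋙ Γ' ≅ (sheafSections (Spec (CommRingCat.of k)).smallEtaleTopology (Type (u + 1))).obj
      (op (EtCoh.top (Spec (CommRingCat.of k)))) :=
    Functor.isoWhiskerLeft _ (sectionsFiberIso k' (𝟙 _)) ≪≫ pullStalkIso v (𝟙 _) (Type (u + 1)) ≪≫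
      (sectionsFiberIso k (𝟙 _ ≫ v)).symm
  haveI := isEquivalence_sections k
  haveI : (EtDesc.pullSh v ⋙ Γ').IsEquivalence := Functor.isEquivalence_of_iso i.symm
  exact Functor.isEquivalence_of_comp_right (EtDesc.pullSh v) Γ'

end Groth.Agent.EtPtsLib
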