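import Groth.Agent.EtPtsLib.Immersion
import Groth.Agent.EtPtsLib.Recollement
import Groth.Prelude.Def_W4c1etweilhu916Glue
/-!
Recollement of abelian étale sheaves along a closed subscheme and its complement.
-/

set_option autoImplicit false
set_option backward.isDefEq.respectTransparency false
set_option backward.isDefEq.respectTransparency.types false

universe u

open CategoryTheory CategoryTheory.Limits AlgebraicGeometry Opposite GrothendieckTopology

namespace Groth.Agent.EtPtsLib

variable {X Z U : Scheme.{u}} (i : Z ⟶ X) [IsClosedImmersion i] (j : U ⟶ X) [IsOpenImmersion j]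

/-- The sheaf glued from a triple. -/
noncomputable abbrev glueObj (T : Comma (𝟭 (EtCoh.Ab Z)) (EtCoh.push j ⋙ EtCoh.pull i)) : EtCoh.Ab X :=
  pullback ((EtCoh.push i).map T.hom) ((EtCoh.pullPushAdj i).unit.app ((EtCoh.push j).obj T.right))

/-- The canonical map to the sheaf glued from the triple of a sheaf. -/
noncomputable def glueUnit (F : EtCoh.Ab X) : F ⟶ glueObj i j ((EtCore.recollTriple i j).obj F) :=
  pullback.lift ((EtCoh.pullPushAdj i).unit.app F) ((EtCoh.pullPushAdj j).unit.app F)
    ((EtCoh.pullPushAdj i).unit.naturality _).symm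

theorem isIso_stalk_unit_immersion {W : Scheme.{u}} (k : W ⟶ X) [IsImmersion k] {Ω : Type u} [Field Ω]
    [IsSepClosed Ω] (ζ : Spec (CommRingCat.of Ω) ⟶ W) (F : EtCoh.Ab X) :
    IsIso ((EtCoh.stalk (ζ ≫ k)).map ((EtCoh.pullPushAdj k).unit.app F)) :=
  isIso_stalk_unit (A := AddCommGrpCat.{u + 1}) k ζ (liftsLocally_of_isImmersion k) (bcInducing_of_isImmersion k) F

theorem isIso_counit_immersion {W : Scheme.{u}} (k : W ⟶ X) [IsImmersion k] (G : EtCoh.Ab W) :
    IsIso ((EtCoh.pullPushAdj k).counit.app G) :=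
  isIso_counit_ab k (liftsLocally_of_isImmersion k) (bcInducing_of_isImmersion k) G

theorem isIso_pull_map {W : Scheme.{u}} (k : W ⟶ X) {F G : EtCoh.Ab X} (a : F ⟶ G)
    (h : ∀ (Ω : Type u) [Field Ω] [IsSepClosed Ω] (ζ : Spec (CommRingCat.of Ω) ⟶ W),
      IsIso ((EtCoh.stalk (ζ ≫ k)).map a)) : IsIso ((EtCoh.pull k).map a) := by
  have key : ∀ (Ω : Type u) [Field Ω] [IsSepClosed Ω] (ζ : Spec (CommRingCat.of Ω) ⟶ W),
      Function.Bijective ((EtCoh.stalk ζ).map ((EtCoh.pull k).map a)) := fun Ω _ _ ζ => by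
    haveI := h Ω ζ
    haveI := (NatIso.isIso_map_iff (pullStalkIso k ζ AddCommGrpCat.{u + 1}) a).2 (h Ω ζ)
    exact ConcreteCategory.bijective_of_isIso
      (((EtCoh.pull k) ⋙ EtCoh.stalk ζ).map a)
  haveI : Mono ((EtCoh.pull k).map a) := (mono_iff_ab _).2 fun Ω _ _ ζ => (key Ω ζ).1
  haveI : Epi ((EtCoh.pull k).map a) := (epi_iff_ab _).2 fun Ω _ _ ζ => (key Ω ζ).2
  exact isIso_of_mono_of_epi _

theorem range_compl_mem {W : Scheme.{u}} {Ω : Type u} [Field Ω] (k : W ⟶ X)
    (ζ : Spec (CommRingCat.of Ω) ⟶ W) : (ζ ≫ k) default ∈ Set.range k :=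
  ⟨ζ default, (Scheme.Hom.comp_apply _ _ _).symm⟩

variable (hZU : Set.range j = (Set.range i)ᶜ)

include hZU in
theorem isIso_glueUnit (F : EtCoh.Ab X) : IsIso (glueUnit i j F) := by
  have key : ∀ (Ω : Type u) [Field Ω] [IsSepClosed Ω] (ξ : Spec (CommRingCat.of Ω) ⟶ X),
      Function.Bijective ((EtCoh.stalk ξ).map (glueUnit i j F)) := by
    intro Ω _ _ ξ
    haveI : PreservesFiniteLimits (EtCoh.stalk ξ) := inferInstance
    let S := EtCoh.stalk ξ
    let T := (EtCore.recollTriple i j).obj F
    have hP := (IsPullback.of_hasPullback ((EtCoh.push i).map T.hom)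
      ((EtCoh.pullPushAdj i).unit.app ((EtCoh.push j).obj T.right))).map S
    have w : S.map ((EtCoh.pullPushAdj i).unit.app F) ≫ S.map ((EtCoh.push i).map T.hom) =
        S.map ((EtCoh.pullPushAdj j).unit.app F) ≫
          S.map ((EtCoh.pullPushAdj i).unit.app ((EtCoh.push j).obj T.right)) := by
      rw [← S.map_comp, ← S.map_comp]
      exact congrArg S.map ((EtCoh.pullPushAdj i).unit.naturality _).symm
    have hF : IsPullback (S.map ((EtCoh.pullPushAdj i).unit.app F)) (S.map ((EtCoh.pullPushAdj j).unit.app F))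
        (S.map ((EtCoh.push i).map T.hom)) (S.map ((EtCoh.pullPushAdj i).unit.app ((EtCoh.push j).obj T.right))) := by
      by_cases h : ξ default ∈ Set.range i
      · obtain ⟨ζ, rfl⟩ := exists_comp_eq_closed i ξ h
        haveI := isIso_stalk_unit_immersion i ζ F
        haveI := isIso_stalk_unit_immersion i ζ ((EtCoh.push j).obj T.right)
        exact IsPullback.of_horiz_isIso ⟨w⟩
      · obtain ⟨ζ, rfl⟩ := exists_comp_eq j ξ (by rw [hZU]; exact h)
        haveI := isIso_stalk_unit_immersion j ζ F
        haveI : IsIso (S.map ((EtCoh.push i).map T.hom)) :=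
          isIso_of_source_target_iso_zero _ (isZero_stalk_push_ab i _ i.isClosedEmbedding.isClosed_range h _).isoZero
            (isZero_stalk_push_ab i _ i.isClosedEmbedding.isClosed_range h _).isoZero
        exact IsPullback.of_vert_isIso ⟨w⟩
    have e : S.map (glueUnit i j F) = (hF.isoIsPullback _ _ hP).hom := by
      refine hP.hom_ext ?_ ?_
      · rw [← S.map_comp, glueUnit, pullback.lift_fst]
        exact (IsPullback.isoIsPullback_hom_fst _ _ hF hP).symm
      · rw [← S.map_comp, glueUnit, pullback.lift_snd]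
        exact (IsPullback.isoIsPullback_hom_snd _ _ hF hP).symm
    haveI : IsIso (S.map (glueUnit i j F)) := by rw [e]; infer_instance
    exact ConcreteCategory.bijective_of_isIso (S.map (glueUnit i j F))
  haveI : Mono (glueUnit i j F) := (mono_iff_ab _).2 fun Ω _ _ ξ => (key Ω ξ).1
  haveI : Epi (glueUnit i j F) := (epi_iff_ab _).2 fun Ω _ _ ξ => (key Ω ξ).2
  exact isIso_of_mono_of_epi _

include hZU in
theorem faithful_recollTriple : (EtCore.recollTriple i j).Faithful := ⟨fun {F G} a b h => by
  haveI := isIso_glueUnit i j hZU G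
  rw [← cancel_mono (glueUnit i j G)]
  refine pullback.hom_ext ?_ ?_
  · rw [Category.assoc, Category.assoc, glueUnit, pullback.lift_fst]
    refine ((EtCoh.pullPushAdj i).unit.naturality a).trans (Eq.trans ?_ ((EtCoh.pullPushAdj i).unit.naturality b).symm)
    exact congrArg (fun m => (EtCoh.pullPushAdj i).unit.app F ≫ (EtCoh.push i).map m) (congrArg CommaMorphism.left h)
  · rw [Category.assoc, Category.assoc, glueUnit, pullback.lift_snd]
    refine ((EtCoh.pullPushAdj j).unit.naturality a).trans (Eq.trans ?_ ((EtCoh.pullPushAdj j).unit.naturality b).symm)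
    exact congrArg (fun m => (EtCoh.pullPushAdj j).unit.app F ≫ (EtCoh.push j).map m) (congrArg CommaMorphism.right h)⟩

include hZU in
theorem full_recollTriple : (EtCore.recollTriple i j).Full := ⟨fun {F G} φ => by
  haveI := isIso_glueUnit i j hZU G
  let m : F ⟶ glueObj i j ((EtCore.recollTriple i j).obj G) :=
    pullback.lift ((EtCoh.pullPushAdj i).unit.app F ≫ (EtCoh.push i).map φ.left)
      ((EtCoh.pullPushAdj j).unit.app F ≫ (EtCoh.push j).map φ.right) (by
        rw [Category.assoc, Category.assoc, ← Functor.map_comp]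
        refine (congrArg (fun q => (EtCoh.pullPushAdj i).unit.app F ≫ (EtCoh.push i).map q) φ.w).trans ?_
        refine Eq.trans ?_ (Category.assoc _ _ _)
        change (EtCoh.pullPushAdj i).unit.app F ≫ (EtCoh.push i).map ((EtCoh.pull i).map _ ≫
          (EtCoh.pull i).map ((EtCoh.push j).map φ.right)) = _
        rw [← Functor.map_comp]
        exact ((EtCoh.pullPushAdj i).unit.naturality _).symm)
  refine ⟨m ≫ inv (glueUnit i j G), ?_⟩
  have h1 : (m ≫ inv (glueUnit i j G)) ≫ glueUnit i j G = m := by simp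
  refine CommaMorphism.ext ?_ ?_
  · refine ((EtCoh.pullPushAdj i).homEquiv _ _).injective ?_
    rw [Adjunction.homEquiv_unit, Adjunction.homEquiv_unit]
    refine ((EtCoh.pullPushAdj i).unit.naturality _).symm.trans ?_
    have h2 := congrArg (· ≫ pullback.fst _ _) h1
    simp only [m, glueUnit, Category.assoc, pullback.lift_fst] at h2
    exact (Category.assoc _ _ _).trans h2
  · refine ((EtCoh.pullPushAdj j).homEquiv _ _).injective ?_
    rw [Adjunction.homEquiv_unit, Adjunction.homEquiv_unit]
    refine ((EtCoh.pullPushAdj j).unit.naturality _).symm.trans ?_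
    have h2 := congrArg (· ≫ pullback.snd _ _) h1
    simp only [m, glueUnit, Category.assoc, pullback.lift_snd] at h2
    exact (Category.assoc _ _ _).trans h2⟩

include hZU in
theorem essSurj_recollTriple : (EtCore.recollTriple i j).EssSurj := ⟨fun T => by
  let p := pullback.fst ((EtCoh.push i).map T.hom) ((EtCoh.pullPushAdj i).unit.app ((EtCoh.push j).obj T.right))
  let q := pullback.snd ((EtCoh.push i).map T.hom) ((EtCoh.pullPushAdj i).unit.app ((EtCoh.push j).obj T.right))
  haveI : IsIso ((EtCoh.pull i).map p) := isIso_pull_map i p fun Ω _ _ ζ => by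
    haveI := isIso_stalk_unit_immersion i ζ ((EtCoh.push j).obj T.right)
    exact ((IsPullback.of_hasPullback _ _).map (EtCoh.stalk (ζ ≫ i))).isIso_fst_of_isIso
  haveI : IsIso ((EtCoh.pull j).map q) := isIso_pull_map j q fun Ω _ _ ζ => by
    have h : (ζ ≫ j) default ∉ Set.range i := by
      have := range_compl_mem j ζ
      rw [hZU] at this
      exact this
    haveI : IsIso ((EtCoh.stalk (ζ ≫ j)).map ((EtCoh.push i).map T.hom)) :=
      isIso_of_source_target_iso_zero _ (isZero_stalk_push_ab i _ i.isClosedEmbedding.isClosed_range h _).isoZero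
        (isZero_stalk_push_ab i _ i.isClosedEmbedding.isClosed_range h _).isoZero
    exact ((IsPullback.of_hasPullback _ _).map (EtCoh.stalk (ζ ≫ j))).isIso_snd_of_isIso
  haveI := isIso_counit_immersion i T.left
  haveI := isIso_counit_immersion j T.right
  refine ⟨glueObj i j T, ⟨Comma.isoMk (asIso ((EtCoh.pull i).map p ≫ (EtCoh.pullPushAdj i).counit.app T.left))
    (asIso ((EtCoh.pull j).map q ≫ (EtCoh.pullPushAdj j).counit.app T.right)) ?_⟩⟩
  refine ((EtCoh.pullPushAdj i).homEquiv _ _).injective ?_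
  have hl : ((EtCoh.pullPushAdj i).homEquiv _ _) ((EtCoh.pull i).map p ≫ (EtCoh.pullPushAdj i).counit.app T.left) = p :=
    ((Equiv.symm_apply_eq _).1 (Adjunction.homEquiv_counit (g := p) (EtCoh.pullPushAdj i))).symm
  have hr : ((EtCoh.pullPushAdj j).homEquiv _ _) ((EtCoh.pull j).map q ≫ (EtCoh.pullPushAdj j).counit.app T.right) = q :=
    ((Equiv.symm_apply_eq _).1 (Adjunction.homEquiv_counit (g := q) (EtCoh.pullPushAdj j))).symm
  refine ((EtCoh.pullPushAdj i).homEquiv_naturality_right _ _).trans ?_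
  refine (congrArg (· ≫ (EtCoh.push i).map T.hom) hl).trans ?_
  refine pullback.condition.trans ?_
  change q ≫ _ = (EtCoh.pullPushAdj i).homEquiv _ _ ((EtCoh.pull i).map ((EtCoh.pullPushAdj j).unit.app (glueObj i j T)) ≫
    (EtCoh.pull i).map ((EtCoh.push j).map ((EtCoh.pull j).map q ≫ (EtCoh.pullPushAdj j).counit.app T.right)))
  rw [← Functor.map_comp, Adjunction.homEquiv_unit]
  refine Eq.trans ?_ ((EtCoh.pullPushAdj i).unit.naturality _)
  exact congrArg (· ≫ _) (hr.symm.trans ((EtCoh.pullPushAdj j).homEquiv_unit _ _ _))⟩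

include hZU in
theorem isEquivalence_recollTriple : (EtCore.recollTriple i j).IsEquivalence := by
  haveI := faithful_recollTriple i j hZU
  haveI := full_recollTriple i j hZU
  haveI := essSurj_recollTriple i j hZU
  exact {}

end Groth.Agent.EtPtsLib
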