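import Groth.Agent.EtPtsLib.Immersion
import Groth.Agent.EtPtsLib.Recollement
import Groth.Agent.EtPtsLib.Opens
/-!
Sheaves over the subterminal sheaf of an open are the sheaves on the open.
-/

set_option autoImplicit false
set_option backward.isDefEq.respectTransparency false
set_option backward.isDefEq.respectTransparency.types false

universe u

open CategoryTheory CategoryTheory.Limits AlgebraicGeometry Opposite GrothendieckTopology

namespace Groth.Agent.EtPtsLib

variable {X : Scheme.{u}} (U : X.Opens)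

/-- The sheaf of sets of an open. -/
noncomputable abbrev openSh : EtDesc.Sh X := EtDesc.repSh (EtDesc.ofOpen U)

variable {Ω : Type u} [Field Ω] [IsSepClosed Ω] (ξ : Spec (CommRingCat.of Ω) ⟶ X)

theorem nonempty_stalk_open (h : ξ default ∈ (U : Set X)) :
    Nonempty ((Scheme.pointSmallEtale ξ).sheafFiber.obj (openSh U)) := by
  obtain ⟨s⟩ := (nonempty_repSh_iff U (op (EtDesc.ofOpen U))).2 (Scheme.Opens.range_ι U).subset
  have hr : Set.range ξ ⊆ Set.range U.ι := by
    rintro _ ⟨q, rfl⟩
    exact ⟨⟨_, h⟩, congrArg ξ (Subsingleton.elim default q)⟩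
  let l : (Scheme.pointSmallEtale ξ).fiber.obj (EtDesc.ofOpen U) := Over.homMk
    (IsOpenImmersion.lift U.ι ξ hr)
    (IsOpenImmersion.lift_fac _ _ _)
  exact ⟨(Scheme.pointSmallEtale ξ).toPresheafFiber _ l (openSh U).obj s⟩

theorem mem_of_stalk_open (a : (Scheme.pointSmallEtale ξ).sheafFiber.obj (openSh U)) :
    ξ default ∈ (U : Set X) := by
  obtain ⟨V, l, s, -⟩ := (Scheme.pointSmallEtale ξ).toPresheafFiber_jointly_surjective (P := (openSh U).obj) a
  have h := (nonempty_repSh_iff U (op V)).1 ⟨s⟩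
  exact h ⟨liftHom ξ l default, (Scheme.Hom.comp_apply _ _ _).symm.trans (congrArg (fun m => m default) (liftHom_comp ξ l))⟩

theorem mono_from_open : Mono (terminal.from (openSh U)) := (mono_from_iff _).2 (subsingleton_repSh U)

theorem hom_open_ext {G : EtDesc.Sh X} (a b : G ⟶ openSh U) : a = b :=
  haveI := mono_from_open U
  (cancel_mono (terminal.from (openSh U))).1 (Subsingleton.elim _ _)

instance mono_prod_snd (G : EtDesc.Sh X) : Mono (prod.snd : openSh U ⨯ G ⟶ G) :=
  ⟨fun a b h => Limits.prod.hom_ext (hom_open_ext U _ _) h⟩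

theorem bijective_stalk_snd (h : ξ default ∈ (U : Set X)) (G : EtDesc.Sh X) :
    Function.Bijective ((Scheme.pointSmallEtale ξ).sheafFiber.map (prod.snd : openSh U ⨯ G ⟶ G)) := by
  refine ⟨(mono_iff_sh _).1 (mono_prod_snd U G) Ω ξ, fun g => ?_⟩
  obtain ⟨a⟩ := nonempty_stalk_open U ξ h
  haveI : AB5OfSize.{u, u} (Type (u + 1)) := AB5OfSize_of_univLE.{u, u, u + 1, u + 1} _
  haveI : PreservesFiniteLimits ((Scheme.pointSmallEtale ξ).sheafFiber (A := Type (u + 1))) := inferInstance
  let S := (Scheme.pointSmallEtale ξ).sheafFiber (A := Type (u + 1))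
  have hp : IsLimit (BinaryFan.mk (S.map (prod.fst : openSh U ⨯ G ⟶ openSh U)) (S.map prod.snd)) :=
    mapIsLimitOfPreservesOfIsLimit S _ _ (prodIsProd (openSh U) G)
  exact ⟨((Types.binaryProductLimit _ _).conePointUniqueUpToIso hp).hom (a, g),
    congrArg (fun q => q (a, g))
      ((Types.binaryProductLimit (S.obj (openSh U)) (S.obj G)).conePointUniqueUpToIso_hom_comp hp ⟨WalkingPair.right⟩)⟩

theorem isIso_of_stalk_sh {F G : EtDesc.Sh X} (a : F ⟶ G)
    (h : ∀ (Ω : Type u) [Field Ω] [IsSepClosed Ω] (ξ : Spec (CommRingCat.of Ω) ⟶ X),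
      Function.Bijective ((Scheme.pointSmallEtale ξ).sheafFiber.map a)) : IsIso a := by
  haveI : Mono a := (mono_iff_sh _).2 fun Ω _ _ ξ => (h Ω ξ).1
  haveI : Epi a := (epi_iff_sh _).2 fun Ω _ _ ξ => (h Ω ξ).2
  exact isIso_of_mono_of_epi _

/-- The adjunction between sheaves over an open and sheaves on the open. -/
noncomputable def overOpenAdj :
    Over.forget (openSh U) ⋙ EtDesc.pullSh U.ι ⊣ EtDesc.pushSh U.ι ⋙ Over.star (openSh U) :=
  (Over.forgetAdjStar (openSh U)).comp (EtDesc.adjSh U.ι)

theorem isEquivalence_overOpen : (Over.forget (openSh U) ⋙ EtDesc.pullSh U.ι).IsEquivalence := by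
  have hL := liftsLocally_of_isImmersion U.ι
  have hI := bcInducing_of_isImmersion U.ι
  haveI : ∀ G, IsIso ((overOpenAdj U).counit.app G) := fun G => by
    rw [overOpenAdj, Adjunction.comp_counit_app, Over.forgetAdjStar_counit_app]
    haveI := isIso_counit_sh U.ι hL hI G
    haveI : IsIso ((EtDesc.pullSh U.ι).map
        (prod.snd : openSh U ⨯ (EtDesc.pushSh U.ι).obj G ⟶ (EtDesc.pushSh U.ι).obj G)) := by
      refine isIso_of_stalk_sh _ fun Ω _ _ ζ => ?_
      have hb := bijective_stalk_snd U (ζ ≫ U.ι) (by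
        rw [← Scheme.Opens.range_ι U]; exact ⟨_, (Scheme.Hom.comp_apply _ _ _).symm⟩) ((EtDesc.pushSh U.ι).obj G)
      haveI : IsIso ((Scheme.pointSmallEtale (ζ ≫ U.ι)).sheafFiber.map
          (prod.snd : openSh U ⨯ (EtDesc.pushSh U.ι).obj G ⟶ (EtDesc.pushSh U.ι).obj G)) :=
        (isIso_iff_bijective _).2 hb
      haveI := (NatIso.isIso_map_iff (pullStalkIso U.ι ζ (Type (u + 1)))
        (prod.snd : openSh U ⨯ (EtDesc.pushSh U.ι).obj G ⟶ (EtDesc.pushSh U.ι).obj G)).2 inferInstance
      exact (isIso_iff_bijective _).1 ‹_›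
    infer_instance
  haveI : ∀ F, IsIso ((overOpenAdj U).unit.app F) := fun F => by
    haveI : IsIso ((Over.forget (openSh U)).map ((overOpenAdj U).unit.app F)) := by
      refine isIso_of_stalk_sh _ fun Ω _ _ ξ => ?_
      let b := (Over.forget (openSh U)).map ((overOpenAdj U).unit.app F)
      have hb : b ≫ prod.snd = (EtDesc.adjSh U.ι).unit.app F.left := by
        change (Over.forget (openSh U)).map ((overOpenAdj U).unit.app F) ≫ prod.snd = _
        rw [overOpenAdj, Adjunction.comp_unit_app, Functor.map_comp, ← Over.forgetAdjStar_counit_app, Category.assoc]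
        refine (congrArg (_ ≫ ·) ((Over.forgetAdjStar (openSh U)).counit.naturality _)).trans ?_
        refine (Category.assoc _ _ _).symm.trans ?_
        refine (congrArg (· ≫ (EtDesc.adjSh U.ι).unit.app F.left) ((Over.forgetAdjStar (openSh U)).left_triangle_components F)).trans ?_
        exact Category.id_comp _
      by_cases h : ξ default ∈ (U : Set X)
      · obtain ⟨ζ, hζ⟩ := exists_comp_eq U.ι ξ (by rw [Scheme.Opens.range_ι]; exact h)
        have hb1 := bijective_stalk_snd U ξ h ((EtDesc.pushSh U.ι).obj ((EtDesc.pullSh U.ι).obj F.left))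
        have hb2 : Function.Bijective ((Scheme.pointSmallEtale ξ).sheafFiber.map ((EtDesc.adjSh U.ι).unit.app F.left)) := by
          rw [← hζ]
          haveI := isIso_stalk_unit (A := Type (u + 1)) U.ι ζ hL hI F.left
          exact ConcreteCategory.bijective_of_isIso ((Scheme.pointSmallEtale (ζ ≫ U.ι)).sheafFiber.map ((EtDesc.adjSh U.ι).unit.app F.left))
        rw [← hb, Functor.map_comp] at hb2
        exact (Function.Bijective.of_comp_iff' hb1 _).1 hb2
      · refine ⟨fun a _ _ => absurd (mem_of_stalk_open U ξ ((Scheme.pointSmallEtale ξ).sheafFiber.map F.hom a)) h,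
          fun c => absurd (mem_of_stalk_open U ξ ((ConcreteCategory.hom ((Scheme.pointSmallEtale ξ).sheafFiber.map
          (prod.fst : openSh U ⨯ (EtDesc.pushSh U.ι).obj ((EtDesc.pullSh U.ι).obj F.left) ⟶ openSh U))) c)) h⟩
    exact isIso_of_reflects_iso _ (Over.forget (openSh U))
  haveI : IsIso (overOpenAdj U).unit := NatIso.isIso_of_isIso_app _
  haveI : IsIso (overOpenAdj U).counit := NatIso.isIso_of_isIso_app _
  exact (overOpenAdj U).toEquivalence.isEquivalence_functor

end Groth.Agent.EtPtsLib
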