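import Groth.Agent.EtPtsLib.FibreSep
import Groth.Agent.EtPtsLib.Conditions
/-!
Stalks of direct images along integral morphisms: families of germs over the geometric fibre.
-/

set_option autoImplicit false
set_option backward.isDefEq.respectTransparency false
set_option backward.isDefEq.respectTransparency.types false

universe u w v₁ u₁

open CategoryTheory CategoryTheory.Limits AlgebraicGeometry Opposite

namespace Groth.Agent.EtPtsLib

variable {X Y : Scheme.{u}} (f : X ⟶ Y) {Ω : Type u} [Field Ω] [IsAlgClosed Ω]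
  (ξ : Spec (CommRingCat.of Ω) ⟶ Y)

/-- The point of a lift in the geometric fibre. -/
noncomputable def gptPoint (ζ : EtaleSplit.GPts f ξ) : ↥(pullback f ξ) :=
  EtaleSplit.pt (pullback.lift ζ.1 (𝟙 _) (by rw [ζ.2, Category.id_comp]))

theorem exists_gpt_point [IsIntegralHom f] (p : ↥(pullback f ξ)) :
    ∃ ζ : EtaleSplit.GPts f ξ, gptPoint f ξ ζ = p := by
  obtain ⟨σ, hσ, hp⟩ := exists_section_at (pullback.snd f ξ) p
  refine ⟨⟨σ ≫ pullback.fst f ξ, by rw [Category.assoc, pullback.condition, reassoc_of% hσ]⟩, ?_⟩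
  rw [gptPoint, ← hp]
  congr 1
  apply pullback.hom_ext <;> simp [hσ]

/-- A lift of `ξ` and a lift of `ξ` to `U` give a lift to the base change. -/
noncomputable def liftBcAt (ζ : EtaleSplit.GPts f ξ) (U : Y.Etale) (l : (Scheme.pointSmallEtale ξ).fiber.obj U) :
    (Scheme.pointSmallEtale ζ.1).fiber.obj ((EtCoh.bc f).obj U) :=
  Over.homMk (pullback.lift (liftHom ξ l) ζ.1 ((liftHom_comp ξ l).trans ζ.2.symm)) (pullback.lift_snd _ _ _)

theorem liftHom_liftBcAt_fst (ζ : EtaleSplit.GPts f ξ) (U : Y.Etale) (l : (Scheme.pointSmallEtale ξ).fiber.obj U) :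
    liftHom ζ.1 (liftBcAt f ξ ζ U l) ≫ bcFst f U = liftHom ξ l :=
  pullback.lift_fst _ _ _

theorem liftBcAt_map (ζ : EtaleSplit.GPts f ξ) {U U' : Y.Etale} (g : U ⟶ U')
    (l : (Scheme.pointSmallEtale ξ).fiber.obj U) :
    (Scheme.pointSmallEtale ζ.1).fiber.map ((EtCoh.bc f).map g) (liftBcAt f ξ ζ U l) =
      liftBcAt f ξ ζ U' ((Scheme.pointSmallEtale ξ).fiber.map g l) := by
  refine fiber_bc_ext f ζ.1 ?_
  rw [liftHom_map, Category.assoc, bcFst_map, ← Category.assoc, liftHom_liftBcAt_fst, liftHom_liftBcAt_fst,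
    liftHom_map]

/-- The map of the geometric fibre to a base change. -/
noncomputable def fibreMap (U : Y.Etale) (l : (Scheme.pointSmallEtale ξ).fiber.obj U) :
    pullback f ξ ⟶ ((EtCoh.bc f).obj U).left :=
  pullback.lift (pullback.snd f ξ ≫ liftHom ξ l) (pullback.fst f ξ)
    (by rw [Category.assoc, liftHom_comp, pullback.condition])

theorem fibreMap_map {U U' : Y.Etale} (g : U ⟶ U') (l : (Scheme.pointSmallEtale ξ).fiber.obj U) :
    fibreMap f ξ U l ≫ ((EtCoh.bc f).map g).left = fibreMap f ξ U' ((Scheme.pointSmallEtale ξ).fiber.map g l) := by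
  refine pullback.hom_ext ?_ ?_
  · refine (Category.assoc _ _ _).trans ((congrArg (fibreMap f ξ U l ≫ ·) (bcFst_map f g)).trans ?_)
    simp [fibreMap, bcFst, liftHom_map]
  · refine (Category.assoc _ _ _).trans ((congrArg (fibreMap f ξ U l ≫ ·)
      (MorphismProperty.Over.w ((EtCoh.bc f).map g))).trans ?_)
    exact (pullback.lift_snd _ _ _).trans (pullback.lift_snd _ _ _).symm

theorem fibreMap_gptPoint (ζ : EtaleSplit.GPts f ξ) (U : Y.Etale) (l : (Scheme.pointSmallEtale ξ).fiber.obj U) :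
    fibreMap f ξ U l (gptPoint f ξ ζ) = liftHom ζ.1 (liftBcAt f ξ ζ U l) default := by
  have e : pullback.lift ζ.1 (𝟙 _) (by rw [ζ.2, Category.id_comp]) ≫ fibreMap f ξ U l =
      liftHom ζ.1 (liftBcAt f ξ ζ U l) := by
    refine pullback.hom_ext ?_ ?_
    · refine Eq.trans ?_ (liftHom_liftBcAt_fst f ξ ζ U l).symm
      simp [fibreMap]
      exact Category.id_comp _
    · refine Eq.trans ?_ (liftHom_comp ζ.1 (liftBcAt f ξ ζ U l)).symm
      simp [fibreMap]
  rw [gptPoint, EtaleSplit.pt, ← Scheme.Hom.comp_apply, e]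
  exact congrArg _ (Subsingleton.elim _ _)

theorem mem_range_fibreMap (U : Y.Etale) (l : (Scheme.pointSmallEtale ξ).fiber.obj U)
    (z : ((EtCoh.bc f).obj U).left) (hz : bcFst f U z = liftHom ξ l default) :
    z ∈ Set.range (fibreMap f ξ U l) := by
  have sq : IsPullback (fibreMap f ξ U l) (pullback.snd f ξ) (bcFst f U) (liftHom ξ l) := by
    refine IsPullback.of_right (h₁₂ := pullback.snd U.hom f) (v₁₃ := f) (h₂₂ := U.hom) ?_ (by simp [fibreMap, bcFst])
      (IsPullback.of_hasPullback U.hom f).flip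
    have h1 : fibreMap f ξ U l ≫ pullback.snd U.hom f = pullback.fst f ξ := pullback.lift_snd _ _ _
    rw [h1, liftHom_comp]
    exact IsPullback.of_hasPullback f ξ
  obtain ⟨p, hp, -⟩ := Scheme.Pullback.exists_preimage_pullback (f := bcFst f U) (g := liftHom ξ l) z default hz
  exact ⟨sq.isoPullback.inv p, by rw [← Scheme.Hom.comp_apply, sq.isoPullback_inv_fst]; exact hp⟩

/-- A refinement of finitely many neighbourhoods of a geometric point. -/
theorem exists_refine_nbhd {ι : Type*} [Finite ι] (U : ι → Y.Etale)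
    (l : ∀ i, (Scheme.pointSmallEtale ξ).fiber.obj (U i)) :
    ∃ (S : Y.Etale) (lS : (Scheme.pointSmallEtale ξ).fiber.obj S) (k : ∀ i, S ⟶ U i),
      ∀ i, (Scheme.pointSmallEtale ξ).fiber.map (k i) lS = l i := by
  classical
  haveI := Fintype.ofFinite ι
  obtain ⟨⟨S, lS⟩, hS⟩ := IsCofiltered.inf_objs_exists
    (C := (Scheme.pointSmallEtale ξ).fiber.Elements) (Finset.univ.image fun i => (Scheme.pointSmallEtale ξ).fiber.elementsMk (U i) (l i))
  have : ∀ i, Nonempty ((Scheme.pointSmallEtale ξ).fiber.elementsMk S lS ⟶ (Scheme.pointSmallEtale ξ).fiber.elementsMk (U i) (l i)) := fun i =>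
    hS (Finset.mem_image.2 ⟨i, Finset.mem_univ _, rfl⟩)
  exact ⟨S, lS, fun i => (this i).some.1, fun i => (this i).some.2⟩

variable [IsIntegralHom f]

/-- An open of the geometric fibre contains traces of clopens of base changes around each of its points. -/
theorem exists_clopen_sub (U₀ : Y.Etale) (l₀ : (Scheme.pointSmallEtale ξ).fiber.obj U₀)
    (W₀ : ((EtCoh.bc f).obj U₀).left.Opens) (hW₀ : IsClosed (W₀ : Set ((EtCoh.bc f).obj U₀).left))
    (O : Set ↥(pullback f ξ)) (hO : IsOpen O) (p : ↥(pullback f ξ)) (hp : p ∈ O)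
    (hpW : fibreMap f ξ U₀ l₀ p ∈ W₀) :
    ∃ (S : Y.Etale) (lS : (Scheme.pointSmallEtale ξ).fiber.obj S) (k : S ⟶ U₀)
      (W : ((EtCoh.bc f).obj S).left.Opens), (Scheme.pointSmallEtale ξ).fiber.map k lS = l₀ ∧
      IsClosed (W : Set ((EtCoh.bc f).obj S).left) ∧ W ≤ ((EtCoh.bc f).map k).left ⁻¹ᵁ W₀ ∧
      fibreMap f ξ S lS p ∈ W ∧ ∀ q, fibreMap f ξ S lS q ∈ W → q ∈ O := by
  haveI : CompactSpace ↥(pullback f ξ) := QuasiCompact.compactSpace_of_compactSpace (pullback.snd f ξ)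
  obtain ⟨ζ₀, hζ₀⟩ := exists_gpt_point f ξ p
  have key : ∀ q : {q : ↥(pullback f ξ) // q ∉ O}, ∃ (U : Y.Etale) (l : (Scheme.pointSmallEtale ξ).fiber.obj U)
      (W : ((EtCoh.bc f).obj U).left.Opens), IsClosed (W : Set ((EtCoh.bc f).obj U).left) ∧
      fibreMap f ξ U l p ∈ W ∧ fibreMap f ξ U l q.1 ∉ W := by
    rintro ⟨q, hq⟩
    obtain ⟨ζ₁, hζ₁⟩ := exists_gpt_point f ξ q
    obtain ⟨T, gT, qT, hqT, W, hgT, hW, h0, h1⟩ := exists_sep f ξ ζ₀ ζ₁ (fun h => hq (by rw [← hζ₁, ← h, hζ₀]; exact hp))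
    haveI := hgT
    let U : Y.Etale := Scheme.Etale.mk gT
    let l : (Scheme.pointSmallEtale ξ).fiber.obj U := Over.homMk qT hqT
    have e : ∀ ζ : EtaleSplit.GPts f ξ, (swapHom f gT).hom (fibreMap f ξ U l (gptPoint f ξ ζ)) =
        EtaleSplit.pt (pullback.lift ζ.1 qT (ζ.2.trans hqT.symm)) := by
      intro ζ
      have e1 : pullback.lift ζ.1 (𝟙 _) (by rw [ζ.2, Category.id_comp]) ≫ fibreMap f ξ U l ≫ (swapHom f gT).hom =
          pullback.lift ζ.1 qT (ζ.2.trans hqT.symm) := by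
        apply pullback.hom_ext
        · simp only [Category.assoc, swapHom, pullbackSymmetry_hom_comp_fst, pullback.lift_fst]
          rw [fibreMap]
          erw [pullback.lift_snd]
          simp
        · simp only [Category.assoc, swapHom, pullbackSymmetry_hom_comp_snd, pullback.lift_snd]
          rw [fibreMap]
          erw [pullback.lift_fst, pullback.lift_snd_assoc, Category.id_comp]
          rfl
      rw [gptPoint, ← EtaleSplit.pt_comp, ← EtaleSplit.pt_comp, Category.assoc, e1]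
    refine ⟨U, l, (swapHom f gT).hom ⁻¹ᵁ W, hW.preimage (swapHom f gT).hom.continuous, ?_, ?_⟩
    · change (swapHom f gT).hom (fibreMap f ξ U l p) ∈ W
      rw [← hζ₀, e]; exact h0
    · intro h
      refine h1 ?_
      rw [← e, hζ₁]; exact h
  choose U l W hW hpU hqU using key
  obtain ⟨t, ht⟩ := hO.isClosed_compl.isCompact.elim_finite_subcover
    (fun q : {q : ↥(pullback f ξ) // q ∉ O} => fibreMap f ξ (U q) (l q) ⁻¹' (W q : Set ((EtCoh.bc f).obj (U q)).left)ᶜ)
    (fun q => ((hW q).isOpen_compl).preimage (fibreMap f ξ (U q) (l q)).continuous)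
    (fun q hq => Set.mem_iUnion.2 ⟨⟨q, hq⟩, hqU ⟨q, hq⟩⟩)
  obtain ⟨S, lS, k, hk⟩ := exists_refine_nbhd ξ (ι := Option t)
    (fun o => o.elim U₀ fun q => U q.1) (fun o => match o with | none => l₀ | some q => l q.1)
  let W' : ((EtCoh.bc f).obj S).left.Opens :=
    ⟨((EtCoh.bc f).map (k none)).left ⁻¹' W₀.carrier ∩ ⋂ q : t, ((EtCoh.bc f).map (k (some q))).left ⁻¹' (W q.1).carrier,
      (W₀.2.preimage ((EtCoh.bc f).map (k none)).left.continuous).inter
        (isOpen_iInter_of_finite fun q => (W q.1).2.preimage ((EtCoh.bc f).map (k (some q))).left.continuous)⟩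
  have hm : ∀ (o : Option t) z, ((EtCoh.bc f).map (k o)).left (fibreMap f ξ S lS z) =
      fibreMap f ξ _ ((Scheme.pointSmallEtale ξ).fiber.map (k o) lS) z := fun o z => by
    rw [← Scheme.Hom.comp_apply, fibreMap_map]
  refine ⟨S, lS, k none, W', hk none, ?_, fun z hz => hz.1, ⟨?_, Set.mem_iInter.2 fun q => ?_⟩, fun z hz => ?_⟩
  · exact (hW₀.preimage ((EtCoh.bc f).map (k none)).left.continuous).inter
      (isClosed_iInter fun q => (hW q.1).preimage ((EtCoh.bc f).map (k (some q))).left.continuous)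
  · change ((EtCoh.bc f).map (k none)).left (fibreMap f ξ S lS p) ∈ W₀
    rw [hm, hk none]; exact hpW
  · change ((EtCoh.bc f).map (k (some q))).left (fibreMap f ξ S lS p) ∈ W q.1
    rw [hm, hk (some q)]; exact hpU _
  · by_contra hzO
    obtain ⟨q, hq, hzq⟩ := Set.mem_iUnion₂.1 (ht hzO)
    refine hzq ?_
    have := Set.mem_iInter.1 hz.2 ⟨q, hq⟩
    change ((EtCoh.bc f).map (k (some (⟨q, hq⟩ : t)))).left (fibreMap f ξ S lS z) ∈ W q at this
    rwa [hm, hk (some (⟨q, hq⟩ : t))] at this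

variable {A : Type u₁} [Category.{v₁} A] [HasColimitsOfSize.{u, u} A]
  {FC : A → A → Type*} {CC : A → Type w}
  [∀ (a b : A), FunLike (FC a b) (CC a) (CC b)] [ConcreteCategory.{w} A FC]
  [PreservesFilteredColimitsOfSize.{u, u} (forget A)]

omit [IsIntegralHom f] in
/-- The map of the stalk of a direct image to the stalk at a point of the fibre. -/
noncomputable def pushStalkAt (ζ : EtaleSplit.GPts f ξ) (P : X.Etaleᵒᵖ ⥤ A) :
    (Scheme.pointSmallEtale ξ).presheafFiber.obj ((EtCoh.bc f).op ⋙ P) ⟶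
      (Scheme.pointSmallEtale ζ.1).presheafFiber.obj P :=
  (Scheme.pointSmallEtale ξ).presheafFiberDesc
    (fun U l => (Scheme.pointSmallEtale ζ.1).toPresheafFiber _ (liftBcAt f ξ ζ U l) P) fun U U' g l => by
      simp only [Functor.comp_map, Functor.op_map, Quiver.Hom.unop_op]
      rw [(Scheme.pointSmallEtale ζ.1).toPresheafFiber_w, liftBcAt_map]

omit [IsIntegralHom f] [PreservesFilteredColimitsOfSize.{u, u} (forget A)] in
theorem toPresheafFiber_pushStalkAt (ζ : EtaleSplit.GPts f ξ) (P : X.Etaleᵒᵖ ⥤ A) (U : Y.Etale)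
    (l : (Scheme.pointSmallEtale ξ).fiber.obj U) :
    (Scheme.pointSmallEtale ξ).toPresheafFiber U l ((EtCoh.bc f).op ⋙ P) ≫ pushStalkAt f ξ ζ P =
      (Scheme.pointSmallEtale ζ.1).toPresheafFiber _ (liftBcAt f ξ ζ U l) P :=
  (Scheme.pointSmallEtale ξ).toPresheafFiber_presheafFiberDesc _ _ _ _

omit [IsIntegralHom f] [PreservesFilteredColimitsOfSize.{u, u} (forget A)] in
theorem pushStalkAt_germ (ζ : EtaleSplit.GPts f ξ) (P : X.Etaleᵒᵖ ⥤ A) (U : Y.Etale)
    (l : (Scheme.pointSmallEtale ξ).fiber.obj U) (s : ToType (P.obj (op ((EtCoh.bc f).obj U)))) :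
    pushStalkAt f ξ ζ P ((Scheme.pointSmallEtale ξ).toPresheafFiber U l ((EtCoh.bc f).op ⋙ P) s) =
      (Scheme.pointSmallEtale ζ.1).toPresheafFiber _ (liftBcAt f ξ ζ U l) P s := by
  rw [← ConcreteCategory.comp_apply, toPresheafFiber_pushStalkAt]

variable (P : X.Etaleᵒᵖ ⥤ A) (hP : Presieve.IsSheaf X.smallEtaleTopology (P ⋙ forget A))

include hP in
/-- Elements of the stalk of a direct image are detected on the geometric fibre. -/
theorem stalk_ext {a b : ToType ((Scheme.pointSmallEtale ξ).presheafFiber.obj ((EtCoh.bc f).op ⋙ P))}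
    (h : ∀ ζ, pushStalkAt f ξ ζ P a = pushStalkAt f ξ ζ P b) : a = b := by
  obtain ⟨U, l, s, t, rfl, rfl⟩ := (Scheme.pointSmallEtale ξ).toPresheafFiber_jointly_surjective₂ a b
  let B := (EtCoh.bc f).obj U
  let Ag : Set B.left := ⋃ (W : X.Etale) (g : W ⟶ B) (_ : P.map g.op s = P.map g.op t), Set.range g.left
  have hAg : IsOpen Ag := isOpen_iUnion fun W => isOpen_iUnion fun g => isOpen_iUnion fun _ => by
    haveI := etale_left g
    exact g.left.isOpenMap.isOpen_range
  have hfib : ∀ p, fibreMap f ξ U l p ∈ Ag := fun p => by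
    obtain ⟨ζ, rfl⟩ := exists_gpt_point f ξ p
    have hζ := h ζ
    rw [pushStalkAt_germ, pushStalkAt_germ] at hζ
    obtain ⟨W, g, y, hy, hst⟩ := ((Scheme.pointSmallEtale ζ.1).toPresheafFiber_eq_iff' _ _ s t).1 hζ
    refine Set.mem_iUnion.2 ⟨W, Set.mem_iUnion.2 ⟨g, Set.mem_iUnion.2 ⟨hst, liftHom ζ.1 y default, ?_⟩⟩⟩
    rw [fibreMap_gptPoint, ← hy]
    exact (Scheme.Hom.comp_apply _ _ _).symm
  haveI : UniversallyClosed f := inferInstance
  haveI : UniversallyClosed (pullback.fst U.hom f) := inferInstance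
  let O : U.left.Opens := ⟨(bcFst f U '' Agᶜ)ᶜ, ((pullback.fst U.hom f).isClosedMap _ hAg.isClosed_compl).isOpen_compl⟩
  have hl : liftHom ξ l default ∈ O := by
    rintro ⟨z, hz, hzl⟩
    obtain ⟨p, rfl⟩ := mem_range_fibreMap f ξ U l z hzl
    exact hz (hfib p)
  obtain ⟨lO, hlO⟩ := exists_fiber_map_eq ξ (openIncl U O) l (⟨_, hl⟩ : O.toScheme) rfl
  refine ((Scheme.pointSmallEtale ξ).toPresheafFiber_eq_iff' U l s t).2 ⟨_, openIncl U O, lO, hlO, ?_⟩
  let P' : Sheaf X.smallEtaleTopology (Type w) := ⟨P ⋙ forget A, (isSheaf_iff_isSheaf_of_type _ _).2 hP⟩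
  refine sect_eq_of_cover P' ((EtCoh.bc f).obj (openSub U O)) _ _ fun z => ?_
  let o := (EtCoh.bc f).map (openIncl U O)
  have hz : o.left z ∈ Ag := by
    by_contra hn
    have e : bcFst f U (o.left z) = O.ι (bcFst f (openSub U O) z) :=
      congrArg (fun m => m z) (bcFst_map f (openIncl U O))
    exact (bcFst f (openSub U O) z : O.toScheme).2 ⟨_, hn, e⟩
  obtain ⟨W, hW⟩ := Set.mem_iUnion.1 hz
  obtain ⟨g, hg⟩ := Set.mem_iUnion.1 hW
  obtain ⟨hst, v, hv⟩ := Set.mem_iUnion.1 hg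
  haveI : IsOpenImmersion o.left :=
    MorphismProperty.of_isPullback (EtCoh.isPullback_bc_map f (openIncl U O)).flip (inferInstance : IsOpenImmersion O.ι)
  let W' : W.left.Opens := g.left ⁻¹ᵁ o.left.opensRange
  have hr : Set.range (W'.ι ≫ g.left) ⊆ Set.range o.left := by
    rintro _ ⟨w, rfl⟩
    exact w.2
  let c : openSub W W' ⟶ (EtCoh.bc f).obj (openSub U O) := MorphismProperty.Over.homMk
    (IsOpenImmersion.lift o.left (W'.ι ≫ g.left) hr) (by
      rw [← MorphismProperty.Over.w o, IsOpenImmersion.lift_fac_assoc, Category.assoc, MorphismProperty.Over.w g]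
      rfl)
  have hc : c ≫ o = openIncl W W' ≫ g := MorphismProperty.Over.Hom.ext (IsOpenImmersion.lift_fac _ _ _)
  refine ⟨_, c, (⟨v, ⟨z, hv.symm⟩⟩ : W'.toScheme), ?_, ?_⟩
  · refine o.left.isOpenEmbedding.injective ?_
    change o.left (IsOpenImmersion.lift o.left (W'.ι ≫ g.left) hr _) = _
    rw [← Scheme.Hom.comp_apply, IsOpenImmersion.lift_fac]
    exact hv
  · change P.map c.op (P.map o.op s) = P.map c.op (P.map o.op t)
    simp only [← ConcreteCategory.comp_apply, ← Functor.map_comp, ← op_comp, hc]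
    simp only [op_comp, Functor.map_comp, ConcreteCategory.comp_apply]
    rw [hst]

include hP in
/-- Families of germs on the geometric fibre given locally by sections come from the stalk of the direct
image. -/
theorem stalk_exists (a : ∀ ζ : EtaleSplit.GPts f ξ, ToType ((Scheme.pointSmallEtale ζ.1).presheafFiber.obj P))
    (h : ∀ p : ↥(pullback f ξ), ∃ (U : Y.Etale) (l : (Scheme.pointSmallEtale ξ).fiber.obj U)
      (W : ((EtCoh.bc f).obj U).left.Opens) (s : ToType (P.obj (op (openSub ((EtCoh.bc f).obj U) W))))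
      (O : Set ↥(pullback f ξ)), IsClosed (W : Set ((EtCoh.bc f).obj U).left) ∧ IsOpen O ∧ p ∈ O ∧
        fibreMap f ξ U l p ∈ W ∧
        ∀ ζ, gptPoint f ξ ζ ∈ O → ∀ y : (Scheme.pointSmallEtale ζ.1).fiber.obj (openSub ((EtCoh.bc f).obj U) W),
          (Scheme.pointSmallEtale ζ.1).fiber.map (openIncl _ W) y = liftBcAt f ξ ζ U l →
            (Scheme.pointSmallEtale ζ.1).toPresheafFiber _ y P s = a ζ) :
    ∃ b, ∀ ζ, pushStalkAt f ξ ζ P b = a ζ := by
  classical
  haveI : CompactSpace ↥(pullback f ξ) := QuasiCompact.compactSpace_of_compactSpace (pullback.snd f ξ)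
  -- shrink the parts into the opens
  have key : ∀ p : ↥(pullback f ξ), ∃ (U : Y.Etale) (l : (Scheme.pointSmallEtale ξ).fiber.obj U)
      (W : ((EtCoh.bc f).obj U).left.Opens) (s : ToType (P.obj (op (openSub ((EtCoh.bc f).obj U) W)))),
      IsClosed (W : Set ((EtCoh.bc f).obj U).left) ∧ fibreMap f ξ U l p ∈ W ∧
        ∀ ζ, ∀ y : (Scheme.pointSmallEtale ζ.1).fiber.obj (openSub ((EtCoh.bc f).obj U) W),
          (Scheme.pointSmallEtale ζ.1).fiber.map (openIncl _ W) y = liftBcAt f ξ ζ U l →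
            (Scheme.pointSmallEtale ζ.1).toPresheafFiber _ y P s = a ζ := by
    intro p
    obtain ⟨U, l, W, s, O, hW, hO, hpO, hpW, hs⟩ := h p
    obtain ⟨S, lS, k, W', hk, hW', hle, hpW', hsub⟩ := exists_clopen_sub f ξ U l W hW O hO p hpO hpW
    let c : openSub ((EtCoh.bc f).obj S) W' ⟶ openSub ((EtCoh.bc f).obj U) W := MorphismProperty.Over.homMk
      (IsOpenImmersion.lift W.ι (W'.ι ≫ ((EtCoh.bc f).map k).left) (by
        rintro _ ⟨z, rfl⟩
        exact ⟨⟨_, hle z.2⟩, rfl⟩)) (by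
      change _ ≫ W.ι ≫ _ = _
      rw [IsOpenImmersion.lift_fac_assoc, Category.assoc, MorphismProperty.Over.w ((EtCoh.bc f).map k)]
      rfl)
    have hc : c ≫ openIncl _ W = openIncl _ W' ≫ (EtCoh.bc f).map k :=
      MorphismProperty.Over.Hom.ext (IsOpenImmersion.lift_fac _ _ _)
    refine ⟨S, lS, W', P.map c.op s, hW', hpW', fun ζ y hy => ?_⟩
    rw [(Scheme.pointSmallEtale ζ.1).toPresheafFiber_w_apply c y P s]
    refine hs ζ (hsub _ ?_) _ ?_
    · rw [fibreMap_gptPoint, ← hy]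
      change (liftHom ζ.1 y ≫ W'.ι) default ∈ W'
      rw [Scheme.Hom.comp_apply]
      exact Subtype.coe_prop _
    · rw [← ConcreteCategory.comp_apply, ← Functor.map_comp, hc, Functor.map_comp, ConcreteCategory.comp_apply,
        hy, liftBcAt_map, hk]
  choose U l W s hW hpW hs using key
  obtain ⟨t, ht⟩ := isCompact_univ.elim_finite_subcover
    (fun p => fibreMap f ξ (U p) (l p) ⁻¹' (W p : Set ((EtCoh.bc f).obj (U p)).left))
    (fun p => (W p).2.preimage (fibreMap f ξ (U p) (l p)).continuous)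
    (fun p _ => Set.mem_iUnion.2 ⟨p, hpW p⟩)
  obtain ⟨S, lS, k, hk⟩ := exists_refine_nbhd ξ (ι := t) (fun p => U p.1) (fun p => l p.1)
  let m := fun p : t => ((EtCoh.bc f).map (k p)).left
  let B := (EtCoh.bc f).obj S
  let cov : Set B.left := ⋃ p : t, m p ⁻¹' (W p.1 : Set _)
  have hcov : IsOpen cov := isOpen_iUnion fun p => (W p.1).2.preimage (m p).continuous
  haveI : UniversallyClosed (pullback.fst S.hom f) := inferInstance
  let O : S.left.Opens := ⟨(bcFst f S '' covᶜ)ᶜ, ((pullback.fst S.hom f).isClosedMap _ hcov.isClosed_compl).isOpen_compl⟩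
  have hl : liftHom ξ lS default ∈ O := by
    rintro ⟨z, hz, hzl⟩
    obtain ⟨q, rfl⟩ := mem_range_fibreMap f ξ S lS z hzl
    obtain ⟨p, hp, hpq⟩ := Set.mem_iUnion₂.1 (ht (Set.mem_univ q))
    refine hz (Set.mem_iUnion.2 ⟨⟨p, hp⟩, ?_⟩)
    change ((EtCoh.bc f).map (k ⟨p, hp⟩)).left (fibreMap f ξ S lS q) ∈ W p
    rw [← Scheme.Hom.comp_apply, fibreMap_map, hk]
    exact hpq
  obtain ⟨lT, hlT⟩ := exists_fiber_map_eq ξ (openIncl S O) lS (⟨_, hl⟩ : O.toScheme) rfl
  let T := openSub S O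
  let e : Fin t.card ≃ t := t.equivFin.symm
  let kT : ∀ i : ULift.{u} (Fin t.card), T ⟶ U (e i.down).1 := fun i => openIncl S O ≫ k (e i.down)
  let Ai : ULift.{u} (Fin t.card) → ((EtCoh.bc f).obj T).left.Opens := fun i =>
    ((EtCoh.bc f).map (kT i)).left ⁻¹ᵁ W (e i.down).1
  obtain ⟨W', hd, hle, hW'⟩ := exists_disjointify Ai fun i => (hW _).preimage ((EtCoh.bc f).map (kT i)).left.continuous
  let c : ∀ i, openSub ((EtCoh.bc f).obj T) (W' i) ⟶ openSub ((EtCoh.bc f).obj (U (e i.down).1)) (W (e i.down).1) := fun i =>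
    MorphismProperty.Over.homMk
      (IsOpenImmersion.lift (W _).ι (Scheme.Opens.ι (W' i) ≫ ((EtCoh.bc f).map (kT i)).left) (by
        rintro _ ⟨z, rfl⟩
        exact ⟨⟨_, hle i z.2⟩, rfl⟩)) (by
      change _ ≫ (W _).ι ≫ _ = _
      rw [IsOpenImmersion.lift_fac_assoc, Category.assoc, MorphismProperty.Over.w ((EtCoh.bc f).map (kT i))]
      rfl)
  let P' : Sheaf X.smallEtaleTopology (Type w) := ⟨P ⋙ forget A, (isSheaf_iff_isSheaf_of_type _ _).2 hP⟩
  have hcovT : ∀ z, ∃ i, z ∈ W' i := fun z => by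
    have hz : ((EtCoh.bc f).map (openIncl S O)).left z ∈ cov := by
      by_contra hn
      have e : bcFst f S (((EtCoh.bc f).map (openIncl S O)).left z) = O.ι (bcFst f T z) :=
        congrArg (fun q => q z) (bcFst_map f (openIncl S O))
      exact (bcFst f T z : O.toScheme).2 ⟨_, hn, e⟩
    obtain ⟨p, hp⟩ := Set.mem_iUnion.1 hz
    refine hW' z ⟨e.symm p⟩ ?_
    change ((EtCoh.bc f).map (openIncl S O ≫ k (e (e.symm p)))).left z ∈ W (e (e.symm p)).1
    rw [e.apply_symm_apply, Functor.map_comp]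
    exact hp
  obtain ⟨b, hb⟩ := exists_glue P' _ W' hd hcovT fun i => P.map (c i).op (s (e i.down).1)
  refine ⟨(Scheme.pointSmallEtale ξ).toPresheafFiber T lT ((EtCoh.bc f).op ⋙ P) b, fun ζ => ?_⟩
  rw [pushStalkAt_germ]
  obtain ⟨i, hi⟩ := hcovT (liftHom ζ.1 (liftBcAt f ξ ζ T lT) default)
  obtain ⟨y, hy⟩ := exists_fiber_map_eq ζ.1 (openIncl _ (W' i)) (liftBcAt f ξ ζ T lT)
    (⟨_, hi⟩ : Scheme.Opens.toScheme (W' i)) rfl
  rw [← hy, ← (Scheme.pointSmallEtale ζ.1).toPresheafFiber_w_apply]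
  have hb' : P.map (openIncl _ (W' i)).op b = P.map (c i).op (s (e i.down).1) := hb i
  rw [hb', (Scheme.pointSmallEtale ζ.1).toPresheafFiber_w_apply (c i) y P (s (e i.down).1)]
  refine hs _ ζ _ ?_
  rw [← ConcreteCategory.comp_apply, ← Functor.map_comp,
    show c i ≫ openIncl _ (W (e i.down).1) = openIncl _ (W' i) ≫ (EtCoh.bc f).map (kT i) from
      MorphismProperty.Over.Hom.ext (IsOpenImmersion.lift_fac _ _ _),
    Functor.map_comp, ConcreteCategory.comp_apply, hy, liftBcAt_map]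
  congr 1
  rw [Functor.map_comp, ConcreteCategory.comp_apply, hlT, hk]

end Groth.Agent.EtPtsLib
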