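import Groth.Agent.EtPtsLib.PushStalk
import Groth.Agent.SitePts.Comap
/-!
Stalks of inverse images and of the counit of inverse and direct image.
-/

set_option autoImplicit false
set_option backward.isDefEq.respectTransparency false
set_option backward.isDefEq.respectTransparency.types false

universe u

open CategoryTheory CategoryTheory.Limits AlgebraicGeometry Opposite GrothendieckTopology

namespace Groth.Agent.EtPtsLib

variable {X Y : Scheme.{u}} (f : X ⟶ Y) {Ω : Type u} [Field Ω] [IsSepClosed Ω]
  (ζ : Spec (CommRingCat.of Ω) ⟶ X)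

/-- The fibre of the image point is the fibre of the base change. -/
noncomputable def fiberIso :
    (Scheme.pointSmallEtale (ζ ≫ f)).fiber ≅ EtCoh.bc f ⋙ (Scheme.pointSmallEtale ζ).fiber :=
  NatIso.ofComponents (fun U => Equiv.toIso
    { toFun := liftBc f ζ U
      invFun := fun y => Over.homMk (liftHom ζ y ≫ bcFst f U) (by
        change (liftHom ζ y ≫ bcFst f U) ≫ U.hom = ζ ≫ f
        rw [Category.assoc, bcFst, pullback.condition, ← Category.assoc]
        exact congrArg (· ≫ f) (liftHom_comp ζ y))
      left_inv := fun l => Over.OverMorphism.ext (liftHom_liftBc_fst f ζ U l)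
      right_inv := fun y => fiber_bc_ext f ζ (liftHom_liftBc_fst f ζ U _) })
    fun g => by
      ext l
      exact (liftBc_map f ζ g l).symm

theorem initiallySmall_of_iso {C : Type (u + 1)} [Category.{u} C] {F G : C ⥤ Type u} (α : F ≅ G)
    [InitiallySmall.{u} F.Elements] : InitiallySmall.{u} G.Elements := by
  haveI : (CategoryOfElements.map α.hom).IsEquivalence :=
    (CategoryTheory.Equivalence.mk (CategoryOfElements.map α.hom) (CategoryOfElements.map α.inv)
      (NatIso.ofComponents (fun p => CategoryOfElements.isoMk _ _ (Iso.refl _) (by simp [CategoryOfElements.map]))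
        (fun g => by ext; simp [CategoryOfElements.map]))
      (NatIso.ofComponents (fun p => CategoryOfElements.isoMk _ _ (Iso.refl _) (by simp [CategoryOfElements.map]))
        (fun g => by ext; simp [CategoryOfElements.map]))).isEquivalence_functor
  exact initiallySmall_of_initial_of_initiallySmall (CategoryOfElements.map α.hom)

instance : InitiallySmall.{u} (EtCoh.bc f ⋙ (Scheme.pointSmallEtale ζ).fiber).Elements :=
  initiallySmall_of_iso (fiberIso f ζ)

/-- The image point of `ζ`, as a point of the site. -/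
noncomputable abbrev comapPoint : Point.{u} Y.smallEtaleTopology :=
  (Scheme.pointSmallEtale ζ).comap (EtCoh.bc f) (EtCoh.coverPreserving_bc f)

/-- The image point is the point of the composite. -/
noncomputable def pointIso : Scheme.pointSmallEtale (ζ ≫ f) ≅ comapPoint f ζ where
  hom := ⟨(fiberIso f ζ).inv⟩
  inv := ⟨(fiberIso f ζ).hom⟩
  hom_inv_id := by ext1; simp
  inv_hom_id := by ext1; simp

/-- The stalk of an inverse image is the stalk at the image point. -/
noncomputable def pullStalkIso (A : Type (u + 2)) [Category.{u + 1} A] [HasColimitsOfSize.{u, u} A]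
    [HasProducts.{u} A] [((EtCoh.bc f).sheafPushforwardContinuous A Y.smallEtaleTopology X.smallEtaleTopology).IsRightAdjoint] :
    (EtCoh.bc f).sheafPullback A Y.smallEtaleTopology X.smallEtaleTopology ⋙ (Scheme.pointSmallEtale ζ).sheafFiber ≅
      (Scheme.pointSmallEtale (ζ ≫ f)).sheafFiber where
  hom := ((Scheme.pointSmallEtale ζ).sheafFiberComapIso (EtCoh.bc f) (EtCoh.coverPreserving_bc f) A).inv ≫
    Point.Hom.sheafFiber (pointIso f ζ).hom
  inv := Point.Hom.sheafFiber (pointIso f ζ).inv ≫
    ((Scheme.pointSmallEtale ζ).sheafFiberComapIso (EtCoh.bc f) (EtCoh.coverPreserving_bc f) A).hom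
  hom_inv_id := by
    rw [Category.assoc, ← Category.assoc (Point.Hom.sheafFiber (pointIso f ζ).hom), ← Point.Hom.sheafFiber_comp,
      Iso.inv_hom_id, Point.Hom.sheafFiber_id]
    simp
  inv_hom_id := by
    rw [Category.assoc, Iso.hom_inv_id_assoc, ← Point.Hom.sheafFiber_comp, Iso.hom_inv_id, Point.Hom.sheafFiber_id]

variable {A : Type (u + 2)} [Category.{u + 1} A] [HasColimitsOfSize.{u, u} A] {FC : A → A → Type*} {CC : A → Type (u + 1)}
  [∀ (a b : A), FunLike (FC a b) (CC a) (CC b)] [ConcreteCategory.{u + 1} A FC]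
  [PreservesFilteredColimitsOfSize.{u, u} (forget A)] [(forget A).ReflectsIsomorphisms]

include FC CC

theorem isIso_pushStalk (hL : LiftsLocally f) (hI : BcInducing f) (F : X.Etaleᵒᵖ ⥤ A) : IsIso (pushStalk f ζ F) :=
  ConcreteCategory.isIso_iff_bijective _ |>.2 (pushStalk_bijective f ζ hL hI F)

theorem isIso_comapStalk (hL : LiftsLocally f) (hI : BcInducing f) (F : X.Etaleᵒᵖ ⥤ A) :
    IsIso (SitePts.comapStalk (Scheme.pointSmallEtale ζ) (EtCoh.bc f) (EtCoh.coverPreserving_bc f) A F) := by
  haveI := isIso_pushStalk (A := A) f ζ hL hI F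
  haveI : IsIso ((Point.Hom.presheafFiber (A := A) (pointIso f ζ).inv).app ((EtCoh.bc f).op ⋙ F)) :=
    ⟨⟨(Point.Hom.presheafFiber (A := A) (pointIso f ζ).hom).app _, by
      rw [← NatTrans.comp_app, ← Point.Hom.presheafFiber_comp, Iso.hom_inv_id, Point.Hom.presheafFiber_id]; rfl, by
      rw [← NatTrans.comp_app, ← Point.Hom.presheafFiber_comp, Iso.inv_hom_id, Point.Hom.presheafFiber_id]; rfl⟩⟩
  have e : (Point.Hom.presheafFiber (A := A) (pointIso f ζ).inv).app ((EtCoh.bc f).op ⋙ F) ≫
      SitePts.comapStalk (Scheme.pointSmallEtale ζ) (EtCoh.bc f) (EtCoh.coverPreserving_bc f) A F = pushStalk f ζ F := by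
    refine (Scheme.pointSmallEtale (ζ ≫ f)).presheafFiber_hom_ext fun U l => ?_
    rw [toPresheafFiber_pushStalk, ← Category.assoc]; simp [Point.Hom.presheafFiber_app]
    exact SitePts.toPresheafFiber_comapStalk _ _ _ _ _ _ _
  exact IsIso.of_isIso_fac_left e

variable [HasProducts.{u} A]
  [((EtCoh.bc f).sheafPushforwardContinuous A Y.smallEtaleTopology X.smallEtaleTopology).IsRightAdjoint]

theorem isIso_stalk_counit (hL : LiftsLocally f) (hI : BcInducing f) (F : Sheaf X.smallEtaleTopology A) :
    IsIso ((Scheme.pointSmallEtale ζ).sheafFiber.map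
      (((EtCoh.bc f).sheafAdjunctionContinuous A Y.smallEtaleTopology X.smallEtaleTopology).counit.app F)) :=
  SitePts.isIso_sheafFiber_counit _ _ _ A (fun P => isIso_comapStalk f ζ hL hI P.obj) F

end Groth.Agent.EtPtsLib
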