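import Groth.Agent.EtPtsLib.IntegralStalk
import Groth.Agent.EtPtsLib.Agree
/-!
Base change for direct images along integral morphisms, on stalks.
-/

set_option autoImplicit false
set_option backward.isDefEq.respectTransparency false
set_option backward.isDefEq.respectTransparency.types false

universe u

open CategoryTheory CategoryTheory.Limits AlgebraicGeometry Opposite GrothendieckTopology

namespace Groth.Agent.EtPtsLib

theorem fiber_map_injective {X : Scheme.{u}} {Ω : Type u} [Field Ω] [IsSepClosed Ω]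
    (ζ : Spec (CommRingCat.of Ω) ⟶ X) {U V : X.Etale} (i : U ⟶ V) [Mono i.left] :
    Function.Injective ((Scheme.pointSmallEtale ζ).fiber.map i) := fun a b e =>
  Over.OverMorphism.ext ((cancel_mono i.left).1
    ((liftHom_map ζ i a).symm.trans ((congrArg (liftHom ζ) e).trans (liftHom_map ζ i b))))

theorem isOpenImmersion_bc_openIncl {X X' : Scheme.{u}} (g' : X' ⟶ X) (U : X.Etale) (W : U.left.Opens) :
    IsOpenImmersion ((EtCoh.bc g').map (openIncl U W)).left :=
  MorphismProperty.of_isPullback (EtCoh.isPullback_bc_map g' (openIncl U W)).flip (inferInstance : IsOpenImmersion W.ι)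

section Pre

variable {X X' : Scheme.{u}} (g' : X' ⟶ X) {B : X'.Etale} {U : X.Etale} (k : B ⟶ (EtCoh.bc g').obj U)
  (W : U.left.Opens)

/-- The open of `B` over an open of `U`. -/
noncomputable def bcPre : B.left.Opens := (k.left ≫ bcFst g' U) ⁻¹ᵁ W

/-- The restriction to the open over an open. -/
noncomputable def bcPreMap : openSub B (bcPre g' k W) ⟶ (EtCoh.bc g').obj (openSub U W) :=
  MorphismProperty.Over.homMk
    (pullback.lift (IsOpenImmersion.lift W.ι ((bcPre g' k W).ι ≫ k.left ≫ bcFst g' U) (by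
        rintro _ ⟨v, rfl⟩
        exact ⟨⟨_, v.2⟩, rfl⟩)) ((bcPre g' k W).ι ≫ B.hom) (by
      change _ ≫ W.ι ≫ U.hom = _
      rw [IsOpenImmersion.lift_fac_assoc]
      simp only [Category.assoc, bcFst, pullback.condition]
      exact congrArg ((bcPre g' k W).ι ≫ ·) ((Category.assoc _ _ _).symm.trans (congrArg (· ≫ g') (MorphismProperty.Over.w k)))))
    (pullback.lift_snd _ _ _)

theorem bcPreMap_incl :
    bcPreMap g' k W ≫ (EtCoh.bc g').map (openIncl U W) = openIncl B (bcPre g' k W) ≫ k := by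
  refine bc_hom_ext g' ?_
  refine (Category.assoc _ _ _).trans ((congrArg ((bcPreMap g' k W).left ≫ ·) (bcFst_map g' (openIncl U W))).trans ?_)
  refine ((Category.assoc _ _ _).symm.trans (congrArg (· ≫ W.ι) (pullback.lift_fst _ _ _))).trans ?_
  exact (IsOpenImmersion.lift_fac _ _ _).trans (Category.assoc _ _ _).symm

theorem exists_lift_bcPre {Ω : Type u} [Field Ω] [IsSepClosed Ω] (ζ : Spec (CommRingCat.of Ω) ⟶ X')
    (b : (Scheme.pointSmallEtale ζ).fiber.obj B) (y : (Scheme.pointSmallEtale (ζ ≫ g')).fiber.obj (openSub U W))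
    (hb : (Scheme.pointSmallEtale ζ).fiber.map k b =
      liftBc g' ζ U ((Scheme.pointSmallEtale (ζ ≫ g')).fiber.map (openIncl U W) y)) :
    ∃ w : (Scheme.pointSmallEtale ζ).fiber.obj (openSub B (bcPre g' k W)),
      (Scheme.pointSmallEtale ζ).fiber.map (openIncl B _) w = b ∧
      (Scheme.pointSmallEtale ζ).fiber.map (bcPreMap g' k W) w = liftBc g' ζ _ y := by
  have e : liftHom ζ b ≫ k.left ≫ bcFst g' U = liftHom (ζ ≫ g') y ≫ W.ι := by
    rw [← Category.assoc, ← liftHom_map, hb, liftHom_liftBc_fst]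
    exact liftHom_map _ _ _
  have hmem : liftHom ζ b default ∈ bcPre g' k W := by
    change (k.left ≫ bcFst g' U) (liftHom ζ b default) ∈ W
    rw [← Scheme.Hom.comp_apply, e, Scheme.Hom.comp_apply]
    exact Subtype.coe_prop _
  obtain ⟨w, hw⟩ := exists_fiber_map_eq ζ (openIncl B (bcPre g' k W)) b (⟨_, hmem⟩ : (bcPre g' k W).toScheme) rfl
  refine ⟨w, hw, ?_⟩
  haveI := isOpenImmersion_bc_openIncl g' U W
  refine fiber_map_injective ζ ((EtCoh.bc g').map (openIncl U W)) ?_
  rw [← ConcreteCategory.comp_apply, ← Functor.map_comp, bcPreMap_incl, Functor.map_comp, ConcreteCategory.comp_apply,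
    hw, hb]
  exact (liftBc_map g' ζ (openIncl U W) y).symm

end Pre

variable {X Y X' Y' : Scheme.{u}} (f : X ⟶ Y) (g : Y' ⟶ Y) (f' : X' ⟶ Y') (g' : X' ⟶ X)
  (h : IsPullback g' f' f g)

include h in
/-- The comparison of the iterated base changes. -/
noncomputable def kappa (V : Y.Etale) :
    (EtCoh.bc f').obj ((EtCoh.bc g).obj V) ⟶ (EtCoh.bc g').obj ((EtCoh.bc f).obj V) :=
  MorphismProperty.Over.homMk
    (pullback.lift
      (pullback.lift (bcFst f' ((EtCoh.bc g).obj V) ≫ bcFst g V) (pullback.snd _ f' ≫ g') (by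
        have h1 : bcFst g V ≫ V.hom = ((EtCoh.bc g).obj V).hom ≫ g := pullback.condition
        have h2 : bcFst f' ((EtCoh.bc g).obj V) ≫ ((EtCoh.bc g).obj V).hom = pullback.snd _ f' ≫ f' :=
          pullback.condition
        rw [Category.assoc, h1, reassoc_of% h2, Category.assoc, h.w]))
      (pullback.snd _ f') (pullback.lift_snd _ _ _))
    (pullback.lift_snd _ _ _)

theorem kappa_fst (V : Y.Etale) :
    (kappa f g f' g' h V).left ≫ bcFst g' ((EtCoh.bc f).obj V) ≫ bcFst f V =
      bcFst f' ((EtCoh.bc g).obj V) ≫ bcFst g V := by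
  change pullback.lift _ _ _ ≫ pullback.fst _ g' ≫ pullback.fst V.hom f = _
  rw [pullback.lift_fst_assoc]
  exact pullback.lift_fst _ _ _

/-- Morphisms into an iterated base change are determined by their composite to the base. -/
theorem bc_bc_hom_ext {U : X'.Etale} {V : Y.Etale} {a b : U ⟶ (EtCoh.bc g').obj ((EtCoh.bc f).obj V)}
    (e : a.left ≫ bcFst g' _ ≫ bcFst f V = b.left ≫ bcFst g' _ ≫ bcFst f V) : a = b := by
  refine bc_hom_ext g' (pullback.hom_ext ((Category.assoc _ _ _).trans (e.trans (Category.assoc _ _ _).symm)) ?_)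
  have hc : bcFst g' ((EtCoh.bc f).obj V) ≫ pullback.snd V.hom f =
      ((EtCoh.bc g').obj ((EtCoh.bc f).obj V)).hom ≫ g' := pullback.condition
  refine (Category.assoc _ _ _).trans (Eq.trans ?_ (Category.assoc _ _ _).symm)
  rw [hc, ← Category.assoc, ← Category.assoc, MorphismProperty.Over.w a, MorphismProperty.Over.w b]

variable {Ω : Type u} [Field Ω] [IsAlgClosed Ω] (η : Spec (CommRingCat.of Ω) ⟶ Y')

include h in
/-- The image of a geometric point of the fibre. -/
noncomputable def gptImage (ζ' : EtaleSplit.GPts f' η) : EtaleSplit.GPts f (η ≫ g) :=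
  ⟨ζ'.1 ≫ g', by rw [Category.assoc, h.w, reassoc_of% ζ'.2]⟩

theorem gptImage_bijective : Function.Bijective (gptImage f g f' g' h η) := by
  refine ⟨fun a b e => Subtype.ext (h.hom_ext (congrArg Subtype.val e) (a.2.trans b.2.symm)), fun ζ => ?_⟩
  exact ⟨⟨h.lift ζ.1 η ζ.2, h.lift_snd _ _ _⟩, Subtype.ext (h.lift_fst _ _ _)⟩

include h in
/-- The geometric fibres of a cartesian square agree. -/
noncomputable def fibreChange : pullback f (η ≫ g) ⟶ pullback f' η :=
  pullback.lift (h.lift (pullback.fst f (η ≫ g)) (pullback.snd f (η ≫ g) ≫ η)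
      (by rw [pullback.condition, Category.assoc]))
    (pullback.snd f (η ≫ g)) (h.lift_snd _ _ _)

theorem fibreChange_gptPoint (ζ' : EtaleSplit.GPts f' η) :
    fibreChange f g f' g' h η (gptPoint f (η ≫ g) (gptImage f g f' g' h η ζ')) = gptPoint f' η ζ' := by
  rw [gptPoint, gptPoint, ← EtaleSplit.pt_comp]
  congr 1
  refine pullback.hom_ext (h.hom_ext ?_ ?_) ?_
  · simp [fibreChange, gptImage]
  · simp [fibreChange, gptImage, ζ'.2]
    exact Category.id_comp _
  · simp [fibreChange]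

theorem liftBcAt_kappa (ζ' : EtaleSplit.GPts f' η) (V : Y.Etale)
    (l : (Scheme.pointSmallEtale (η ≫ g)).fiber.obj V) :
    (Scheme.pointSmallEtale ζ'.1).fiber.map (kappa f g f' g' h V)
        (liftBcAt f' η ζ' ((EtCoh.bc g).obj V) (liftBc g η V l)) =
      liftBc g' ζ'.1 ((EtCoh.bc f).obj V) (liftBcAt f (η ≫ g) (gptImage f g f' g' h η ζ') V l) := by
  refine fiber_bc_ext g' ζ'.1 (pullback.hom_ext ?_ ?_)
  · rw [liftHom_liftBc_fst, liftHom_map, Category.assoc, Category.assoc, kappa_fst]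
    refine ((Category.assoc _ _ _).symm.trans (congrArg (· ≫ bcFst g V) (liftHom_liftBcAt_fst f' η ζ' _ _))).trans ?_
    exact (liftHom_liftBc_fst g η V l).trans (liftHom_liftBcAt_fst f (η ≫ g) (gptImage f g f' g' h η ζ') V l).symm
  · have hc : bcFst g' ((EtCoh.bc f).obj V) ≫ pullback.snd V.hom f =
        ((EtCoh.bc g').obj ((EtCoh.bc f).obj V)).hom ≫ g' := pullback.condition
    refine (Category.assoc _ _ _).trans (Eq.trans ?_ (Category.assoc _ _ _).symm)
    rw [hc, ← Category.assoc, ← Category.assoc, liftHom_comp, liftHom_comp]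

section Core

variable {A : Type (u + 2)} [Category.{u + 1} A] [HasColimitsOfSize.{u, u} A] [HasProducts.{u} A]
  [((EtCoh.bc g).sheafPushforwardContinuous A Y.smallEtaleTopology Y'.smallEtaleTopology).IsRightAdjoint]
  [((EtCoh.bc g').sheafPushforwardContinuous A X.smallEtaleTopology X'.smallEtaleTopology).IsRightAdjoint]

variable (F : Sheaf X.smallEtaleTopology A)
  (α : ((EtCoh.bc g).sheafPullback A Y.smallEtaleTopology Y'.smallEtaleTopology).obj
      (((EtCoh.bc f).sheafPushforwardContinuous A Y.smallEtaleTopology X.smallEtaleTopology).obj F) ⟶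
    ((EtCoh.bc f').sheafPushforwardContinuous A Y'.smallEtaleTopology X'.smallEtaleTopology).obj
      (((EtCoh.bc g').sheafPullback A X.smallEtaleTopology X'.smallEtaleTopology).obj F))

include h in
/-- The base change map in terms of sections. -/
def IsBC : Prop :=
  ∀ V : Y.Etale, (((EtCoh.bc g).sheafAdjunctionContinuous A Y.smallEtaleTopology Y'.smallEtaleTopology).homEquiv _ _
      α).hom.app (op V) =
    (((EtCoh.bc g').sheafAdjunctionContinuous A X.smallEtaleTopology X'.smallEtaleTopology).unit.app F).hom.app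
        (op ((EtCoh.bc f).obj V)) ≫
      (((EtCoh.bc g').sheafPullback A X.smallEtaleTopology X'.smallEtaleTopology).obj F).obj.map (kappa f g f' g' h V).op

variable (hα : IsBC f g f' g' h F α)

/-- The map of stalks at the image point. -/
noncomputable def bcStalk :
    (Scheme.pointSmallEtale (η ≫ g)).presheafFiber.obj
        (((EtCoh.bc f).sheafPushforwardContinuous A Y.smallEtaleTopology X.smallEtaleTopology).obj F).obj ⟶
      (Scheme.pointSmallEtale η).presheafFiber.obj ((EtCoh.bc f').op ⋙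
        (((EtCoh.bc g').sheafPullback A X.smallEtaleTopology X'.smallEtaleTopology).obj F).obj) :=
  unitStalk g η _ ≫ (Scheme.pointSmallEtale η).presheafFiber.map α.hom

include hα in
theorem bcStalk_comm (ζ' : EtaleSplit.GPts f' η) :
    bcStalk f g f' g' η F α ≫ pushStalkAt f' η ζ' _ =
      pushStalkAt f (η ≫ g) (gptImage f g f' g' h η ζ') F.obj ≫ unitStalk g' ζ'.1 F := by
  refine (Scheme.pointSmallEtale (η ≫ g)).presheafFiber_hom_ext fun V l => ?_
  have e := hα V
  rw [Adjunction.homEquiv_unit] at e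
  rw [bcStalk, Category.assoc]
  erw [reassoc_of% toPresheafFiber_unitStalk g η _ V l, Point.toPresheafFiber_naturality_assoc,
    toPresheafFiber_pushStalkAt, reassoc_of% toPresheafFiber_pushStalkAt f (η ≫ g) (gptImage f g f' g' h η ζ') F.obj V l,
    toPresheafFiber_unitStalk g' ζ'.1]
  simp only [ObjectProperty.FullSubcategory.comp_hom, NatTrans.comp_app] at e
  erw [reassoc_of% e]
  erw [(Scheme.pointSmallEtale ζ'.1).toPresheafFiber_w, liftBcAt_kappa f g f' g' h η ζ' V l]
  rfl

/-- The map from the stalk at the image of a point of the fibre. -/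
noncomputable def unitStalkAt (ζ' : EtaleSplit.GPts f' η) :
    (Scheme.pointSmallEtale (gptImage f g f' g' h η ζ').1).presheafFiber.obj F.obj ⟶
      (Scheme.pointSmallEtale ζ'.1).presheafFiber.obj
        (((EtCoh.bc g').sheafPullback A X.smallEtaleTopology X'.smallEtaleTopology).obj F).obj :=
  unitStalk g' ζ'.1 F

variable {FC : A → A → Type*} {CC : A → Type (u + 1)}
  [∀ (a b : A), FunLike (FC a b) (CC a) (CC b)] [ConcreteCategory.{u + 1} A FC]

omit [((EtCoh.bc g).sheafPushforwardContinuous A Y.smallEtaleTopology Y'.smallEtaleTopology).IsRightAdjoint] in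
theorem toPresheafFiber_unitStalkAt (ζ' : EtaleSplit.GPts f' η) (U : X.Etale)
    (l : (Scheme.pointSmallEtale (gptImage f g f' g' h η ζ').1).fiber.obj U) :
    (Scheme.pointSmallEtale (gptImage f g f' g' h η ζ').1).toPresheafFiber U l F.obj ≫
        unitStalkAt f g f' g' h η F ζ' =
      (((EtCoh.bc g').sheafAdjunctionContinuous A X.smallEtaleTopology X'.smallEtaleTopology).unit.app F).hom.app (op U) ≫
        (Scheme.pointSmallEtale ζ'.1).toPresheafFiber _ (liftBc g' ζ'.1 U l) _ :=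
  toPresheafFiber_unitStalk g' ζ'.1 F U l

include hα in
theorem bcStalk_comm_apply (ζ' : EtaleSplit.GPts f' η) (x) :
    pushStalkAt f' η ζ' (((EtCoh.bc g').sheafPullback A X.smallEtaleTopology X'.smallEtaleTopology).obj F).obj
        (bcStalk f g f' g' η F α x) =
      unitStalkAt f g f' g' h η F ζ' (pushStalkAt f (η ≫ g) (gptImage f g f' g' h η ζ') F.obj x) := by
  refine (ConcreteCategory.comp_apply _ _ x).symm.trans (Eq.trans ?_ (ConcreteCategory.comp_apply _ _ x))
  rw [bcStalk_comm f g f' g' h η F α hα ζ']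
  rfl

omit [((EtCoh.bc g).sheafPushforwardContinuous A Y.smallEtaleTopology Y'.smallEtaleTopology).IsRightAdjoint] in
/-- Two germs on the base change of a neighbourhood. -/
theorem germs_on_pre (V : Y.Etale) (l : (Scheme.pointSmallEtale (η ≫ g)).fiber.obj V)
    (W : ((EtCoh.bc f).obj V).left.Opens) (s : ToType (F.obj.obj (op (openSub ((EtCoh.bc f).obj V) W))))
    (S : Y'.Etale) (lS : (Scheme.pointSmallEtale η).fiber.obj S) (k₁ : S ⟶ (EtCoh.bc g).obj V)
    (hk₁ : (Scheme.pointSmallEtale η).fiber.map k₁ lS = liftBc g η V l) (ζ' : EtaleSplit.GPts f' η)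
    (y : (Scheme.pointSmallEtale (gptImage f g f' g' h η ζ').1).fiber.obj (openSub ((EtCoh.bc f).obj V) W))
    (hy : (Scheme.pointSmallEtale (gptImage f g f' g' h η ζ').1).fiber.map (openIncl _ W) y =
        liftBcAt f (η ≫ g) (gptImage f g f' g' h η ζ') V l) :
    ∃ w : (Scheme.pointSmallEtale ζ'.1).fiber.obj
        (openSub ((EtCoh.bc f').obj S) (bcPre g' ((EtCoh.bc f').map k₁ ≫ kappa f g f' g' h V) W)),
      (Scheme.pointSmallEtale ζ'.1).fiber.map (openIncl _ _) w = liftBcAt f' η ζ' S lS ∧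
      unitStalkAt f g f' g' h η F ζ' ((Scheme.pointSmallEtale (gptImage f g f' g' h η ζ').1).toPresheafFiber _ y F.obj s) =
        (Scheme.pointSmallEtale ζ'.1).toPresheafFiber _ w
          (((EtCoh.bc g').sheafPullback A X.smallEtaleTopology X'.smallEtaleTopology).obj F).obj
          ((((EtCoh.bc g').sheafPullback A X.smallEtaleTopology X'.smallEtaleTopology).obj F).obj.map
            (bcPreMap g' ((EtCoh.bc f').map k₁ ≫ kappa f g f' g' h V) W).op
            ((((EtCoh.bc g').sheafAdjunctionContinuous A X.smallEtaleTopology X'.smallEtaleTopology).unit.app F).hom.app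
              (op (openSub ((EtCoh.bc f).obj V) W)) s)) := by
  have hkk : (Scheme.pointSmallEtale ζ'.1).fiber.map ((EtCoh.bc f').map k₁ ≫ kappa f g f' g' h V)
      (liftBcAt f' η ζ' S lS) = liftBc g' ζ'.1 _ (liftBcAt f (η ≫ g) (gptImage f g f' g' h η ζ') V l) := by
    rw [Functor.map_comp, ConcreteCategory.comp_apply, liftBcAt_map, hk₁, liftBcAt_kappa]
  obtain ⟨w, hw, hqw⟩ := exists_lift_bcPre g' ((EtCoh.bc f').map k₁ ≫ kappa f g f' g' h V) W ζ'.1 _ y
    (hkk.trans (congrArg _ hy.symm))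
  refine ⟨w, hw, ?_⟩
  rw [(Scheme.pointSmallEtale ζ'.1).toPresheafFiber_w_apply, hqw]
  refine (ConcreteCategory.comp_apply _ _ s).symm.trans (Eq.trans ?_ (ConcreteCategory.comp_apply _ _ s))
  exact congrArg (fun m => (ConcreteCategory.hom (C := A) m) s) (toPresheafFiber_unitStalkAt f g f' g' h η F ζ' _ y)

variable [PreservesFilteredColimitsOfSize.{u, u} (forget A)] [IsIntegralHom f]

omit [IsIntegralHom f] [PreservesFilteredColimitsOfSize.{u, u} (forget A)] in
theorem bijective_unitStalkAt (ζ' : EtaleSplit.GPts f' η) :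
    Function.Bijective (unitStalkAt f g f' g' h η F ζ') :=
  bijective_unitStalk g' ζ'.1 F

include hα h in
/-- The local condition for a family of germs pushed from the other side. -/
theorem bc_local (c : ToType ((Scheme.pointSmallEtale η).presheafFiber.obj ((EtCoh.bc f').op ⋙
      (((EtCoh.bc g').sheafPullback A X.smallEtaleTopology X'.smallEtaleTopology).obj F).obj)))
    (a : ∀ ζ : EtaleSplit.GPts f (η ≫ g), ToType ((Scheme.pointSmallEtale ζ.1).presheafFiber.obj F.obj))
    (ha : ∀ ζ', unitStalkAt f g f' g' h η F ζ' (a (gptImage f g f' g' h η ζ')) =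
      pushStalkAt f' η ζ' (((EtCoh.bc g').sheafPullback A X.smallEtaleTopology X'.smallEtaleTopology).obj F).obj c)
    (p : ↥(pullback f (η ≫ g))) :
    ∃ (U : Y.Etale) (l : (Scheme.pointSmallEtale (η ≫ g)).fiber.obj U)
      (W : ((EtCoh.bc f).obj U).left.Opens) (s : ToType (F.obj.obj (op (openSub ((EtCoh.bc f).obj U) W))))
      (O : Set ↥(pullback f (η ≫ g))), IsClosed (W : Set ((EtCoh.bc f).obj U).left) ∧ IsOpen O ∧ p ∈ O ∧
        fibreMap f (η ≫ g) U l p ∈ W ∧
        ∀ ζ, gptPoint f (η ≫ g) ζ ∈ O →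
          ∀ y : (Scheme.pointSmallEtale ζ.1).fiber.obj (openSub ((EtCoh.bc f).obj U) W),
          (Scheme.pointSmallEtale ζ.1).fiber.map (openIncl _ W) y = liftBcAt f (η ≫ g) ζ U l →
            (Scheme.pointSmallEtale ζ.1).toPresheafFiber _ y F.obj s = a ζ := by
  let H := ((EtCoh.bc g').sheafPullback A X.smallEtaleTopology X'.smallEtaleTopology).obj F
  obtain ⟨ζ₀, rfl⟩ := exists_gpt_point f (η ≫ g) p
  obtain ⟨ζ₀', rfl⟩ := (gptImage_bijective f g f' g' h η).2 ζ₀
  let ζ₀ := gptImage f g f' g' h η ζ₀'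
  obtain ⟨U₀, x₀, t, ht⟩ := (Scheme.pointSmallEtale ζ₀.1).toPresheafFiber_jointly_surjective (a ζ₀)
  obtain ⟨V, W, hW, hh, z, hz⟩ := propA_apply f (propA_of_integral f) U₀ (liftHom ζ₀.1 x₀ default)
  obtain ⟨y₀, hy₀⟩ := exists_fiber_map_eq ζ₀.1 hh x₀ z hz
  have hyW : liftHom ζ₀.1 y₀ ≫ W.ι ≫ ((EtCoh.bc f).obj V).hom = ζ₀.1 := liftHom_comp ζ₀.1 y₀
  let l : (Scheme.pointSmallEtale (η ≫ g)).fiber.obj V := Over.homMk (liftHom ζ₀.1 y₀ ≫ W.ι ≫ bcFst f V) (by
    change (liftHom ζ₀.1 y₀ ≫ W.ι ≫ bcFst f V) ≫ V.hom = η ≫ g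
    simp only [Category.assoc, bcFst, pullback.condition]
    rw [← Category.assoc W.ι, ← Category.assoc]
    exact (congrArg (· ≫ f) hyW).trans ζ₀.2)
  have hy₀l : (Scheme.pointSmallEtale ζ₀.1).fiber.map (openIncl _ W) y₀ = liftBcAt f (η ≫ g) ζ₀ V l := by
    refine fiber_bc_ext f ζ₀.1 ?_
    rw [liftHom_liftBcAt_fst, liftHom_map, Category.assoc]
    rfl
  let s := F.obj.map hh.op t
  have hs₀ : (Scheme.pointSmallEtale ζ₀.1).toPresheafFiber _ y₀ F.obj s = a ζ₀ := by
    rw [(Scheme.pointSmallEtale ζ₀.1).toPresheafFiber_w_apply hh y₀ F.obj t, hy₀]; exact ht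
  obtain ⟨U', l', s', rfl⟩ := (Scheme.pointSmallEtale η).toPresheafFiber_jointly_surjective c
  let E₁ := (Scheme.pointSmallEtale η).fiber.elementsMk ((EtCoh.bc g).obj V) (liftBc g η V l)
  let E₂ := (Scheme.pointSmallEtale η).fiber.elementsMk U' l'
  let S := (IsCofiltered.min E₁ E₂).1
  let lS : (Scheme.pointSmallEtale η).fiber.obj S := (IsCofiltered.min E₁ E₂).2
  let k₁ : S ⟶ (EtCoh.bc g).obj V := (IsCofiltered.minToLeft E₁ E₂).1
  let k₂ : S ⟶ U' := (IsCofiltered.minToRight E₁ E₂).1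
  have hk₁ : (Scheme.pointSmallEtale η).fiber.map k₁ lS = liftBc g η V l := (IsCofiltered.minToLeft E₁ E₂).2
  have hk₂ : (Scheme.pointSmallEtale η).fiber.map k₂ lS = l' := (IsCofiltered.minToRight E₁ E₂).2
  let kk := (EtCoh.bc f').map k₁ ≫ kappa f g f' g' h V
  let P := bcPre g' kk W
  let σ₁ := H.obj.map (bcPreMap g' kk W).op
    ((((EtCoh.bc g').sheafAdjunctionContinuous A X.smallEtaleTopology X'.smallEtaleTopology).unit.app F).hom.app
      (op (openSub ((EtCoh.bc f).obj V) W)) s)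
  let σ₂ := H.obj.map (openIncl _ P ≫ (EtCoh.bc f').map k₂).op s'
  obtain ⟨w₀, hw₀, hw₁⟩ := germs_on_pre f g f' g' h η F V l W s S lS k₁ hk₁ ζ₀' y₀ hy₀l
  have hc : ∀ (ζ' : EtaleSplit.GPts f' η)
      (w : (Scheme.pointSmallEtale ζ'.1).fiber.obj (openSub ((EtCoh.bc f').obj S) P)),
      (Scheme.pointSmallEtale ζ'.1).fiber.map (openIncl _ P) w = liftBcAt f' η ζ' S lS →
      pushStalkAt f' η ζ' H.obj ((Scheme.pointSmallEtale η).toPresheafFiber U' l' ((EtCoh.bc f').op ⋙ H.obj) s') =
        (Scheme.pointSmallEtale ζ'.1).toPresheafFiber _ w H.obj σ₂ := by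
    intro ζ' w hw
    rw [(Scheme.pointSmallEtale ζ'.1).toPresheafFiber_w_apply (openIncl _ P ≫ (EtCoh.bc f').map k₂) w H.obj s',
      pushStalkAt_germ, Functor.map_comp, ConcreteCategory.comp_apply, hw, liftBcAt_map, hk₂]
  let O : Set ↥(pullback f (η ≫ g)) :=
    (fibreChange f g f' g' h η ≫ fibreMap f' η S lS) ⁻¹' (P.ι '' agree H.obj σ₁ σ₂)
  refine ⟨V, l, W, s, O, hW, (P.ι.isOpenEmbedding.isOpenMap _ (isOpen_agree H.obj σ₁ σ₂)).preimage (Scheme.Hom.continuous _),
    ?_, ?_, ?_⟩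
  · refine ⟨liftHom ζ₀'.1 w₀ default, (germ_eq_iff_mem_agree ζ₀'.1 H.obj w₀ σ₁ σ₂).1 ?_, ?_⟩
    · rw [← hw₁, ← hc ζ₀' w₀ hw₀, hs₀, ha]
    · rw [Scheme.Hom.comp_apply, fibreChange_gptPoint, fibreMap_gptPoint, ← hw₀]
      exact (Scheme.Hom.comp_apply _ _ _).symm
  · rw [fibreMap_gptPoint, ← hy₀l]
    change (liftHom ζ₀.1 y₀ ≫ W.ι) default ∈ W
    rw [Scheme.Hom.comp_apply]
    exact Subtype.coe_prop _
  intro ζ hζ y hy
  obtain ⟨ζ', rfl⟩ := (gptImage_bijective f g f' g' h η).2 ζ
  obtain ⟨w, hw, hw₁'⟩ := germs_on_pre f g f' g' h η F V l W s S lS k₁ hk₁ ζ' y hy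
  obtain ⟨v, hv, hvw⟩ := hζ
  refine (bijective_unitStalkAt f g f' g' h η F ζ').1 ?_
  rw [ha, hw₁', hc ζ' w hw, germ_eq_iff_mem_agree]
  rw [Scheme.Hom.comp_apply, fibreChange_gptPoint, fibreMap_gptPoint, ← hw] at hvw
  have : liftHom ζ'.1 w default = v := P.ι.isOpenEmbedding.injective
    ((Scheme.Hom.comp_apply _ _ _).symm.trans hvw.symm)
  rw [this]; exact hv

variable [X.smallEtaleTopology.HasSheafCompose (forget A)] [X'.smallEtaleTopology.HasSheafCompose (forget A)]

include hα in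
theorem bcStalk_bijective : Function.Bijective (bcStalk f g f' g' η F α) := by
  haveI : IsIntegralHom f' := MorphismProperty.of_isPullback h ‹IsIntegralHom f›
  let H := ((EtCoh.bc g').sheafPullback A X.smallEtaleTopology X'.smallEtaleTopology).obj F
  have hF : Presieve.IsSheaf X.smallEtaleTopology (F.obj ⋙ forget A) :=
    (isSheaf_iff_isSheaf_of_type _ _).1 ((sheafCompose X.smallEtaleTopology (forget A)).obj F).2
  have hH : Presieve.IsSheaf X'.smallEtaleTopology (H.obj ⋙ forget A) :=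
    (isSheaf_iff_isSheaf_of_type _ _).1 ((sheafCompose X'.smallEtaleTopology (forget A)).obj H).2
  refine ⟨fun a b e => stalk_ext f (η ≫ g) F.obj hF fun ζ => ?_, fun c => ?_⟩
  · obtain ⟨ζ', rfl⟩ := (gptImage_bijective f g f' g' h η).2 ζ
    exact (bijective_unitStalkAt f g f' g' h η F ζ').1
      (by rw [← bcStalk_comm_apply f g f' g' h η F α hα, ← bcStalk_comm_apply f g f' g' h η F α hα, e])
  choose a' ha' using fun ζ' => (bijective_unitStalkAt f g f' g' h η F ζ').2 (pushStalkAt f' η ζ' H.obj c)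
  let e := Equiv.ofBijective _ (gptImage_bijective f g f' g' h η)
  let a := Equiv.piCongrLeft
    (fun ζ : EtaleSplit.GPts f (η ≫ g) => ToType ((Scheme.pointSmallEtale ζ.1).presheafFiber.obj F.obj)) e a'
  have ha : ∀ ζ', unitStalkAt f g f' g' h η F ζ' (a (gptImage f g f' g' h η ζ')) = pushStalkAt f' η ζ' H.obj c := fun ζ' =>
    (congrArg (unitStalkAt f g f' g' h η F ζ') (Equiv.piCongrLeft_apply_apply
      (fun ζ : EtaleSplit.GPts f (η ≫ g) => ToType ((Scheme.pointSmallEtale ζ.1).presheafFiber.obj F.obj)) e a' ζ')).trans (ha' ζ')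
  obtain ⟨b, hb⟩ := stalk_exists f (η ≫ g) F.obj hF a (bc_local f g f' g' h η F α hα c a ha)
  exact ⟨b, stalk_ext f' η H.obj hH fun ζ' => by rw [bcStalk_comm_apply f g f' g' h η F α hα, hb, ha]⟩

include hα h in
theorem stalk_bc_bijective : Function.Bijective ((Scheme.pointSmallEtale η).presheafFiber.map α.hom) := by
  have hb := bcStalk_bijective f g f' g' h η F α hα
  obtain ⟨-, hs⟩ := bijective_unitStalk g η
    (((EtCoh.bc f).sheafPushforwardContinuous A Y.smallEtaleTopology X.smallEtaleTopology).obj F)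
  have e : ∀ x, (Scheme.pointSmallEtale η).presheafFiber.map α.hom (unitStalk g η
      (((EtCoh.bc f).sheafPushforwardContinuous A Y.smallEtaleTopology X.smallEtaleTopology).obj F) x) =
      bcStalk f g f' g' η F α x := fun x => (ConcreteCategory.comp_apply _ _ x).symm
  refine ⟨fun a b hab => ?_, fun c => ?_⟩
  · obtain ⟨a, rfl⟩ := hs a
    obtain ⟨b, rfl⟩ := hs b
    rw [hb.1 ((e a).symm.trans (hab.trans (e b)))]
  · obtain ⟨x, hx⟩ := hb.2 c
    exact ⟨_, (e x).trans hx⟩

end Core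

end Groth.Agent.EtPtsLib
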