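import Groth.Agent.EtPtsLib.PropA
import Groth.Agent.EtPtsLib.Parts
import Groth.Agent.EtPtsLib.PushStalk
/-!
Geometric points of an integral morphism over one geometric point are separated étale locally on the target.
-/

set_option autoImplicit false
set_option backward.isDefEq.respectTransparency false
set_option backward.isDefEq.respectTransparency.types false

universe u

open CategoryTheory CategoryTheory.Limits AlgebraicGeometry

namespace Groth.Agent.EtPtsLib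

variable {Ω : Type u} [Field Ω] [IsAlgClosed Ω]

theorem exists_sep_ring {R A : CommRingCat.{u}} (φ : R ⟶ A) (hφ : φ.hom.IsIntegral) (q : Spec (.of Ω) ⟶ Spec R)
    (ζ₀ ζ₁ : EtaleSplit.GPts (Spec.map φ) q) (hne : ζ₀ ≠ ζ₁) :
    ∃ (T : Scheme.{u}) (gT : T ⟶ Spec R) (qT : Spec (.of Ω) ⟶ T) (hq : qT ≫ gT = q)
      (W : (pullback (Spec.map φ) gT).Opens), AlgebraicGeometry.Etale gT ∧
      IsClosed (W : Set ↥(pullback (Spec.map φ) gT)) ∧
      EtaleSplit.pt (pullback.lift ζ₀.1 qT (ζ₀.2.trans hq.symm)) ∈ W ∧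
      EtaleSplit.pt (pullback.lift ζ₁.1 qT (ζ₁.2.trans hq.symm)) ∉ W := by
  obtain ⟨ψ₀, hψ₀⟩ : ∃ ψ, Spec.map ψ = ζ₀.1 := ⟨_, Spec.map_preimage _⟩
  obtain ⟨ψ₁, hψ₁⟩ : ∃ ψ, Spec.map ψ = ζ₁.1 := ⟨_, Spec.map_preimage _⟩
  obtain ⟨a, ha⟩ : ∃ a, ψ₀.hom a ≠ ψ₁.hom a := by
    by_contra h
    push Not at h
    refine hne (Subtype.ext ?_)
    rw [← hψ₀, ← hψ₁, CommRingCat.hom_ext (RingHom.ext h)]
  algebraize [φ.hom]
  haveI : Algebra.IsIntegral R A := ⟨hφ⟩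
  let A₁ := Algebra.adjoin R ({a} : Set A)
  haveI : Module.Finite R A₁ := by
    haveI : Algebra.FiniteType R A₁ :=
      (Subalgebra.fg_iff_finiteType A₁).mp (Subalgebra.fg_def.2 ⟨{a}, Set.finite_singleton a, rfl⟩)
    haveI : Algebra.IsIntegral R A₁ := ⟨fun x =>
      (isIntegral_algHom_iff A₁.val Subtype.val_injective).1 (Algebra.IsIntegral.isIntegral (x : A))⟩
    exact Algebra.IsIntegral.finite
  let φ₁ : R ⟶ CommRingCat.of A₁ := CommRingCat.ofHom (algebraMap R A₁)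
  let ρ : CommRingCat.of A₁ ⟶ A := CommRingCat.ofHom (algebraMap A₁ A)
  have hρ : Spec.map ρ ≫ Spec.map φ₁ = Spec.map φ := by rw [← Spec.map_comp]; rfl
  haveI : IsFinite (Spec.map φ₁) := (IsFinite.SpecMap_iff φ₁).2 (RingHom.finite_algebraMap.2 ‹_›)
  let p : ULift.{u} Bool → EtaleSplit.GPts (Spec.map φ₁) q := fun b =>
    ⟨(if b.down then ζ₀ else ζ₁).1 ≫ Spec.map ρ, by rw [Category.assoc, hρ]; exact (if b.down then ζ₀ else ζ₁).2⟩
  have hp : p ⟨true⟩ ≠ p ⟨false⟩ := fun h => ha (by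
    have h1 : ζ₀.1 ≫ Spec.map ρ = ζ₁.1 ≫ Spec.map ρ := congrArg Subtype.val h
    rw [← hψ₀, ← hψ₁, ← Spec.map_comp, ← Spec.map_comp] at h1
    exact congrArg (fun k => k.hom ⟨a, Algebra.subset_adjoin rfl⟩) (Spec.map_injective h1))
  obtain ⟨T, gT, qT, hq, V, hgT, hcl, hd, hV⟩ := EtaleSplit.exists_split_separated (Spec.map φ₁) q p
    (by rintro ⟨_ | _⟩ ⟨_ | _⟩ h <;> first | rfl | exact absurd h hp | exact absurd h.symm hp)
    fun _ => Scheme.Hom.quasiFiniteAt _ _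
  let m := pullback.map (Spec.map φ) gT (Spec.map φ₁) gT (Spec.map ρ) (𝟙 T) (𝟙 _)
    (by rw [hρ, Category.comp_id]) (by simp)
  have hm : ∀ b, EtaleSplit.pt (pullback.lift (p b).1 qT ((p b).2.trans hq.symm)) =
      m (EtaleSplit.pt (pullback.lift (if b.down then ζ₀ else ζ₁).1 qT ((if b.down then ζ₀ else ζ₁).2.trans hq.symm))) := by
    intro b
    rw [← EtaleSplit.pt_comp]
    congr 1
    apply pullback.hom_ext <;> simp [m, p]
  have h0 := (hV ⟨true⟩).2.1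
  have h1 := (hV ⟨false⟩).2.1
  rw [hm] at h0 h1
  simp only [↓reduceIte, Bool.false_eq_true] at h0 h1
  refine ⟨T, gT, qT, hq, m ⁻¹ᵁ V ⟨true⟩, hgT, (hcl _).preimage m.continuous, h0, fun h => ?_⟩
  exact Set.disjoint_left.1 (hd ⟨true⟩ ⟨false⟩ (by simp)) h h1

/-- Two geometric points over the same one lie in complementary clopen parts étale locally on the target. -/
theorem exists_sep {X Y : Scheme.{u}} (f : X ⟶ Y) [IsIntegralHom f] (q : Spec (.of Ω) ⟶ Y)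
    (ζ₀ ζ₁ : EtaleSplit.GPts f q) (hne : ζ₀ ≠ ζ₁) :
    ∃ (T : Scheme.{u}) (gT : T ⟶ Y) (qT : Spec (.of Ω) ⟶ T) (hq : qT ≫ gT = q)
      (W : (pullback f gT).Opens), AlgebraicGeometry.Etale gT ∧
      IsClosed (W : Set ↥(pullback f gT)) ∧
      EtaleSplit.pt (pullback.lift ζ₀.1 qT (ζ₀.2.trans hq.symm)) ∈ W ∧
      EtaleSplit.pt (pullback.lift ζ₁.1 qT (ζ₁.2.trans hq.symm)) ∉ W := by
  obtain ⟨_, ⟨(Y₀ : Y.Opens), hY₀, rfl⟩, hy, -⟩ := Y.isBasis_affineOpens.exists_subset_of_mem_open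
    (Set.mem_univ (EtaleSplit.pt q)) isOpen_univ
  have hX₀ : IsAffineOpen (f ⁻¹ᵁ Y₀) := hY₀.preimage f
  let φ := f.appLE Y₀ (f ⁻¹ᵁ Y₀) le_rfl
  let i := hX₀.fromSpec
  let j := hY₀.fromSpec
  have hsq : Spec.map φ ≫ j = i ≫ f := hY₀.SpecMap_appLE_fromSpec f hX₀ le_rfl
  have hφ : φ.hom.IsIntegral := IsIntegralHom.SpecMap_iff.1 (by
    have h1 : hX₀.isoSpec.inv ≫ (f ∣_ Y₀) = Spec.map φ ≫ hY₀.isoSpec.inv := by
      rw [← cancel_mono Y₀.ι, Category.assoc, morphismRestrict_ι, Category.assoc, hY₀.isoSpec_inv_ι,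
        ← Category.assoc, hX₀.isoSpec_inv_ι, hsq]
    rw [← MorphismProperty.cancel_right_of_respectsIso @IsIntegralHom _ hY₀.isoSpec.inv, ← h1]
    infer_instance)
  have hrj : Set.range q ⊆ Set.range j := by
    rintro _ ⟨z, rfl⟩
    rw [EtaleSplit.pt_eq q z, hY₀.range_fromSpec]
    exact hy
  let q₀ := IsOpenImmersion.lift j q hrj
  have hq₀ : q₀ ≫ j = q := IsOpenImmersion.lift_fac _ _ _
  have hlift : ∀ ζ : EtaleSplit.GPts f q, Set.range ζ.1 ⊆ Set.range i := fun ζ => by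
    rintro _ ⟨z, rfl⟩
    rw [EtaleSplit.pt_eq ζ.1 z, hX₀.range_fromSpec]
    change f (EtaleSplit.pt ζ.1) ∈ Y₀
    rw [← EtaleSplit.pt_comp, ζ.2]
    exact hy
  let L : EtaleSplit.GPts f q → EtaleSplit.GPts (Spec.map φ) q₀ := fun ζ =>
    ⟨IsOpenImmersion.lift i ζ.1 (hlift ζ), by
      rw [← cancel_mono j, Category.assoc, hsq, IsOpenImmersion.lift_fac_assoc, ζ.2, hq₀]⟩
  have hL : ∀ ζ, (L ζ).1 ≫ i = ζ.1 := fun ζ => IsOpenImmersion.lift_fac _ _ _
  obtain ⟨T, gT, qT, hq, W, hgT, hW, h0, h1⟩ := exists_sep_ring φ hφ q₀ (L ζ₀) (L ζ₁) fun h =>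
    hne (Subtype.ext (by rw [← hL ζ₀, ← hL ζ₁, h]))
  haveI := hgT
  have hr : Set.range (pullback.fst f (gT ≫ j)) ⊆ Set.range i := by
    rintro _ ⟨z, rfl⟩
    rw [hX₀.range_fromSpec]
    change f (pullback.fst f (gT ≫ j) z) ∈ Y₀
    rw [← Scheme.Hom.comp_apply, pullback.condition, ← Category.assoc, Scheme.Hom.comp_apply]
    have : j ((pullback.snd f (gT ≫ j) ≫ gT) z) ∈ Set.range j := ⟨_, rfl⟩
    rwa [hY₀.range_fromSpec] at this
  let e : pullback f (gT ≫ j) ⟶ pullback (Spec.map φ) gT :=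
    pullback.lift (IsOpenImmersion.lift i (pullback.fst f (gT ≫ j)) hr) (pullback.snd f (gT ≫ j)) (by
      rw [← cancel_mono j, Category.assoc, hsq, IsOpenImmersion.lift_fac_assoc, Category.assoc]
      exact pullback.condition)
  have he : ∀ ζ : EtaleSplit.GPts f q, EtaleSplit.pt (pullback.lift (L ζ).1 qT ((L ζ).2.trans hq.symm)) =
      e (EtaleSplit.pt (pullback.lift ζ.1 qT (by rw [← Category.assoc, hq, hq₀]; exact ζ.2))) := fun ζ => by
    rw [← EtaleSplit.pt_comp]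
    congr 1
    apply pullback.hom_ext
    · rw [pullback.lift_fst, Category.assoc, pullback.lift_fst, ← cancel_mono i, hL, Category.assoc]
      simp only [IsOpenImmersion.lift_fac]
      exact (pullback.lift_fst _ _ _).symm
    · simp [e]
  rw [he] at h0 h1
  exact ⟨T, gT ≫ j, qT, by rw [← Category.assoc, hq, hq₀], e ⁻¹ᵁ W, inferInstance,
    hW.preimage e.continuous, h0, h1⟩

end Groth.Agent.EtPtsLib
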